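import Mathlib.GroupTheory.SpecificGroups.Dihedral
import Mathlib.GroupTheory.OrderOfElement
import Mathlib.Tactic.Group
import Mathlib.Tactic.Linarith

/-!
# Subgroups generated by two involutions
-/

set_option autoImplicit false

namespace CfsgLib.Invol

variable {G : Type*} [Group G]

theorem mul_self_eq_one {x : G} (hx : orderOf x = 2) : x * x = 1 := by
  have h := pow_orderOf_eq_one x
  rwa [hx, pow_two] at h

theorem inv_eq_self {x : G} (hx : orderOf x = 2) : x⁻¹ = x :=
  inv_eq_of_mul_eq_one_right (mul_self_eq_one hx)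

theorem ne_one_of_invol {x : G} (hx : orderOf x = 2) : x ≠ 1 := by
  rintro rfl
  simp at hx

theorem orderOf_eq_two {x : G} (h1 : x ≠ 1) (h2 : x * x = 1) : orderOf x = 2 :=
  orderOf_eq_prime (by rwa [pow_two]) h1

theorem orderOf_conj (g x : G) : orderOf (g * x * g⁻¹) = orderOf x :=
  (MulAut.conj g).orderOf_eq x

/-- `x` inverts `x * y` when `x`, `y` square to `1`. -/
theorem conj_prod {x y : G} (hx : x * x = 1) (hy : y * y = 1) :
    x * (x * y) * x⁻¹ = (x * y)⁻¹ := by
  rw [inv_eq_of_mul_eq_one_right hx, mul_inv_rev, inv_eq_of_mul_eq_one_right hx,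
    inv_eq_of_mul_eq_one_right hy, ← mul_assoc, hx, one_mul]

theorem conj_zpow_of_inverts {x r : G} (h : x * r * x⁻¹ = r⁻¹) (k : ℤ) :
    x * r ^ k * x⁻¹ = r ^ (-k) := by
  have h2 := map_zpow (MulAut.conj x) r k
  simp only [MulAut.conj_apply] at h2
  rw [h2, h, inv_zpow, zpow_neg]

theorem mul_zpow_of_inverts {x r : G} (h : x * r * x⁻¹ = r⁻¹) (k : ℤ) :
    x * r ^ k = r ^ (-k) * x := by
  rw [← conj_zpow_of_inverts h k]; group

theorem zpow_mul_of_inverts {x r : G} (h : x * r * x⁻¹ = r⁻¹) (k : ℤ) :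
    r ^ k * x = x * r ^ (-k) := by
  rw [mul_zpow_of_inverts h, neg_neg]

/-- Elements of the subgroup generated by two elements squaring to one. -/
theorem mem_closure_pair_iff {x y : G} (hx : x * x = 1) (hy : y * y = 1) {d : G} :
    d ∈ Subgroup.closure ({x, y} : Set G) ↔
      ∃ k : ℤ, d = (x * y) ^ k ∨ d = x * (x * y) ^ k := by
  have h := conj_prod hx hy
  constructor
  · intro hd
    induction hd using Subgroup.closure_induction with
    | mem z hz =>
      simp only [Set.mem_insert_iff, Set.mem_singleton_iff] at hz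
      rcases hz with rfl | rfl
      · exact ⟨0, Or.inr (by simp)⟩
      · exact ⟨1, Or.inr (by rw [zpow_one, ← mul_assoc, hx, one_mul])⟩
    | one => exact ⟨0, Or.inl (by simp)⟩
    | mul a b _ _ iha ihb =>
      obtain ⟨i, rfl | rfl⟩ := iha <;> obtain ⟨j, rfl | rfl⟩ := ihb
      · exact ⟨i + j, Or.inl (zpow_add _ _ _).symm⟩
      · exact ⟨-i + j, Or.inr (by rw [← mul_assoc, zpow_mul_of_inverts h, mul_assoc, ← zpow_add])⟩
      · exact ⟨i + j, Or.inr (by rw [mul_assoc, ← zpow_add])⟩
      · exact ⟨-i + j, Or.inl (by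
          rw [← mul_assoc, mul_assoc x, zpow_mul_of_inverts h, ← mul_assoc, hx, one_mul,
            ← zpow_add])⟩
    | inv a _ iha =>
      obtain ⟨i, rfl | rfl⟩ := iha
      · exact ⟨-i, Or.inl (zpow_neg _ _).symm⟩
      · exact ⟨i, Or.inr (by
          rw [mul_inv_rev, inv_eq_of_mul_eq_one_right hx, ← zpow_neg, zpow_mul_of_inverts h,
            neg_neg])⟩
  · have hxm : x ∈ Subgroup.closure ({x, y} : Set G) := Subgroup.subset_closure (by simp)
    have hym : y ∈ Subgroup.closure ({x, y} : Set G) := Subgroup.subset_closure (by simp)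
    rintro ⟨k, rfl | rfl⟩
    · exact zpow_mem (mul_mem hxm hym) k
    · exact mul_mem hxm (zpow_mem (mul_mem hxm hym) k)

theorem left_mem_closure_pair (x y : G) : x ∈ Subgroup.closure ({x, y} : Set G) :=
  Subgroup.subset_closure (by simp)

theorem right_mem_closure_pair (x y : G) : y ∈ Subgroup.closure ({x, y} : Set G) :=
  Subgroup.subset_closure (by simp)

/-- Conjugates of `x` inside `closure {x, y}`. -/
theorem conj_eq_of_mem_closure_pair {x y : G} (hx : x * x = 1) (hy : y * y = 1) {d : G}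
    (hd : d ∈ Subgroup.closure ({x, y} : Set G)) :
    ∃ k : ℤ, d * x * d⁻¹ = x * (x * y) ^ (2 * k) := by
  have h := conj_prod hx hy
  obtain ⟨k, rfl | rfl⟩ := (mem_closure_pair_iff hx hy).1 hd
  · refine ⟨-k, ?_⟩
    rw [zpow_mul_of_inverts h, mul_assoc, ← zpow_neg, ← zpow_add]
    ring_nf
  · refine ⟨k, ?_⟩
    rw [mul_inv_rev, inv_eq_of_mul_eq_one_right hx, ← zpow_neg, mul_assoc x, zpow_mul_of_inverts h,
      ← mul_assoc x x, hx, one_mul, ← mul_assoc, ← zpow_add, zpow_mul_of_inverts h]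
    ring_nf

theorem conj_by_zpow {x y : G} (hx : x * x = 1) (hy : y * y = 1) (k : ℤ) :
    (x * y) ^ k * x * ((x * y) ^ k)⁻¹ = x * (x * y) ^ (-2 * k) := by
  rw [zpow_mul_of_inverts (conj_prod hx hy), mul_assoc, ← zpow_neg, ← zpow_add]
  ring_nf

/-- The second generator is `x * (x * y)`. -/
theorem right_eq {x : G} (y : G) (hx : x * x = 1) : y = x * (x * y) ^ (1 : ℤ) := by
  rw [zpow_one, ← mul_assoc, hx, one_mul]

theorem exists_conj_of_odd {x y : G} (hx : x * x = 1) (hy : y * y = 1)
    (hodd : Odd (orderOf (x * y))) :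
    ∃ d ∈ Subgroup.closure ({x, y} : Set G), d * x * d⁻¹ = y := by
  obtain ⟨m, hm⟩ := hodd
  refine ⟨(x * y) ^ (m : ℤ), (mem_closure_pair_iff hx hy).2 ⟨m, Or.inl rfl⟩, ?_⟩
  rw [conj_by_zpow hx hy]
  conv_rhs => rw [right_eq y hx]
  congr 1
  rw [← orderOf_dvd_sub_iff_zpow_eq_zpow]
  exact ⟨-1, by rw [hm]; push_cast; ring⟩

theorem isConj_of_odd {x y : G} (hx : x * x = 1) (hy : y * y = 1)
    (hodd : Odd (orderOf (x * y))) : IsConj x y := by
  obtain ⟨d, -, hd⟩ := exists_conj_of_odd hx hy hodd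
  exact isConj_iff.2 ⟨d, hd⟩

theorem conj_ne_of_even {x y : G} (hx : x * x = 1) (hy : y * y = 1)
    (heven : Even (orderOf (x * y))) {d : G} (hd : d ∈ Subgroup.closure ({x, y} : Set G)) :
    d * x * d⁻¹ ≠ y := by
  intro he
  obtain ⟨k, hk⟩ := conj_eq_of_mem_closure_pair hx hy hd
  rw [he] at hk
  nth_rw 1 [right_eq y hx] at hk
  have h1 := orderOf_dvd_sub_iff_zpow_eq_zpow.2 (mul_left_cancel hk)
  obtain ⟨m, hm⟩ := heven
  rw [hm] at h1
  obtain ⟨c, hc⟩ := h1
  push_cast at hc
  have : (1 : ℤ) = 2 * (k + m * c) := by linarith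
  omega

section Middle

variable {x y : G}

/-- `(x * y) ^ (n / 2)` for `n` the (even, positive) order of `x * y`. -/
theorem middle_orderOf (heven : Even (orderOf (x * y))) (hpos : 0 < orderOf (x * y)) :
    orderOf ((x * y) ^ (orderOf (x * y) / 2)) = 2 := by
  obtain ⟨m, hm⟩ := heven
  have hd : orderOf (x * y) / 2 = m := by omega
  rw [hd]
  apply orderOf_eq_two
  · intro h
    have := Nat.le_of_dvd (by omega) (orderOf_dvd_of_pow_eq_one h)
    omega
  · rw [← pow_add, ← hm, pow_orderOf_eq_one]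

theorem middle_commute (hx : x * x = 1) (hy : y * y = 1) (heven : Even (orderOf (x * y))) :
    Commute ((x * y) ^ (orderOf (x * y) / 2)) x ∧ Commute ((x * y) ^ (orderOf (x * y) / 2)) y := by
  have hz2 : (x * y) ^ (orderOf (x * y) / 2) * (x * y) ^ (orderOf (x * y) / 2) = 1 := by
    obtain ⟨m, hm⟩ := heven
    rw [← pow_add, show orderOf (x * y) / 2 + orderOf (x * y) / 2 = orderOf (x * y) by omega,
      pow_orderOf_eq_one]
  have h := zpow_mul_of_inverts (conj_prod hx hy) ((orderOf (x * y) / 2 : ℕ) : ℤ)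
  rw [zpow_natCast, zpow_neg, zpow_natCast, inv_eq_of_mul_eq_one_right hz2] at h
  have hc : Commute ((x * y) ^ (orderOf (x * y) / 2)) x := h
  refine ⟨hc, ?_⟩
  have := hc.mul_right (Commute.pow_self (x * y) (orderOf (x * y) / 2))
  rwa [← mul_assoc, hx, one_mul] at this

theorem conj_middle_iff (hx : x * x = 1) (hy : y * y = 1) (heven : Even (orderOf (x * y))) :
    (∃ d ∈ Subgroup.closure ({x, y} : Set G),
        d * x * d⁻¹ = x * (x * y) ^ (orderOf (x * y) / 2)) ↔ 4 ∣ orderOf (x * y) := by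
  obtain ⟨m, hm⟩ := heven
  have hd : orderOf (x * y) / 2 = m := by omega
  rw [hd, ← zpow_natCast]
  constructor
  · rintro ⟨d, hd, he⟩
    obtain ⟨k, hk⟩ := conj_eq_of_mem_closure_pair hx hy hd
    rw [hk] at he
    obtain ⟨c, hc⟩ := orderOf_dvd_sub_iff_zpow_eq_zpow.2 (mul_left_cancel he)
    rw [hm] at hc ⊢
    push_cast at hc
    have h2 : (m : ℤ) = 2 * (k - m * c) := by linarith
    omega
  · rintro ⟨c, hc⟩
    refine ⟨(x * y) ^ (-(c : ℤ)), (mem_closure_pair_iff hx hy).2 ⟨_, Or.inl rfl⟩, ?_⟩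
    rw [conj_by_zpow hx hy]
    congr 2
    omega

/-- Two non-conjugate involutions have a common commuting involution lying in the subgroup they
generate. -/
theorem exists_middle_of_not_isConj [Finite G] (hx : orderOf x = 2) (hy : orderOf y = 2)
    (hnc : ¬ IsConj x y) :
    Even (orderOf (x * y)) ∧ orderOf ((x * y) ^ (orderOf (x * y) / 2)) = 2 ∧
      Commute ((x * y) ^ (orderOf (x * y) / 2)) x ∧ Commute ((x * y) ^ (orderOf (x * y) / 2)) y := by
  have hev : Even (orderOf (x * y)) := by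
    by_contra h
    exact hnc (isConj_of_odd (mul_self_eq_one hx) (mul_self_eq_one hy)
      (Nat.not_even_iff_odd.1 h))
  exact ⟨hev, middle_orderOf hev (orderOf_pos _),
    middle_commute (mul_self_eq_one hx) (mul_self_eq_one hy) hev⟩

end Middle

/-- For distinct involutions `x, y`, `x` is outside the cyclic subgroup generated by `x * y`. -/
theorem left_notMem_zpowers {x y : G} (hx : orderOf x = 2) (hy : orderOf y = 2) (hxy : x ≠ y) :
    x ∉ Subgroup.zpowers (x * y) := by
  intro hmem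
  obtain ⟨k, hk⟩ := Subgroup.mem_zpowers_iff.1 hmem
  have hx' := mul_self_eq_one hx
  have hy' := mul_self_eq_one hy
  have hc : Commute x (x * y) := by
    have hc' : Commute ((x * y) ^ k) (x * y) := (Commute.refl _).zpow_left k
    rwa [hk] at hc'
  have hr : (x * y) ^ (2 : ℤ) = 1 := by
    have h := conj_prod hx' hy'
    rw [hc.eq, mul_inv_cancel_right] at h
    rw [zpow_two]
    nth_rw 2 [h]
    exact mul_inv_cancel _
  rcases Int.even_or_odd' k with ⟨j, rfl | rfl⟩
  · rw [zpow_mul, hr, one_zpow] at hk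
    exact ne_one_of_invol hx hk.symm
  · rw [zpow_add, zpow_mul, hr, one_zpow, one_mul, zpow_one] at hk
    exact ne_one_of_invol hy (mul_left_cancel (hk.trans (mul_one x).symm))

theorem orderOf_eq_two_of_notMem_zpowers {x y : G} (hx : orderOf x = 2) (hy : orderOf y = 2)
    (hxy : x ≠ y) {d : G} (hd : d ∈ Subgroup.closure ({x, y} : Set G))
    (hd' : d ∉ Subgroup.zpowers (x * y)) : orderOf d = 2 := by
  have hx' := mul_self_eq_one hx
  have hy' := mul_self_eq_one hy
  obtain ⟨k, rfl | rfl⟩ := (mem_closure_pair_iff hx' hy').1 hd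
  · exact absurd (Subgroup.zpow_mem_zpowers _ _) hd'
  · apply orderOf_eq_two
    · intro h
      apply left_notMem_zpowers hx hy hxy
      have hm := inv_mem (Subgroup.zpow_mem_zpowers (x * y) k)
      rwa [← eq_inv_of_mul_eq_one_left h] at hm
    · rw [← mul_assoc, mul_assoc x, zpow_mul_of_inverts (conj_prod hx' hy'), ← mul_assoc, hx',
        one_mul, ← zpow_add, neg_add_cancel, zpow_zero]

/-- The map from a dihedral group given by an inverting element. -/
def dihedralHom {n : ℕ} [NeZero n] (x r : G) (hx : x * x = 1) (hr : r ^ n = 1)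
    (h : x * r * x⁻¹ = r⁻¹) : DihedralGroup n →* G where
  toFun
    | .r i => r ^ (i.val : ℤ)
    | .sr i => x * r ^ (i.val : ℤ)
  map_one' := by
    show r ^ ((0 : ZMod n).val : ℤ) = 1
    simp
  map_mul' := by
    have key : ∀ (i : ZMod n) (z : ℤ), (z : ZMod n) = i → r ^ z = r ^ (i.val : ℤ) := by
      intro i z hz
      rw [← orderOf_dvd_sub_iff_zpow_eq_zpow]
      refine (Int.natCast_dvd_natCast.2 (orderOf_dvd_of_pow_eq_one hr)).trans ?_
      rw [← ZMod.intCast_zmod_eq_zero_iff_dvd]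
      push_cast
      rw [hz, ZMod.natCast_val, ZMod.cast_id', id, sub_self]
    rintro (i | i) (j | j)
    · show r ^ ((i + j).val : ℤ) = r ^ (i.val : ℤ) * r ^ (j.val : ℤ)
      rw [← zpow_add]; exact (key _ _ (by push_cast; simp)).symm
    · show x * r ^ ((j - i).val : ℤ) = r ^ (i.val : ℤ) * (x * r ^ (j.val : ℤ))
      rw [← mul_assoc, zpow_mul_of_inverts h, mul_assoc, ← zpow_add]
      congr 1; exact (key _ _ (by push_cast; simp; ring)).symm
    · show x * r ^ ((i + j).val : ℤ) = x * r ^ (i.val : ℤ) * r ^ (j.val : ℤ)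
      rw [mul_assoc, ← zpow_add]
      congr 1; exact (key _ _ (by push_cast; simp)).symm
    · show r ^ ((j - i).val : ℤ) = x * r ^ (i.val : ℤ) * (x * r ^ (j.val : ℤ))
      rw [mul_assoc x, ← mul_assoc (r ^ (i.val : ℤ)), zpow_mul_of_inverts h, ← mul_assoc,
        ← mul_assoc, hx, one_mul, ← zpow_add]
      exact (key _ _ (by push_cast; simp; ring)).symm

/-- Two distinct involutions generate a dihedral group. -/
theorem nonempty_closure_pair_mulEquiv [Finite G] {x y : G} (hx : orderOf x = 2)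
    (hy : orderOf y = 2) (hxy : x ≠ y) :
    Nonempty (↥(Subgroup.closure ({x, y} : Set G)) ≃* DihedralGroup (orderOf (x * y))) := by
  have hx' := mul_self_eq_one hx
  have hy' := mul_self_eq_one hy
  have : NeZero (orderOf (x * y)) := ⟨(orderOf_pos _).ne'⟩
  let f := dihedralHom x (x * y) hx' (pow_orderOf_eq_one _) (conj_prod hx' hy')
  have hinj : Function.Injective f := by
    rw [injective_iff_map_eq_one]
    rintro (i | i) hi
    · have h1 : (x * y) ^ (i.val : ℤ) = 1 := hi
      rw [zpow_natCast] at h1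
      have h2 := Nat.eq_zero_of_dvd_of_lt (orderOf_dvd_of_pow_eq_one h1) (ZMod.val_lt i)
      rw [(ZMod.val_eq_zero i).1 h2]
      rfl
    · have h1 : x * (x * y) ^ (i.val : ℤ) = 1 := hi
      exfalso
      apply left_notMem_zpowers hx hy hxy
      have hm := inv_mem (Subgroup.zpow_mem_zpowers (x * y) (i.val : ℤ))
      rwa [← eq_inv_of_mul_eq_one_left h1] at hm
  have hrange : f.range = Subgroup.closure ({x, y} : Set G) := by
    apply le_antisymm
    · rintro _ ⟨(i | i), rfl⟩
      · exact (mem_closure_pair_iff hx' hy').2 ⟨_, Or.inl rfl⟩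
      · exact (mem_closure_pair_iff hx' hy').2 ⟨_, Or.inr rfl⟩
    · rw [Subgroup.closure_le]
      rintro z hz
      simp only [Set.mem_insert_iff, Set.mem_singleton_iff] at hz
      rcases hz with rfl | rfl
      · exact ⟨.sr 0, by show z * (z * y) ^ ((0 : ZMod _).val : ℤ) = z; simp⟩
      · refine ⟨.sr 1, ?_⟩
        show x * (x * z) ^ ((1 : ZMod (orderOf (x * z))).val : ℤ) = z
        conv_rhs => rw [right_eq z hx']
        congr 1
        rw [← orderOf_dvd_sub_iff_zpow_eq_zpow, ← ZMod.intCast_zmod_eq_zero_iff_dvd]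
        push_cast
        simp
  exact ⟨((MonoidHom.ofInjective hinj).trans (MulEquiv.subgroupCongr hrange)).symm⟩

end CfsgLib.Invol
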