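import Cfsg.Agent.Lib.Invol.Dihedral
import Cfsg.Prelude.Def_Involutions
import Mathlib.GroupTheory.Sylow
import Mathlib.GroupTheory.GroupAction.Quotient
import Mathlib.Data.SetLike.Fintype

/-!
# Strongly embedded subgroups: elementary characterisations
-/

set_option autoImplicit false

namespace CfsgLib.Invol

variable {G : Type*} [Group G] [Finite G]

theorem even_card_of_orderOf_two_mem {K : Subgroup G} {s : G} (hs : orderOf s = 2) (hsK : s ∈ K) :
    Even (Nat.card K) := by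
  have h := orderOf_dvd_natCard (⟨s, hsK⟩ : K)
  rw [Subgroup.orderOf_mk, hs] at h
  exact even_iff_two_dvd.2 h

theorem exists_orderOf_two_of_even_card {K : Subgroup G} (h : Even (Nat.card K)) :
    ∃ s ∈ K, orderOf s = 2 := by
  haveI : Fact (Nat.Prime 2) := ⟨Nat.prime_two⟩
  obtain ⟨s, hs⟩ := exists_prime_orderOf_dvd_card' 2 (G := K) (even_iff_two_dvd.1 h)
  exact ⟨s, s.2, (Subgroup.orderOf_coe s).trans hs⟩

theorem mem_map_conj_iff {g x : G} {H : Subgroup G} :
    x ∈ H.map (MulAut.conj g).toMonoidHom ↔ g⁻¹ * x * g ∈ H := by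
  rw [Subgroup.mem_map_equiv, MulAut.conj_symm_apply]

/-- In a strongly embedded subgroup, elements moving an involution of `H` into `H` lie in `H`. -/
theorem isStronglyEmbedded_iff_fusion {H : Subgroup G} (hH : H ≠ ⊤) (heven : Even (Nat.card H)) :
    Cfsg.IsStronglyEmbedded H ↔
      ∀ t ∈ H, orderOf t = 2 → ∀ g : G, g * t * g⁻¹ ∈ H → g ∈ H := by
  constructor
  · intro hse t ht ht2 g hg
    by_contra hgH
    refine (Nat.not_even_iff_odd.2 (hse.2.2 g hgH)) (even_card_of_orderOf_two_mem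
      (s := g * t * g⁻¹) (by rw [orderOf_conj, ht2]) ⟨hg, mem_map_conj_iff.2 ?_⟩)
    rwa [show g⁻¹ * (g * t * g⁻¹) * g = t by group]
  · intro h
    refine ⟨hH, heven, fun g hg => Nat.not_even_iff_odd.1 fun hev => hg ?_⟩
    obtain ⟨s, ⟨hs, hs'⟩, hs2⟩ := exists_orderOf_two_of_even_card hev
    refine h (g⁻¹ * s * g) (mem_map_conj_iff.1 hs') ?_ g ?_
    · have e := orderOf_conj g⁻¹ s
      rw [inv_inv] at e
      rw [e, hs2]
    · rwa [show g * (g⁻¹ * s * g) * g⁻¹ = s by group]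

theorem isStronglyEmbedded_iff_centralizers {H : Subgroup G} (hH : H ≠ ⊤)
    (heven : Even (Nat.card H)) :
    Cfsg.IsStronglyEmbedded H ↔
      ((∀ t ∈ H, orderOf t = 2 → Subgroup.centralizer ({t} : Set G) ≤ H) ∧
        (∀ t ∈ H, ∀ s ∈ H, orderOf t = 2 → orderOf s = 2 → IsConj t s →
          ∃ h ∈ H, h * t * h⁻¹ = s)) := by
  rw [isStronglyEmbedded_iff_fusion hH heven]
  constructor
  · intro h
    refine ⟨fun t ht ht2 g hg => h t ht ht2 g ?_, fun t ht s hs ht2 _ hc => ?_⟩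
    · rw [Subgroup.mem_centralizer_singleton_iff] at hg
      rwa [hg, mul_inv_cancel_right]
    · obtain ⟨g, hg⟩ := isConj_iff.1 hc
      exact ⟨g, h t ht ht2 g (hg ▸ hs), hg⟩
  · rintro ⟨h1, h2⟩ t ht ht2 g hg
    obtain ⟨h, hh, he⟩ := h2 t ht _ hg ht2 (by rw [orderOf_conj, ht2]) (isConj_iff.2 ⟨g, rfl⟩)
    have hc : h⁻¹ * g ∈ Subgroup.centralizer ({t} : Set G) := by
      rw [Subgroup.mem_centralizer_singleton_iff, ← mul_inv_eq_iff_eq_mul]
      calc h⁻¹ * g * t * (h⁻¹ * g)⁻¹ = h⁻¹ * (g * t * g⁻¹) * h := by group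
        _ = h⁻¹ * (h * t * h⁻¹) * h := by rw [he]
        _ = t := by group
    have := H.mul_mem hh (h1 t ht ht2 hc)
    rwa [mul_inv_cancel_left] at this

theorem isStronglyEmbedded_iff_fixed_coset {H : Subgroup G} (hH : H ≠ ⊤)
    (heven : Even (Nat.card H)) :
    Cfsg.IsStronglyEmbedded H ↔
      ∀ t ∈ H, orderOf t = 2 → Nat.card {c : G ⧸ H // t • c = c} = 1 := by
  rw [isStronglyEmbedded_iff_fusion hH heven]
  refine forall_congr' fun t => forall_congr' fun ht => forall_congr' fun ht2 => ?_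
  have hfix : ∀ g : G, t • (QuotientGroup.mk g : G ⧸ H) = QuotientGroup.mk g ↔
      g⁻¹ * t * g ∈ H := by
    intro g
    rw [MulAction.Quotient.smul_mk, QuotientGroup.eq, smul_eq_mul]
    rw [show (t * g)⁻¹ * g = (g⁻¹ * t * g)⁻¹ by group, Subgroup.inv_mem_iff]
  have h1 : t • (QuotientGroup.mk 1 : G ⧸ H) = QuotientGroup.mk 1 := (hfix 1).2 (by simpa using ht)
  rw [Nat.card_eq_one_iff_unique]
  constructor
  · intro h
    refine ⟨⟨fun a b => ?_⟩, ⟨⟨_, h1⟩⟩⟩
    obtain ⟨a, ha⟩ := a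
    obtain ⟨b, hb⟩ := b
    induction a using QuotientGroup.induction_on with
    | H a =>
      induction b using QuotientGroup.induction_on with
      | H b =>
        have ha' := h a⁻¹ (by rw [inv_inv]; exact (hfix a).1 ha)
        have hb' := h b⁻¹ (by rw [inv_inv]; exact (hfix b).1 hb)
        exact Subtype.ext (QuotientGroup.eq.2 (H.mul_mem ha' (inv_inv b ▸ H.inv_mem hb')))
  · rintro ⟨⟨hsub⟩, -⟩ g hg
    have h := hsub ⟨_, h1⟩ ⟨QuotientGroup.mk g⁻¹, (hfix g⁻¹).2 (by rwa [inv_inv])⟩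
    have h' : (1 : G)⁻¹ * g⁻¹ ∈ H := QuotientGroup.eq.1 (congrArg Subtype.val h)
    simpa using h'

/-- `H` is strongly embedded when it contains the normalisers of the nontrivial subgroups of a
Sylow 2-subgroup of itself. -/
theorem isStronglyEmbedded_iff_normalizers {H : Subgroup G} (hH : H ≠ ⊤) (P : Sylow 2 ↥H)
    (hP : (P : Subgroup ↥H) ≠ ⊥) :
    Cfsg.IsStronglyEmbedded H ↔ (∀ X : Subgroup ↥H, X ≤ (P : Subgroup ↥H) → X ≠ ⊥ →
      Subgroup.normalizer ((X.map H.subtype : Subgroup G) : Set G) ≤ H) := by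
  haveI : Fact (Nat.Prime 2) := ⟨Nat.prime_two⟩
  haveI : Nontrivial (P : Subgroup ↥H) := (Subgroup.nontrivial_iff_ne_bot _).2 hP
  haveI := P.isPGroup'.center_nontrivial
  have hcZ : Even (Nat.card (Subgroup.center (P : Subgroup ↥H))) := by
    obtain ⟨k, hk⟩ := (P.isPGroup'.to_subgroup (Subgroup.center _)).exists_card_eq
    have hlt := Finite.one_lt_card (α := Subgroup.center (P : Subgroup ↥H))
    rw [hk] at hlt ⊢
    rcases Nat.eq_zero_or_pos k with rfl | hpos
    · simp at hlt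
    · exact even_iff_two_dvd.2 (dvd_pow_self 2 hpos.ne')
  obtain ⟨z₀, hzZ, hz2⟩ := exists_orderOf_two_of_even_card hcZ
  obtain ⟨⟨z, hzH⟩, hzP⟩ := z₀
  have hz : orderOf z = 2 := by
    rw [← hz2, Subgroup.orderOf_mk, Subgroup.orderOf_mk]
  have heven : Even (Nat.card H) := even_card_of_orderOf_two_mem hz hzH
  constructor
  · intro hse X hXP hX g hg
    obtain ⟨k, hk⟩ := (P.isPGroup'.to_le hXP).exists_card_eq
    have hXev : Even (Nat.card X) := by
      have : 1 < Nat.card X := X.one_lt_card_iff_ne_bot.2 hX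
      rw [hk] at this ⊢
      rcases Nat.eq_zero_or_pos k with rfl | hpos
      · simp at this
      · exact even_iff_two_dvd.2 (dvd_pow_self 2 hpos.ne')
    obtain ⟨⟨s, hsH⟩, hsX, hs2⟩ := exists_orderOf_two_of_even_card hXev
    have hs : orderOf s = 2 := by rwa [Subgroup.orderOf_mk] at hs2
    refine (isStronglyEmbedded_iff_fusion hH heven).1 hse s hsH hs g ?_
    obtain ⟨y, -, hy⟩ := (Subgroup.mem_normalizer_iff.1 hg s).1 ⟨_, hsX, rfl⟩
    exact hy ▸ y.2
  · intro hN
    rw [isStronglyEmbedded_iff_fusion hH heven]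
    have hcent : ∀ (u : G) (hu : u ∈ H), (⟨u, hu⟩ : ↥H) ∈ P → u ≠ 1 →
        Subgroup.centralizer ({u} : Set G) ≤ H := by
      intro u hu huP hu1 g hg
      refine hN (Subgroup.zpowers ⟨u, hu⟩) (Subgroup.zpowers_le.2 huP) ?_ ?_
      · rw [Ne, Subgroup.zpowers_eq_bot]
        exact fun h => hu1 (congrArg Subtype.val h)
      · rw [MonoidHom.map_zpowers]
        show g ∈ Subgroup.normalizer (Subgroup.zpowers u : Set G)
        rw [Subgroup.mem_normalizer_iff]
        rw [Subgroup.mem_centralizer_singleton_iff] at hg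
        intro x
        constructor
        · intro hx
          obtain ⟨i, rfl⟩ := Subgroup.mem_zpowers_iff.1 hx
          rw [(Commute.zpow_right (hg : Commute g u) i).eq, mul_inv_cancel_right]
          exact Subgroup.zpow_mem_zpowers _ _
        · intro hx
          obtain ⟨i, hi⟩ := Subgroup.mem_zpowers_iff.1 hx
          refine Subgroup.mem_zpowers_iff.2 ⟨i, ?_⟩
          have e := (Commute.zpow_right (Commute.inv_left (hg : Commute g u)) i).eq
          calc u ^ i = g⁻¹ * u ^ i * g := by rw [e, inv_mul_cancel_right]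
            _ = g⁻¹ * (g * x * g⁻¹) * g := by rw [← hi]
            _ = x := by group
    have hz1 : z ≠ 1 := ne_one_of_invol hz
    -- step one: the central involution
    have key : ∀ g : G, g * z * g⁻¹ ∈ H → g ∈ H := by
      intro g hg
      obtain ⟨Q, hQ⟩ := (IsPGroup.of_card (G := Subgroup.zpowers (⟨g * z * g⁻¹, hg⟩ : ↥H))
        (p := 2) (n := 1) (by rw [Nat.card_zpowers, Subgroup.orderOf_mk, orderOf_conj, hz,
          pow_one])).exists_le_sylow
      obtain ⟨h, hh⟩ := MulAction.exists_smul_eq ↥H Q P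
      have hwP : h * (⟨g * z * g⁻¹, hg⟩ : ↥H) * h⁻¹ ∈ P := by
        rw [← hh]
        exact (Subgroup.smul_mem_pointwise_smul_iff (a := MulAut.conj h)
          (x := (⟨g * z * g⁻¹, hg⟩ : ↥H)) (S := (Q : Subgroup ↥H))).2
          (hQ (Subgroup.mem_zpowers _))
      set g' : G := (h : G) * g with hg'
      suffices g' ∈ H by
        have := H.mul_mem (H.inv_mem h.2) this
        rwa [hg', inv_mul_cancel_left] at this
      have hw : g' * z * g'⁻¹ ∈ H := by
        rw [show g' * z * g'⁻¹ = ((h * (⟨g * z * g⁻¹, hg⟩ : ↥H) * h⁻¹ : ↥H) : G) by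
          simp [hg', mul_assoc]]
        exact Subtype.prop _
      have hw1 : g' * z * g'⁻¹ ≠ 1 := fun h1 => hz1 (by
        rwa [mul_inv_eq_one, mul_eq_left] at h1)
      have hwP' : (⟨g' * z * g'⁻¹, hw⟩ : ↥H) ∈ P := by
        convert hwP using 1
        exact Subtype.ext (by simp [hg', mul_assoc])
      have hCw := hcent _ hw hwP' hw1
      set P' : Subgroup G := (P : Subgroup ↥H).map H.subtype with hP'
      have hle : P'.map (MulAut.conj g').toMonoidHom ≤ H := by
        rintro _ ⟨_, ⟨q, hq, rfl⟩, rfl⟩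
        apply hCw
        rw [Subgroup.mem_centralizer_singleton_iff]
        have hc : (q : G) * z = z * q :=
          congrArg (fun y : (P : Subgroup ↥H) => ((y : ↥H) : G))
            (Subgroup.mem_center_iff.1 hzZ ⟨q, hq⟩)
        show g' * q * g'⁻¹ * (g' * z * g'⁻¹) = g' * z * g'⁻¹ * (g' * q * g'⁻¹)
        calc g' * q * g'⁻¹ * (g' * z * g'⁻¹) = g' * (q * z) * g'⁻¹ := by group
          _ = g' * (z * q) * g'⁻¹ := by rw [hc]
          _ = _ := by group
      have hp2 : IsPGroup 2 ((P'.map (MulAut.conj g').toMonoidHom).comap H.subtype) :=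
        ((P.isPGroup'.map _).map _).comap_of_injective _ H.subtype_injective
      obtain ⟨R, hR⟩ := hp2.exists_le_sylow
      obtain ⟨k, hk⟩ := MulAction.exists_smul_eq ↥H R P
      have hnorm : (k : G) * g' ∈ Subgroup.normalizer (P' : Set G) := by
        rw [Subgroup.mem_normalizer_iff_map_conj_eq]
        refine Subgroup.eq_of_le_of_card_ge ?_ (le_of_eq ?_)
        · rintro _ ⟨q, hq, rfl⟩
          have hm : g' * q * g'⁻¹ ∈ H := hle ⟨q, hq, rfl⟩
          have hqR : (⟨g' * q * g'⁻¹, hm⟩ : ↥H) ∈ R := hR ⟨q, hq, rfl⟩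
          refine ⟨k * ⟨g' * q * g'⁻¹, hm⟩ * k⁻¹, ?_, ?_⟩
          · rw [← hk]
            exact (Subgroup.smul_mem_pointwise_smul_iff (a := MulAut.conj k)
              (x := (⟨g' * q * g'⁻¹, hm⟩ : ↥H)) (S := (R : Subgroup ↥H))).2 hqR
          · show (k : G) * (g' * q * g'⁻¹) * (k : G)⁻¹ = (k : G) * g' * q * ((k : G) * g')⁻¹
            group
        · exact (Subgroup.card_map_of_injective (MulEquiv.injective _)).symm
      have := H.mul_mem (H.inv_mem k.2) (hN _ le_rfl hP hnorm)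
      rwa [inv_mul_cancel_left] at this
    -- step two: arbitrary involutions
    intro t ht ht2 g hg
    obtain ⟨Q, hQ⟩ := (IsPGroup.of_card (G := Subgroup.zpowers (⟨t, ht⟩ : ↥H))
        (p := 2) (n := 1) (by rw [Nat.card_zpowers, Subgroup.orderOf_mk, ht2,
          pow_one])).exists_le_sylow
    obtain ⟨a, ha⟩ := MulAction.exists_smul_eq ↥H Q P
    obtain ⟨R, hR⟩ := (IsPGroup.of_card (G := Subgroup.zpowers (⟨g * t * g⁻¹, hg⟩ : ↥H))
        (p := 2) (n := 1) (by rw [Nat.card_zpowers, Subgroup.orderOf_mk, orderOf_conj, ht2,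
          pow_one])).exists_le_sylow
    obtain ⟨b, hb⟩ := MulAction.exists_smul_eq ↥H R P
    set t' : G := a * t * (a : G)⁻¹ with ht'
    set g' : G := b * g * (a : G)⁻¹ with hg'
    suffices g' ∈ H by
      have := H.mul_mem (H.mul_mem (H.inv_mem b.2) this) a.2
      rwa [hg', show (b : G)⁻¹ * (b * g * (a : G)⁻¹) * a = g by group] at this
    have htH : t' ∈ H := H.mul_mem (H.mul_mem a.2 ht) (H.inv_mem a.2)
    have htP : (⟨t', htH⟩ : ↥H) ∈ P := by
      rw [← ha]
      exact (Subgroup.smul_mem_pointwise_smul_iff (a := MulAut.conj a)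
        (x := (⟨t, ht⟩ : ↥H)) (S := (Q : Subgroup ↥H))).2 (hQ (Subgroup.mem_zpowers _))
    have hse : g' * t' * g'⁻¹ = b * (g * t * g⁻¹) * (b : G)⁻¹ := by rw [hg', ht']; group
    have hsH : g' * t' * g'⁻¹ ∈ H := hse ▸ H.mul_mem (H.mul_mem b.2 hg) (H.inv_mem b.2)
    have hsP : (⟨g' * t' * g'⁻¹, hsH⟩ : ↥H) ∈ P := by
      rw [← hb, show (⟨g' * t' * g'⁻¹, hsH⟩ : ↥H) = b * ⟨g * t * g⁻¹, hg⟩ * b⁻¹ from
        Subtype.ext hse]
      exact (Subgroup.smul_mem_pointwise_smul_iff (a := MulAut.conj b)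
        (x := (⟨g * t * g⁻¹, hg⟩ : ↥H)) (S := (R : Subgroup ↥H))).2 (hR (Subgroup.mem_zpowers _))
    have ht'2 : orderOf t' = 2 := by rw [ht', orderOf_conj, ht2]
    refine key g' (hcent _ hsH hsP (ne_one_of_invol (by rw [orderOf_conj, ht'2])) ?_)
    rw [Subgroup.mem_centralizer_singleton_iff]
    have hc : t' * z = z * t' :=
      congrArg (fun y : (P : Subgroup ↥H) => ((y : ↥H) : G))
        (Subgroup.mem_center_iff.1 hzZ ⟨⟨t', htH⟩, htP⟩)
    calc g' * z * g'⁻¹ * (g' * t' * g'⁻¹) = g' * (z * t') * g'⁻¹ := by group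
      _ = g' * (t' * z) * g'⁻¹ := by rw [hc]
      _ = _ := by group

end CfsgLib.Invol
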