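import Cfsg.Agent.Lib.Invol.HomocyclicBlock

/-!
# Averaging over the coset of a normal complement in a section

For a `p`-element `x` whose centraliser has a normal `p`-complement `K`, summing a character over
`xK` projects onto the principal block.  Together with the class algebra formula this turns counts
of pairs of involutions into sums over the principal block.
-/

set_option autoImplicit false

open scoped ComplexConjugate

namespace CfsgLib.Invol.SectionAverage

universe u

variable {G : Type u} [Group G] [Finite G] {p : ℕ} {M : Ideal Cfsg.AlgInt}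

/-- The principal block kernel of a group with a normal `p`-complement. -/
theorem sum_principal_mul [Fact p.Prime] (hM : Cfsg.IsPModular p M) (K : Subgroup G)
    [K.Normal] [DecidablePred (· ∈ K)] (hK : ¬ p ∣ Nat.card K) {k : ℕ} (hidx : K.index = p ^ k)
    (g : G) :
    ∑ ψ ∈ BlockCol.pBlock M G, (ψ : G → ℂ) 1 * conj ((ψ : G → ℂ) g) =
      if g ∈ K then (K.index : ℂ) else 0 := by
  classical
  cases nonempty_fintype G
  set f : G → ℂ := fun g => if g ∈ K then (K.index : ℂ) else 0 with hf
  have hfcl : Cfsg.IsClassFunction G f := fun g c =>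
    if_congr ⟨fun h => by simpa [mul_assoc] using ‹K.Normal›.conj_mem _ h c⁻¹,
      fun h => ‹K.Normal›.conj_mem _ h c⟩ rfl rfl
  have hinner : ∀ ψ : Cfsg.IrrCharacter G, Cfsg.classInner f (ψ : G → ℂ) =
      if ψ ∈ BlockCol.pBlock M G then conj ((ψ : G → ℂ) 1) else 0 := by
    intro ψ
    have hG : (Nat.card G : ℂ) ≠ 0 := Nat.cast_ne_zero.2 Nat.card_pos.ne'
    have h0 : ∑ g : G, f g * conj ((ψ : G → ℂ) g) =
        (K.index : ℂ) * conj (∑ n : K, (ψ : G → ℂ) (1 * (n : G))) := by
      simp only [hf, ite_mul, zero_mul, ← Finset.sum_filter, map_sum, Finset.mul_sum, one_mul]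
      rw [Finset.sum_subtype (Finset.univ.filter fun g : G => g ∈ K) (p := (· ∈ K))
        (fun g => by simp) (fun g => (K.index : ℂ) * conj ((ψ : G → ℂ) g))]
    rw [Cfsg.classInner, h0]
    split_ifs with hψ
    · rw [BlockCol.mem_pBlock, BlockCol.mem_principalBlock_iff_trivial hM K hK hidx] at hψ
      rw [Finset.sum_congr rfl (g := fun _ => (ψ : G → ℂ) 1) (fun n _ => by
        rw [one_mul]; exact hψ n n.2), Finset.sum_const, Finset.card_univ, nsmul_eq_mul, map_mul,
        map_natCast, ← Nat.card_eq_fintype_card, ← mul_assoc (K.index : ℂ), ← Nat.cast_mul,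
        K.index_mul_card, inv_mul_cancel_left₀ hG]
    · rw [BlockCol.mem_pBlock, BlockCol.mem_principalBlock_iff_trivial hM K hK hidx] at hψ
      rw [CfsgLib.Blk83.sum_coset_eq_zero ψ K hψ 1, map_zero, mul_zero, mul_zero]
  have h := congrFun (CfsgLib.Char.IsClassFunction.eq_sum_classInner hfcl) g
  simp only [Finset.sum_apply, Pi.smul_apply, smul_eq_mul, hinner,
    ite_mul, zero_mul, Finset.sum_ite_mem, Finset.univ_inter] at h
  have hreal : conj (f g) = f g := by
    simp only [hf]; split_ifs <;> simp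
  rw [show (if g ∈ K then (K.index : ℂ) else 0) = f g from rfl, ← hreal, h, map_sum]
  exact Finset.sum_congr rfl fun ψ _ => by rw [map_mul, Complex.conj_conj]

open scoped Classical in
/-- The sum over `xK` is the projection onto the principal block. -/
theorem sum_section_coset [Fact p.Prime] (hM : Cfsg.IsPModular p M) {x : G}
    (hx : ∃ k : ℕ, orderOf x = p ^ k) (K : Subgroup (Subgroup.centralizer ({x} : Set G)))
    [K.Normal] [Fintype K] (hK : ¬ p ∣ Nat.card K) {k : ℕ} (hidx : K.index = p ^ k)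
    (χ : Cfsg.IrrCharacter G) :
    ∑ n : K, (χ : G → ℂ) (x * ((n : Subgroup.centralizer ({x} : Set G)) : G)) =
      if χ ∈ BlockCol.pBlock M G then (Nat.card K : ℂ) * (χ : G → ℂ) x else 0 := by
  cases nonempty_fintype G
  haveI : Fintype (Cfsg.principalBlock M (Subgroup.centralizer ({x} : Set G))) := Fintype.ofFinite _
  have h1 : ¬ p ∣ orderOf (1 : Subgroup.centralizer ({x} : Set G)) := by
    rw [orderOf_one]; exact (Fact.out : p.Prime).not_dvd_one
  have hker : ∀ c : Subgroup.centralizer ({x} : Set G),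
      CfsgLib.BlockRank.projKer (Cfsg.principalBlock M (Subgroup.centralizer ({x} : Set G))) 1 c =
        if c ∈ K then (Nat.card K : ℂ)⁻¹ else 0 := by
    intro c
    rw [CfsgLib.BlockRank.projKer, Finset.sum_congr (s₂ := BlockCol.pBlock M _)
      (by ext ψ; rw [Set.mem_toFinset, BlockCol.mem_pBlock]) (fun _ _ => rfl),
      sum_principal_mul hM K hK hidx]
    split_ifs
    · rw [← K.index_mul_card, Nat.cast_mul, mul_inv, mul_right_comm, inv_mul_cancel₀, one_mul]
      exact Nat.cast_ne_zero.2 K.index_ne_zero_of_finite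
    · rw [mul_zero]
  have h := BlockCol.blockPart_translate hM hx χ 1 h1
  simp only [CfsgLib.BlockRank.blockPart_eq_projKer, hker, ite_mul, zero_mul,
    ← Finset.sum_filter, ← Finset.mul_sum, OneMemClass.coe_one, mul_one] at h
  rw [Finset.sum_subtype (p := (· ∈ K)) _ (fun c => by simp)
    (fun c : Subgroup.centralizer ({x} : Set G) => (χ : G → ℂ) (x * (c : G))),
    inv_mul_eq_iff_eq_mul₀ (Nat.cast_ne_zero.2 Nat.card_pos.ne')] at h
  rw [h, mul_ite, mul_zero]
  split_ifs <;> rfl

/-- The class algebra formula for products of two conjugates of an involution. -/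
theorem sum_sq_mul_div [Fintype G] [DecidableEq G] {t : G} (ht : t⁻¹ = t) (g : G) :
    (Fintype.card G : ℂ) *
        ∑ χ : Cfsg.IrrCharacter G, (χ : G → ℂ) t * (χ : G → ℂ) t * (χ : G → ℂ) g / (χ : G → ℂ) 1 =
      ((Finset.univ.filter fun ab : G × G =>
        ab.1 * t * ab.1⁻¹ * (ab.2 * t * ab.2⁻¹) = g).card : ℂ) := by
  classical
  have hG : (Fintype.card G : ℂ) ≠ 0 := Nat.cast_ne_zero.2 Fintype.card_ne_zero
  have hsum : ∀ χ : Cfsg.IrrCharacter G,
      (Fintype.card G : ℂ) *
          ((χ : G → ℂ) t * (χ : G → ℂ) t * (χ : G → ℂ) g / (χ : G → ℂ) 1) * (Fintype.card G : ℂ) =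
        (χ : G → ℂ) 1 * ∑ b : G, ∑ a : G, (χ : G → ℂ) (a * t * a⁻¹ * (b * t * b⁻¹ * g)) := by
    intro χ
    have h1 := CfsgLib.Char.IsIrrCharacter.apply_one_ne_zero χ.2
    have hin : ∀ b, (χ : G → ℂ) 1 * ∑ a : G, (χ : G → ℂ) (a * t * a⁻¹ * (b * t * b⁻¹ * g)) =
        (Fintype.card G : ℂ) * ((χ : G → ℂ) t * (χ : G → ℂ) (b * t * b⁻¹ * g)) := fun b => by
      rw [mul_comm]; exact CfsgLib.Blk83.sum_conj_mul χ t _
    have hout := CfsgLib.Blk83.sum_conj_mul χ t g
    rw [Finset.mul_sum, Finset.sum_congr rfl fun b _ => hin b, ← Finset.mul_sum, ← Finset.mul_sum,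
      ← mul_assoc (Fintype.card G : ℂ)]
    field_simp
    linear_combination -((χ : G → ℂ) t) * hout
  refine mul_right_cancel₀ hG ?_
  rw [Finset.mul_sum, Finset.sum_mul, Finset.sum_congr rfl fun χ _ => hsum χ]
  simp only [Finset.mul_sum]
  rw [Finset.sum_comm]
  simp only [Finset.sum_comm (s := (Finset.univ : Finset (Cfsg.IrrCharacter G)))]
  simp only [CfsgLib.Char.sum_apply_one_mul, Nat.card_eq_fintype_card]
  rw [← Finset.sum_product', Finset.univ_product_univ, Finset.sum_ite, Finset.sum_const_zero,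
    add_zero, Finset.sum_const, nsmul_eq_mul]
  congr 2
  -- `a·b·g = 1` is `b a = g⁻¹`, and inverting the product swaps the factors
  refine Finset.card_bij (fun ba _ => (ba.1, ba.2)) ?_ ?_ ?_
  · intro ba hba
    rw [Finset.mem_filter] at hba ⊢
    refine ⟨Finset.mem_univ _, ?_⟩
    have h := hba.2
    rw [← mul_assoc] at h
    rw [eq_inv_of_mul_eq_one_right h]
    simp [mul_inv_rev, ht, mul_assoc]
  · intro a _ b _ h; exact h
  · intro ab hab
    refine ⟨ab, ?_, rfl⟩
    rw [Finset.mem_filter] at hab ⊢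
    refine ⟨Finset.mem_univ _, ?_⟩
    rw [← hab.2]
    simp only [← mul_assoc]
    have e : ∀ a : G, a * t * a⁻¹ * a * t * a⁻¹ = 1 := fun a => by
      rw [inv_mul_cancel_right, mul_assoc a t t,
        show t * t = 1 by conv_lhs => arg 1; rw [← ht]
                          rw [inv_mul_cancel], mul_one, mul_inv_cancel]
    calc _ = ab.2 * t * ab.2⁻¹ * (ab.1 * t * ab.1⁻¹ * ab.1 * t * ab.1⁻¹) * (ab.2 * t * ab.2⁻¹) := by
          simp only [mul_assoc]
      _ = 1 := by rw [e, mul_one]; simpa only [mul_assoc] using e ab.2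

end CfsgLib.Invol.SectionAverage
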