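import Cfsg.Agent.Lib.Invol.Dihedral
import Mathlib.GroupTheory.Index
import Mathlib.Algebra.Group.Subgroup.Finite
import Mathlib.Data.SetLike.Fintype
import Mathlib.Algebra.Group.Conj
import Mathlib.Algebra.BigOperators.Group.Finset.Basic
import Mathlib.Algebra.Order.BigOperators.Group.Finset
import Mathlib.Tactic.Ring
import Mathlib.SetTheory.Cardinal.Finite
import Mathlib.GroupTheory.Subgroup.Centralizer

/-!
# Counting involutions, real elements, and the Brauer-Fowler inequality
-/

set_option autoImplicit false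

namespace CfsgLib.Invol

variable {G : Type*} [Group G]

theorem mem_centralizer_singleton_iff' {x g : G} :
    g ∈ Subgroup.centralizer ({x} : Set G) ↔ g * x * g⁻¹ = x := by
  rw [Subgroup.mem_centralizer_singleton_iff, mul_inv_eq_iff_eq_mul]

/-- The conjugacy class of `x` has as many elements as the centraliser has cosets. -/
theorem card_isConj_eq_index (x : G) :
    Nat.card {u : G // IsConj x u} = (Subgroup.centralizer ({x} : Set G)).index := by
  symm
  rw [Subgroup.index]
  let f : G ⧸ Subgroup.centralizer ({x} : Set G) → {u : G // IsConj x u} :=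
    Quotient.lift (fun g : G => ⟨g * x * g⁻¹, isConj_iff.2 ⟨g, rfl⟩⟩) (by
      intro a b hab
      have h := mem_centralizer_singleton_iff'.1 (QuotientGroup.leftRel_apply.1 hab)
      apply Subtype.ext
      calc a * x * a⁻¹ = a * (a⁻¹ * b * x * (a⁻¹ * b)⁻¹) * a⁻¹ := by rw [h]
        _ = b * x * b⁻¹ := by group)
  refine Nat.card_eq_of_bijective f ⟨?_, ?_⟩
  · intro p q
    induction p using QuotientGroup.induction_on with
    | H a =>
      induction q using QuotientGroup.induction_on with
      | H b =>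
        intro h
        have h' : a * x * a⁻¹ = b * x * b⁻¹ := congrArg Subtype.val h
        rw [QuotientGroup.eq, mem_centralizer_singleton_iff']
        calc a⁻¹ * b * x * (a⁻¹ * b)⁻¹ = a⁻¹ * (b * x * b⁻¹) * a := by group
          _ = a⁻¹ * (a * x * a⁻¹) * a := by rw [h']
          _ = x := by group
  · rintro ⟨u, hu⟩
    obtain ⟨g, hg⟩ := isConj_iff.1 hu
    exact ⟨QuotientGroup.mk g, Subtype.ext hg⟩

theorem orderOf_eq_two_of_isConj {x u : G} (hx : orderOf x = 2) (h : IsConj x u) :
    orderOf u = 2 := by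
  obtain ⟨g, rfl⟩ := isConj_iff.1 h
  rwa [orderOf_conj]

theorem card_le_involutions_mul_centralizer [Finite G] {t : G} (ht : orderOf t = 2) :
    Nat.card G ≤
      Nat.card {s : G // orderOf s = 2} * Nat.card (Subgroup.centralizer ({t} : Set G)) := by
  rw [← Subgroup.card_mul_index (Subgroup.centralizer ({t} : Set G)), ← card_isConj_eq_index,
    Nat.mul_comm]
  refine Nat.mul_le_mul_right _ (Nat.card_le_card_of_injective
    (fun u : {u : G // IsConj t u} =>
      (⟨u.1, orderOf_eq_two_of_isConj ht u.2⟩ : {s : G // orderOf s = 2})) ?_)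
  intro a b h
  exact Subtype.ext (congrArg (fun w : {s : G // orderOf s = 2} => w.1) h)

/-- The elements inverting `x` form a coset of the centraliser of `x`. -/
theorem card_inverting_of_isConj {x : G} (hreal : IsConj x x⁻¹) :
    Nat.card {g : G // g * x * g⁻¹ = x⁻¹} =
      Nat.card (Subgroup.centralizer ({x} : Set G)) := by
  obtain ⟨a, ha⟩ := isConj_iff.1 hreal
  refine Nat.card_congr ((Equiv.mulLeft a⁻¹).subtypeEquiv fun g => ?_)
  simp only [Equiv.coe_mulLeft]
  rw [mem_centralizer_singleton_iff']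
  constructor
  · intro hg
    calc a⁻¹ * g * x * (a⁻¹ * g)⁻¹ = a⁻¹ * (g * x * g⁻¹) * a := by group
      _ = a⁻¹ * (a * x * a⁻¹) * a := by rw [hg, ha]
      _ = x := by group
  · intro hg
    calc g * x * g⁻¹ = a * (a⁻¹ * g * x * (a⁻¹ * g)⁻¹) * a⁻¹ := by group
      _ = a * x * a⁻¹ := by rw [hg]
      _ = x⁻¹ := ha

theorem inverts_of_pair {u v x : G} (hu : orderOf u = 2) (hv : orderOf v = 2) (h : u * v = x) :
    u * x * u⁻¹ = x⁻¹ := by
  subst h
  exact conj_prod (mul_self_eq_one hu) (mul_self_eq_one hv)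

/-- Ordered pairs of involutions with product `x` against involutions inverting `x`. -/
theorem card_pairs_eq {x : G} (hx : x ^ 2 ≠ 1) :
    Nat.card {p : G × G // orderOf p.1 = 2 ∧ orderOf p.2 = 2 ∧ p.1 * p.2 = x} =
      Nat.card {t : G // orderOf t = 2 ∧ t * x * t⁻¹ = x⁻¹} := by
  refine Nat.card_congr
    { toFun := fun p => ⟨p.1.1, p.2.1, inverts_of_pair p.2.1 p.2.2.1 p.2.2.2⟩
      invFun := fun t => ⟨(t.1, t.1 * x), t.2.1, ?_, ?_⟩
      left_inv := ?_
      right_inv := fun t => rfl }
  · obtain ⟨t, ht, hinv⟩ := t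
    have ht' := mul_self_eq_one ht
    rw [inv_eq_self ht] at hinv
    refine orderOf_eq_two ?_ (by show t * x * (t * x) = 1; rw [← mul_assoc, hinv, inv_mul_cancel])
    intro h
    have hxt : x = t := by rw [← inv_eq_self ht]; exact eq_inv_of_mul_eq_one_right h
    exact hx (by rw [hxt, pow_two, ht'])
  · show t.1 * (t.1 * x) = x
    rw [← mul_assoc, mul_self_eq_one t.2.1, one_mul]
  · rintro ⟨⟨u, v⟩, hu, hv, h⟩
    apply Subtype.ext
    show (u, u * x) = (u, v)
    rw [← (h : u * v = x), ← mul_assoc, mul_self_eq_one hu, one_mul]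

theorem card_pairs_involution [Finite G] {x : G} (hx : orderOf x = 2) :
    Nat.card {p : G × G // orderOf p.1 = 2 ∧ orderOf p.2 = 2 ∧ p.1 * p.2 = x} + 1 =
      Nat.card {t : G // orderOf t = 2 ∧ Commute t x} := by
  have e : Nat.card {p : G × G // orderOf p.1 = 2 ∧ orderOf p.2 = 2 ∧ p.1 * p.2 = x} =
      Nat.card ↥({t : G | orderOf t = 2 ∧ Commute t x} \ {x}) := by
    refine Nat.card_congr
      { toFun := fun p => ⟨p.1.1, ⟨p.2.1, ?_⟩, ?_⟩
        invFun := fun t => ⟨(t.1, t.1 * x), t.2.1.1, ?_, ?_⟩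
        left_inv := ?_
        right_inv := fun t => rfl }
    · have h := inverts_of_pair p.2.1 p.2.2.1 p.2.2.2
      rw [inv_eq_self hx, mul_inv_eq_iff_eq_mul] at h
      exact h
    · intro h
      obtain ⟨⟨u, v⟩, hu, hv, huv⟩ := p
      have h' : u = x := h
      subst h'
      exact ne_one_of_invol hv (mul_left_cancel ((huv : u * v = u).trans (mul_one u).symm))
    · obtain ⟨t, ⟨ht, hc⟩, htx⟩ := t
      refine orderOf_eq_two ?_ ?_
      · intro h
        apply htx
        have h' : t * x = 1 := h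
        show t = x
        rw [eq_inv_of_mul_eq_one_left h', inv_eq_self hx]
      · show t * x * (t * x) = 1
        rw [hc.symm.mul_mul_mul_comm, mul_self_eq_one ht, mul_self_eq_one hx, one_mul]
    · show t.1 * (t.1 * x) = x
      rw [← mul_assoc, mul_self_eq_one t.2.1.1, one_mul]
    · rintro ⟨⟨u, v⟩, hu, hv, h⟩
      apply Subtype.ext
      show (u, u * x) = (u, v)
      rw [← (h : u * v = x), ← mul_assoc, mul_self_eq_one hu, one_mul]
  have hxA : x ∈ {t : G | orderOf t = 2 ∧ Commute t x} := ⟨hx, Commute.refl x⟩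
  have h2 := Set.ncard_sdiff_singleton_add_one hxA (Set.toFinite _)
  rw [← Nat.card_coe_set_eq, ← Nat.card_coe_set_eq] at h2
  rw [e, h2]
  rfl

theorem card_pairs_eq_zero {x : G} (h : ¬ IsConj x x⁻¹) :
    Nat.card {p : G × G // orderOf p.1 = 2 ∧ orderOf p.2 = 2 ∧ p.1 * p.2 = x} = 0 := by
  rw [Nat.card_eq_zero]
  exact Or.inl ⟨fun p => h (isConj_iff.2 ⟨p.1.1, inverts_of_pair p.2.1 p.2.2.1 p.2.2.2⟩)⟩

theorem card_pairs_le [Finite G] (x : G) :
    Nat.card {p : G × G // orderOf p.1 = 2 ∧ orderOf p.2 = 2 ∧ p.1 * p.2 = x} ≤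
      Nat.card (Subgroup.centralizer ({x} : Set G)) := by
  by_cases h : IsConj x x⁻¹
  · rw [← card_inverting_of_isConj h]
    refine Nat.card_le_card_of_injective
      (fun p => (⟨p.1.1, inverts_of_pair p.2.1 p.2.2.1 p.2.2.2⟩ :
        {g : G // g * x * g⁻¹ = x⁻¹})) ?_
    rintro ⟨⟨a, b⟩, _, _, hab⟩ ⟨⟨c, d⟩, _, _, hcd⟩ he
    have hac : a = c := congrArg Subtype.val he
    subst hac
    exact Subtype.ext (Prod.ext rfl (mul_left_cancel ((hab : a * b = x).trans hcd.symm)))
  · rw [card_pairs_eq_zero h]; exact Nat.zero_le _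

theorem card_pairs_add_two_le [Finite G] {x : G} (hx : orderOf x = 2) :
    Nat.card {p : G × G // orderOf p.1 = 2 ∧ orderOf p.2 = 2 ∧ p.1 * p.2 = x} + 2 ≤
      Nat.card (Subgroup.centralizer ({x} : Set G)) := by
  rw [show (2 : ℕ) = 1 + 1 from rfl, ← add_assoc, card_pairs_involution hx]
  have hsub : {t : G | orderOf t = 2 ∧ Commute t x} ⊂
      (Subgroup.centralizer ({x} : Set G) : Set G) := by
    refine Set.ssubset_iff_exists.2 ⟨fun t ht => Subgroup.mem_centralizer_singleton_iff.2 ht.2.eq,
      1, one_mem _, fun h => ne_one_of_invol h.1 rfl⟩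
  have h := Set.ncard_lt_ncard hsub (Set.toFinite _)
  rw [← Nat.card_coe_set_eq, ← Nat.card_coe_set_eq] at h
  exact h

/-- The elements fixing `{x, x⁻¹}` under conjugation. -/
def starCentralizer (x : G) : Subgroup G where
  carrier := {g | g * x * g⁻¹ = x ∨ g * x * g⁻¹ = x⁻¹}
  one_mem' := Or.inl (by simp)
  mul_mem' := by
    intro a b ha hb
    simp only [Set.mem_ofPred_eq] at ha hb ⊢
    have e : a * b * x * (a * b)⁻¹ = a * (b * x * b⁻¹) * a⁻¹ := by group
    have e' : a * x⁻¹ * a⁻¹ = (a * x * a⁻¹)⁻¹ := by group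
    rw [e]
    rcases hb with hb | hb <;> rw [hb]
    · exact ha
    · rw [e']
      rcases ha with ha | ha <;> rw [ha]
      · exact Or.inr rfl
      · exact Or.inl (inv_inv x)
  inv_mem' := by
    intro a ha
    simp only [Set.mem_ofPred_eq] at ha ⊢
    rcases ha with ha | ha
    · left
      nth_rw 1 [← ha]
      group
    · right
      have h : a * x⁻¹ * a⁻¹ = x := by
        rw [show a * x⁻¹ * a⁻¹ = (a * x * a⁻¹)⁻¹ by group, ha, inv_inv]
      nth_rw 1 [← h]
      group

theorem card_starCentralizer [Finite G] {x : G} (hreal : IsConj x x⁻¹) (hx : x⁻¹ ≠ x) :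
    Nat.card (starCentralizer x) = 2 * Nat.card (Subgroup.centralizer ({x} : Set G)) := by
  have h1 : ((starCentralizer x : Subgroup G) : Set G) =
      {g | g * x * g⁻¹ = x} ∪ {g | g * x * g⁻¹ = x⁻¹} := rfl
  have h2 : Disjoint {g : G | g * x * g⁻¹ = x} {g | g * x * g⁻¹ = x⁻¹} := by
    rw [Set.disjoint_left]
    intro g hg hg'
    simp only [Set.mem_ofPred_eq] at hg hg'
    exact hx (hg'.symm.trans hg)
  have h3 : ((Subgroup.centralizer ({x} : Set G)) : Set G) = {g | g * x * g⁻¹ = x} := by
    ext g; exact mem_centralizer_singleton_iff'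
  have h4 := card_inverting_of_isConj hreal
  rw [← SetLike.coe_sort_coe, Nat.card_coe_set_eq, h1,
    Set.ncard_union_eq h2 (Set.toFinite _) (Set.toFinite _), ← SetLike.coe_sort_coe,
    Nat.card_coe_set_eq, h3, two_mul]
  congr 1
  rw [← SetLike.coe_sort_coe, Nat.card_coe_set_eq, h3] at h4
  exact h4

/-- Brauer-Fowler: the counting inequality. -/
theorem exists_subgroup_index_bound [Finite G] (heven : Even (Nat.card G))
    (hZ : Odd (Nat.card (Subgroup.center G))) :
    ∃ H : Subgroup G, H ≠ ⊤ ∧ (H.index = 2 ∨ 2 * H.index * (Nat.card {t : G // orderOf t = 2}) ^ 2 <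
        Nat.card G * (Nat.card G + Nat.card {t : G // orderOf t = 2})) := by
  classical
  by_contra hcon
  push Not at hcon
  have hnt : Nontrivial G := by
    rw [← Finite.one_lt_card_iff_nontrivial]
    have := Nat.card_pos (α := G)
    obtain ⟨k, hk⟩ := heven
    omega
  obtain ⟨H, hHtop, hmax⟩ := (Set.toFinite {H : Subgroup G | H ≠ ⊤}).exists_maximalFor
    (fun H : Subgroup G => Nat.card H) _ ⟨⊥, bot_ne_top⟩
  simp only [Set.mem_ofPred_eq] at hHtop hmax
  set M := Nat.card H with hM
  have hle : ∀ K : Subgroup G, K ≠ ⊤ → Nat.card K ≤ M := by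
    intro K hK
    rcases le_total (Nat.card K) M with h | h
    · exact h
    · exact hmax hK h
  have : Fintype G := Fintype.ofFinite G
  let c : G → ℕ := fun x =>
    Nat.card {p : G × G // orderOf p.1 = 2 ∧ orderOf p.2 = 2 ∧ p.1 * p.2 = x}
  set I : Finset G := Finset.univ.filter fun t => orderOf t = 2 with hI
  set n := Nat.card {t : G // orderOf t = 2} with hn
  have hIcard : I.card = n := by
    rw [hn, Nat.card_eq_fintype_card, Fintype.card_subtype]
  have hsum : n * n = ∑ x, c x := by
    rw [← hIcard, ← Finset.card_product, Finset.card_eq_sum_card_fiberwise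
      (f := fun p : G × G => p.1 * p.2) (t := Finset.univ) (fun p _ => Finset.mem_univ _)]
    refine Finset.sum_congr rfl fun x _ => ?_
    show _ = Nat.card _
    rw [Nat.card_eq_fintype_card, Fintype.card_subtype]
    congr 1
    ext p
    simp [hI, and_assoc]
  have hc1 : c 1 = n := by
    refine Nat.card_congr
      { toFun := fun p => ⟨p.1.1, p.2.1⟩
        invFun := fun t => ⟨(t.1, t.1), t.2, t.2, mul_self_eq_one t.2⟩
        left_inv := ?_
        right_inv := fun t => rfl }
    rintro ⟨⟨u, v⟩, hu, hv, h⟩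
    apply Subtype.ext
    show (u, u) = (u, v)
    have h' : u * v = 1 := h
    rw [eq_inv_of_mul_eq_one_right h', inv_eq_self hu]
  have hcentral : ∀ x : G, x ∈ Subgroup.center G → orderOf x ≠ 2 := by
    intro x hx h2
    have h := orderOf_dvd_natCard (⟨x, hx⟩ : Subgroup.center G)
    rw [Subgroup.orderOf_mk, h2] at h
    exact (Nat.not_even_iff_odd.2 hZ) (even_iff_two_dvd.2 h)
  have hinv : ∀ x ∈ I, 2 * c x + 4 ≤ 2 * M := by
    intro x hx
    have hx2 : orderOf x = 2 := by simpa [hI] using hx
    have h1 : Subgroup.centralizer ({x} : Set G) ≠ ⊤ := by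
      intro h
      refine hcentral x (Subgroup.mem_center_iff.2 fun g => ?_) hx2
      exact Subgroup.mem_centralizer_singleton_iff.1 (h ▸ Subgroup.mem_top g)
    have h2 : c x + 2 ≤ _ := card_pairs_add_two_le hx2
    have := hle _ h1
    omega
  have hrest : ∀ x ∈ (Finset.univ \ insert 1 I), 2 * c x ≤ M := by
    intro x hx
    simp [hI] at hx
    obtain ⟨hx1, hx2⟩ := hx
    have hne : x⁻¹ ≠ x := by
      intro h
      exact hx2 (orderOf_eq_two hx1 (by nth_rw 1 [← h]; exact inv_mul_cancel x))
    by_cases hreal : IsConj x x⁻¹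
    · have h1 := card_starCentralizer hreal hne
      have h2 : starCentralizer x ≠ ⊤ := by
        intro h
        rw [h, Subgroup.card_top] at h1
        have hi : (Subgroup.centralizer ({x} : Set G)).index = 2 := by
          have h3 := Subgroup.card_mul_index (Subgroup.centralizer ({x} : Set G))
          rw [h1, mul_comm 2] at h3
          exact Nat.eq_of_mul_eq_mul_left Nat.card_pos h3
        refine (hcon _ ?_).1 hi
        intro htop
        rw [htop] at hi
        simp at hi
      have h3 : c x ≤ _ := card_pairs_le x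
      have := hle _ h2
      omega
    · have : c x = 0 := card_pairs_eq_zero hreal
      omega
  have h1I : (1 : G) ∉ I := by simp [hI]
  have hsplit : ∑ x, c x = n + ∑ x ∈ I, c x + ∑ x ∈ Finset.univ \ insert 1 I, c x := by
    rw [← Finset.sum_sdiff (Finset.subset_univ (insert 1 I)), Finset.sum_insert h1I, hc1]
    ring
  have hA : ∑ x ∈ I, (2 * c x + 4) ≤ n * (2 * M) := by
    refine (Finset.sum_le_card_nsmul I _ _ hinv).trans ?_
    rw [hIcard, smul_eq_mul]
  rw [Finset.sum_add_distrib, ← Finset.mul_sum, Finset.sum_const, hIcard, smul_eq_mul] at hA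
  have hR : (Finset.univ \ insert 1 I).card + (n + 1) = Nat.card G := by
    rw [← hIcard, ← Finset.card_insert_of_notMem h1I,
      Finset.card_sdiff_add_card_eq_card (Finset.subset_univ _), Finset.card_univ,
      Nat.card_eq_fintype_card]
  have hB : ∑ x ∈ Finset.univ \ insert 1 I, 2 * c x ≤
      (Finset.univ \ insert 1 I).card * M :=
    (Finset.sum_le_card_nsmul _ _ _ hrest).trans (le_of_eq (smul_eq_mul _ _))
  rw [← Finset.mul_sum] at hB
  set r := (Finset.univ \ insert 1 I).card
  have key : 2 * (n * n) + 2 * n ≤ (2 * n + r) * M := by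
    rw [hsum, hsplit]
    ring_nf at hA hB ⊢
    omega
  have h2 := (hcon H hHtop).2
  have hmi : M * H.index = Nat.card G := Subgroup.card_mul_index H
  have hipos : 0 < H.index := Nat.pos_of_ne_zero Subgroup.index_ne_zero_of_finite
  have hMpos : 0 < M := Nat.card_pos
  have hkey2 : H.index * (2 * (n * n) + 2 * n) ≤ H.index * ((2 * n + r) * M) :=
    Nat.mul_le_mul_left _ key
  have hr : 2 * n + r + 1 = Nat.card G + n := by omega
  have e1 : H.index * ((2 * n + r) * M) + Nat.card G = Nat.card G * (Nat.card G + n) := by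
    rw [← hr, ← hmi]; ring
  have hG := Nat.card_pos (α := G)
  have e2 : 2 * H.index * n ^ 2 + H.index * (2 * n) = H.index * (2 * (n * n) + 2 * n) := by ring
  omega

end CfsgLib.Invol
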