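import Cfsg.Agent.Lib.Invol.BaerSuzuki
import Cfsg.Agent.Lib.TwoFusion.Isolated

/-!
# Involutions isolated in a Sylow 2-subgroup, and common Sylow 2-subgroups
-/

set_option autoImplicit false

namespace CfsgLib.Invol

variable {G : Type*} [Group G] [Finite G]

theorem exists_sylow_mem_of_commute {u v : G} (hu : orderOf u = 2) (hv : orderOf v = 2)
    (h : Commute u v) : ∃ Q : Sylow 2 G, u ∈ Q ∧ v ∈ Q := by
  have h1 : orderOf (u * v) ∣ 2 := by
    apply orderOf_dvd_of_pow_eq_one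
    rw [h.mul_pow, pow_two, pow_two, mul_self_eq_one hu, mul_self_eq_one hv, mul_one]
  obtain ⟨k, -, hk⟩ := (Nat.dvd_prime_pow Nat.prime_two).1 (show orderOf (u * v) ∣ 2 ^ 1 from h1)
  obtain ⟨Q, hQ⟩ := (isPGroup_two_closure_pair hu hv hk).exists_le_sylow
  exact ⟨Q, hQ (left_mem_closure_pair u v), hQ (right_mem_closure_pair u v)⟩

/-- Isolation inside one Sylow 2-subgroup gives isolation. -/
theorem isIsolatedInvolution_of_sylow (P : Sylow 2 G) {u : G} (hu : orderOf u = 2)
    (hiso : ∀ g : G, g * u * g⁻¹ ∈ P → g * u * g⁻¹ = u) : Cfsg.IsIsolatedInvolution u := by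
  haveI : Fact (Nat.Prime 2) := ⟨Nat.prime_two⟩
  refine ⟨hu, fun g hg => ?_⟩
  obtain ⟨Q, hQu, hQv⟩ := exists_sylow_mem_of_commute hu (by rw [orderOf_conj, hu]) hg
  obtain ⟨a, ha⟩ := MulAction.exists_smul_eq G Q P
  have hmem : ∀ x : G, x ∈ Q → a * x * a⁻¹ ∈ P := by
    intro x hx
    rw [← ha]
    exact (Subgroup.smul_mem_pointwise_smul_iff (a := MulAut.conj a) (x := x)
      (S := (Q : Subgroup G))).2 hx
  have h1 := hiso a (hmem _ hQu)
  have h2 := hmem _ hQv
  rw [show a * (g * u * g⁻¹) * a⁻¹ = (a * g) * u * (a * g)⁻¹ by group] at h2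
  have h3 := hiso _ h2
  calc g * u * g⁻¹ = a⁻¹ * (a * g * u * (a * g)⁻¹) * a := by group
    _ = a⁻¹ * (a * u * a⁻¹) * a := by rw [h3, h1]
    _ = u := by group

/-- An isolated involution times a non-conjugate involution has order twice an odd number. -/
theorem orderOf_mul_mod_four {t s : G} (hiso : Cfsg.IsIsolatedInvolution t) (hs : orderOf s = 2)
    (hns : ¬ IsConj s t) : orderOf (s * t) % 4 = 2 := by
  have ht := hiso.1
  have hts : orderOf (t * s) = orderOf (s * t) := by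
    rw [← orderOf_inv (t * s), mul_inv_rev, inv_eq_self ht, inv_eq_self hs]
  obtain ⟨hev, hz2, hzt, -⟩ := exists_middle_of_not_isConj ht hs (fun h => hns h.symm)
  have h4 : ¬ 4 ∣ orderOf (t * s) := by
    intro h4
    obtain ⟨d, -, hd⟩ := (conj_middle_iff (mul_self_eq_one ht) (mul_self_eq_one hs) hev).2 h4
    have h := hiso.2 d (by rw [hd]; exact (Commute.refl t).mul_right hzt.symm)
    rw [hd] at h
    exact ne_one_of_invol hz2 (mul_left_cancel (h.trans (mul_one t).symm))
  rw [← hts]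
  obtain ⟨m, hm⟩ := hev
  omega

end CfsgLib.Invol
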