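import Cfsg.Agent.Lib.Invol.StronglyEmbedded
import Mathlib.GroupTheory.Transfer
import Mathlib.GroupTheory.SpecificGroups.KleinFour

/-!
# Groups with a Klein four Sylow 2-subgroup
-/

set_option autoImplicit false

namespace CfsgLib.Invol

variable {G : Type*} [Group G] [Finite G]

theorem klein_mem_eq {P : Subgroup G} [IsKleinFour P] {a b c d : G} (ha : a ∈ P) (hb : b ∈ P)
    (hc : c ∈ P) (hd : d ∈ P) (ha1 : a ≠ 1) (hb1 : b ≠ 1) (hc1 : c ≠ 1) (hd1 : d ≠ 1)
    (hab : a ≠ b) (hac : a ≠ c) (hbc : b ≠ c) : d = a ∨ d = b ∨ d = c := by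
  classical
  have := Fintype.ofFinite P
  have hs : ({⟨a, ha⟩, ⟨b, hb⟩, ⟨c, hc⟩, 1} : Finset P) = Finset.univ := by
    apply Finset.eq_univ_of_card
    rw [IsKleinFour.card_four']
    rw [Finset.card_insert_of_notMem, Finset.card_insert_of_notMem, Finset.card_pair] <;>
      simp [Subtype.ext_iff, hab, hac, hbc, ha1, hb1, hc1]
  have h := Finset.mem_univ (⟨d, hd⟩ : P)
  rw [← hs] at h
  simpa [Subtype.ext_iff, hd1] using h

theorem klein_sylow_dichotomy (P : Sylow 2 G) (hP : IsKleinFour (P : Subgroup G)) :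
    (Subgroup.normalizer ((P : Subgroup G) : Set G) ≤ Subgroup.centralizer ((P : Subgroup G) : Set G)
      ∧ Nat.card {C : ConjClasses G // ∃ t : G, orderOf t = 2 ∧ ConjClasses.mk t = C} = 3) ∨
    ((∃ a ∈ (P : Subgroup G), ∃ b ∈ (P : Subgroup G), a ≠ b ∧ IsConj a b)
      ∧ Nat.card {C : ConjClasses G // ∃ t : G, orderOf t = 2 ∧ ConjClasses.mk t = C} = 1) := by
  haveI : Fact (Nat.Prime 2) := ⟨Nat.prime_two⟩
  have hinv : ∀ a ∈ (P : Subgroup G), a ≠ 1 → orderOf a = 2 := fun a ha ha1 =>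
    orderOf_eq_two ha1 (congrArg Subtype.val (IsKleinFour.mul_self (⟨a, ha⟩ : (P : Subgroup G))))
  have hcomm : ∀ a ∈ (P : Subgroup G), ∀ b ∈ (P : Subgroup G), a * b = b * a := fun a ha b hb =>
    congrArg Subtype.val ((IsPGroup.commGroupOfCardEqPrimeSq (p := 2) (G := (P : Subgroup G))
      IsKleinFour.card_four).mul_comm ⟨a, ha⟩ ⟨b, hb⟩)
  -- every involution is conjugate into `P`
  have hsurj : ∀ t : G, orderOf t = 2 → ∃ a ∈ (P : Subgroup G), a ≠ 1 ∧ IsConj a t := by
    intro t ht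
    obtain ⟨Q, hQ⟩ := (IsPGroup.of_card (G := Subgroup.zpowers t) (p := 2) (n := 1)
      (by rw [Nat.card_zpowers, ht, pow_one])).exists_le_sylow
    obtain ⟨g, hg⟩ := MulAction.exists_smul_eq G Q P
    have hmem : g * t * g⁻¹ ∈ (P : Subgroup G) := by
      rw [← hg]
      exact (Subgroup.smul_mem_pointwise_smul_iff (a := MulAut.conj g) (x := t)
        (S := (Q : Subgroup G))).2 (hQ (Subgroup.mem_zpowers _))
    exact ⟨_, hmem, ne_one_of_invol (by rw [orderOf_conj, ht]), (isConj_iff.2 ⟨g, rfl⟩).symm⟩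
  by_cases hN : Subgroup.normalizer ((P : Subgroup G) : Set G) ≤
      Subgroup.centralizer ((P : Subgroup G) : Set G)
  · refine Or.inl ⟨hN, ?_⟩
    haveI : IsMulCommutative (P : Subgroup G) :=
      ⟨⟨fun a b => Subtype.ext (hcomm a a.2 b b.2)⟩⟩
    have e : {a : (P : Subgroup G) // a ≠ 1} ≃
        {C : ConjClasses G // ∃ t : G, orderOf t = 2 ∧ ConjClasses.mk t = C} := by
      refine Equiv.ofBijective
        (fun a => ⟨ConjClasses.mk (a.1 : G), (a.1 : G), hinv _ a.1.2 (fun h => a.2 (Subtype.ext h)),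
          rfl⟩) ⟨?_, ?_⟩
      · rintro ⟨⟨a, ha⟩, _⟩ ⟨⟨b, hb⟩, _⟩ h
        have hab : IsConj a b := ConjClasses.mk_eq_mk_iff_isConj.1 (congrArg Subtype.val h)
        obtain ⟨g, hg⟩ := isConj_iff.1 hab
        obtain ⟨n, hn, hne⟩ := P.conj_eq_normalizer_conj_of_mem a g⁻¹ ha (by rwa [inv_inv, hg])
        rw [inv_inv, hg, ← Subgroup.mem_centralizer_iff.1 (hN (inv_mem hn)) a ha,
          mul_assoc, inv_mul_cancel, mul_one] at hne
        exact Subtype.ext (Subtype.ext hne.symm)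
      · rintro ⟨C, t, ht, rfl⟩
        obtain ⟨a, ha, ha1, hat⟩ := hsurj t ht
        exact ⟨⟨⟨a, ha⟩, fun h => ha1 (congrArg Subtype.val h)⟩,
          Subtype.ext (ConjClasses.mk_eq_mk_iff_isConj.2 hat)⟩
    rw [← Nat.card_congr e]
    classical
    have h := Nat.card_congr (Equiv.sumCompl fun a : (P : Subgroup G) => a = 1)
    have h4 : Nat.card (P : Subgroup G) = 4 := IsKleinFour.card_four
    have h1 : Nat.card {a : (P : Subgroup G) // a = 1} = 1 := by simp
    rw [Nat.card_sum, h1, h4] at h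
    show Nat.card {a : (P : Subgroup G) // ¬ a = 1} = 3
    omega
  · right
    obtain ⟨g, hgN, hgC⟩ := SetLike.not_le_iff_exists.1 hN
    -- a normalising element of odd order acting nontrivially
    obtain ⟨k, m, hm, hgm⟩ := Nat.exists_eq_two_pow_mul_odd (orderOf_pos g).ne'
    have hgm2 : g ^ m ∈ (P : Subgroup G) := by
      have hle : Subgroup.zpowers (g ^ m) ≤ Subgroup.normalizer ((P : Subgroup G) : Set G) :=
        Subgroup.zpowers_le.2 (Subgroup.pow_mem _ hgN m)
      have hp : IsPGroup 2 (Subgroup.zpowers (g ^ m)) := IsPGroup.of_card (n := k)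
        (by rw [Nat.card_zpowers, orderOf_pow, hgm, Nat.gcd_mul_left_left,
          Nat.mul_div_cancel _ hm.pos])
      rw [← P.is_maximal' (hp.to_sup_of_normal_right' P.isPGroup' hle) le_sup_right]
      exact Subgroup.mem_sup_left (Subgroup.mem_zpowers _)
    set h := g ^ 2 ^ k with hh
    have hhN : h ∈ Subgroup.normalizer ((P : Subgroup G) : Set G) := Subgroup.pow_mem _ hgN _
    have hhC : h ∉ Subgroup.centralizer ((P : Subgroup G) : Set G) := by
      intro hc
      apply hgC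
      have hc2 : g ^ m ∈ Subgroup.centralizer ((P : Subgroup G) : Set G) :=
        Subgroup.mem_centralizer_iff.2 fun b hb => hcomm b hb _ hgm2
      have hcop : Nat.Coprime (2 ^ k) m := Nat.Coprime.pow_left k (Nat.coprime_two_left.2 hm)
      have hbez := Nat.gcd_eq_gcd_ab (2 ^ k) m
      rw [hcop.gcd_eq_one, Nat.cast_one] at hbez
      rw [← zpow_one g, hbez, zpow_add, zpow_mul, zpow_mul, zpow_natCast, zpow_natCast]
      exact mul_mem (Subgroup.zpow_mem _ hc _) (Subgroup.zpow_mem _ hc2 _)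
    obtain ⟨j, hj⟩ : Odd (orderOf h) := by
      rw [hh, orderOf_pow, hgm, Nat.gcd_mul_right_left, Nat.mul_div_cancel_left _ (Nat.two_pow_pos k)]
      exact hm
    obtain ⟨a, haP, hah⟩ : ∃ a ∈ (P : Subgroup G), a * h ≠ h * a := by
      by_contra hcon
      push Not at hcon
      exact hhC (Subgroup.mem_centralizer_iff.2 hcon)
    set b := h * a * h⁻¹ with hb
    set c := h * b * h⁻¹ with hc
    have hbP : b ∈ (P : Subgroup G) := (Subgroup.mem_normalizer_iff.1 hhN a).1 haP
    have hcP : c ∈ (P : Subgroup G) := (Subgroup.mem_normalizer_iff.1 hhN b).1 hbP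
    have ha1 : a ≠ 1 := by rintro rfl; simp at hah
    have hb1 : b ≠ 1 := fun e => ha1 (by rwa [hb, mul_inv_eq_one, mul_eq_left] at e)
    have hc1 : c ≠ 1 := fun e => hb1 (by rwa [hc, mul_inv_eq_one, mul_eq_left] at e)
    have hab : a ≠ b := fun e => hah (eq_mul_inv_iff_mul_eq.1 (e.trans hb))
    have hac : a ≠ c := by
      intro e
      apply hah
      have h2 : Commute a (h ^ 2) := by
        rw [pow_two]
        show a * (h * h) = h * h * a
        rw [← eq_mul_inv_iff_mul_eq]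
        conv_lhs => rw [e, hc, hb]
        group
      have h3 : h = (h ^ 2) ^ (j + 1) := by
        rw [← pow_mul, show 2 * (j + 1) = orderOf h + 1 by omega, pow_succ, pow_orderOf_eq_one,
          one_mul]
      rw [h3]
      exact (h2.pow_right _).eq
    have hbc : b ≠ c := fun e => hab (by
      have e' : h * a * h⁻¹ = h * b * h⁻¹ := e
      exact mul_left_cancel (mul_right_cancel e'))
    have hconj : ∀ d ∈ (P : Subgroup G), d ≠ 1 → IsConj a d := by
      intro d hd hd1
      rcases klein_mem_eq haP hbP hcP hd ha1 hb1 hc1 hd1 hab hac hbc with rfl | rfl | rfl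
      · exact IsConj.refl _
      · exact isConj_iff.2 ⟨h, rfl⟩
      · exact (isConj_iff.2 ⟨h, rfl⟩ : IsConj a b).trans (isConj_iff.2 ⟨h, rfl⟩)
    refine ⟨⟨a, haP, b, hbP, hab, hconj b hbP hb1⟩, ?_⟩
    rw [Nat.card_eq_one_iff_unique]
    refine ⟨⟨?_⟩, ⟨⟨ConjClasses.mk a, a, hinv a haP ha1, rfl⟩⟩⟩
    rintro ⟨_, s, hs, rfl⟩ ⟨_, t, ht, rfl⟩
    obtain ⟨u, hu, hu1, hus⟩ := hsurj s hs
    obtain ⟨v, hv, hv1, hvt⟩ := hsurj t ht
    exact Subtype.ext (ConjClasses.mk_eq_mk_iff_isConj.2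
      (((hconj u hu hu1).trans hus).symm.trans ((hconj v hv hv1).trans hvt)))

theorem klein_sylow_classes_eq_three_iff (P : Sylow 2 G) (hP : IsKleinFour (P : Subgroup G)) :
    Nat.card {C : ConjClasses G // ∃ t : G, orderOf t = 2 ∧ ConjClasses.mk t = C} = 3 ↔
      ∃ N : Subgroup G, N.Normal ∧ Subgroup.IsComplement' N (P : Subgroup G) := by
  haveI : Fact (Nat.Prime 2) := ⟨Nat.prime_two⟩
  rcases klein_sylow_dichotomy P hP with ⟨hN, h3⟩ | ⟨⟨a, ha, b, hb, hab, hc⟩, h1⟩
  · exact ⟨fun _ => ⟨_, inferInstance, MonoidHom.ker_transferSylow_isComplement' P hN⟩, fun _ => h3⟩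
  · rw [h1]
    refine ⟨fun h => absurd h (by norm_num), ?_⟩
    rintro ⟨N, hN, hcompl⟩
    exfalso
    apply hab
    let π := QuotientGroup.mk' N
    have e := Subgroup.IsComplement'.QuotientMulEquiv hcompl.symm
    obtain ⟨g, hg⟩ := isConj_iff.1 hc
    have hmul : ∀ x y : G ⧸ N, x * y = y * x := fun x y => e.injective (by
      rw [map_mul, map_mul]
      exact (IsPGroup.commGroupOfCardEqPrimeSq (p := 2) (G := (P : Subgroup G))
        IsKleinFour.card_four).mul_comm _ _)
    have h : π a = π b := by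
      rw [← hg, map_mul, map_mul, map_inv, hmul (π g) (π a), mul_inv_cancel_right]
    have hmem : a⁻¹ * b ∈ N := QuotientGroup.eq.1 h
    have h2 := Subgroup.disjoint_def.1 hcompl.disjoint hmem (mul_mem (inv_mem ha) hb)
    exact inv_mul_eq_one.1 h2

end CfsgLib.Invol
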