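import Cfsg.Agent.Lib.Invol.BlockColumns
import Cfsg.Agent.Lib.Invol.KleinSylow
import Cfsg.Agent.Lib.Invol.Isolated
import Cfsg.Agent.Lib.Invol.Counting
import Cfsg.Agent.Lib.BlockPrincipal.Parity
import Cfsg.Agent.Lib.Blk83.PairCount
import Cfsg.Agent.S0944
import Mathlib.Data.Fin.VecNotation

/-!
# The principal 2-block of a group with Klein four Sylow 2-subgroups and one class of involutions
-/

set_option autoImplicit false

open scoped ComplexConjugate

namespace CfsgLib.Invol.KleinBlock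

universe u

variable {K : Type u} [Group K] [Finite K] (P : Sylow 2 K) (hP : IsKleinFour (P : Subgroup K))
  (hone : ∀ s t : K, orderOf s = 2 → orderOf t = 2 → IsConj s t)

include hP in
/-- A 2-element has order at most two. -/
theorem orderOf_dvd_two {g : K} {k : ℕ} (hg : orderOf g = 2 ^ k) : orderOf g ∣ 2 := by
  have : Fact (Nat.Prime 2) := ⟨Nat.prime_two⟩
  obtain ⟨Q, hQ⟩ := (IsPGroup.of_card (G := Subgroup.zpowers g) (p := 2) (n := k)
    (by rw [Nat.card_zpowers, hg])).exists_le_sylow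
  obtain ⟨c, hc⟩ := MulAction.exists_smul_eq K Q P
  have hmem : c * g * c⁻¹ ∈ (P : Subgroup K) := by
    rw [← hc]
    exact (Subgroup.smul_mem_pointwise_smul_iff (a := MulAut.conj c) (x := g)
      (S := (Q : Subgroup K))).2 (hQ (Subgroup.mem_zpowers g))
  rw [← orderOf_conj c g]
  apply orderOf_dvd_of_pow_eq_one
  rw [sq]
  exact congrArg Subtype.val (IsKleinFour.mul_self (⟨_, hmem⟩ : (P : Subgroup K)))

include hP in
/-- Every singular element is an involution times a commuting element of odd order. -/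
theorem exists_parts {g : K} (hg : 2 ∣ orderOf g) :
    ∃ t y : K, orderOf t = 2 ∧ Commute t y ∧ ¬ 2 ∣ orderOf y ∧ t * y = g := by
  obtain ⟨x, hx⟩ := CfsgLib.Blocks.exists_isPPart Nat.prime_two g
  obtain ⟨y, hxy, hc, ⟨k, hk⟩, hy⟩ := hx
  refine ⟨x, y, ?_, hc, hy, hxy⟩
  rcases (Nat.dvd_prime Nat.prime_two).1 (orderOf_dvd_two P hP hk) with h | h
  · rw [orderOf_eq_one_iff] at h
    rw [← hxy, h, one_mul] at hg
    exact absurd hg hy
  · exact h

include hP in
/-- A Sylow 2-subgroup through `t` inside the centraliser of `t`. -/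
theorem exists_sylow_le_centralizer {t : K} (ht : orderOf t = 2) :
    ∃ Q : Sylow 2 K, t ∈ Q ∧ IsKleinFour (Q : Subgroup K) ∧
      (Q : Subgroup K) ≤ Subgroup.centralizer ({t} : Set K) := by
  have : Fact (Nat.Prime 2) := ⟨Nat.prime_two⟩
  obtain ⟨Q, hQt, -⟩ := exists_sylow_mem_of_commute ht ht (Commute.refl t)
  have e : (P : Subgroup K) ≃* (Q : Subgroup K) := Sylow.equiv P Q
  have hQ : IsKleinFour (Q : Subgroup K) :=
    { card_four := by rw [← Nat.card_congr e.toEquiv, IsKleinFour.card_four]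
      exponent_two := by rw [← Monoid.exponent_eq_of_mulEquiv e, IsKleinFour.exponent_two] }
  refine ⟨Q, hQt, hQ, fun q hq => Subgroup.mem_centralizer_singleton_iff.2 ?_⟩
  exact congrArg Subtype.val ((IsPGroup.commGroupOfCardEqPrimeSq (p := 2) (G := (Q : Subgroup K))
    IsKleinFour.card_four).mul_comm ⟨q, hq⟩ ⟨t, hQt⟩)

include hP in
/-- The centraliser of an involution has a normal 2-complement of index four. -/
theorem exists_complement {t : K} (ht : orderOf t = 2) :
    ∃ N : Subgroup (Subgroup.centralizer ({t} : Set K)),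
      N.Normal ∧ ¬ 2 ∣ Nat.card N ∧ N.index = 2 ^ 2 := by
  have : Fact (Nat.Prime 2) := ⟨Nat.prime_two⟩
  obtain ⟨Q, hQt, hQ, hle⟩ := exists_sylow_le_centralizer P hP ht
  let R : Sylow 2 (Subgroup.centralizer ({t} : Set K)) := Q.subtype hle
  have e : (R : Subgroup (Subgroup.centralizer ({t} : Set K))) ≃* (Q : Subgroup K) :=
    Subgroup.subgroupOfEquivOfLe hle
  have hR : IsKleinFour (R : Subgroup (Subgroup.centralizer ({t} : Set K))) :=
    { card_four := by rw [Nat.card_congr e.toEquiv, IsKleinFour.card_four]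
      exponent_two := by rw [Monoid.exponent_eq_of_mulEquiv e, IsKleinFour.exponent_two] }
  have htC : t ∈ Subgroup.centralizer ({t} : Set K) := Subgroup.mem_centralizer_singleton_iff.2 rfl
  rcases klein_sylow_dichotomy R hR with ⟨hN, -⟩ | ⟨⟨a, ha, b, hb, hab, hconj⟩, h1⟩
  · refine ⟨(MonoidHom.transferSylow R hN).ker, inferInstance,
      MonoidHom.not_dvd_card_ker_transferSylow R hN, ?_⟩
    rw [(MonoidHom.ker_transferSylow_isComplement' R hN).symm.index_eq_card, IsKleinFour.card_four]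
    norm_num
  · exfalso
    rw [Nat.card_eq_one_iff_unique] at h1
    have hall : ∀ w : Subgroup.centralizer ({t} : Set K), orderOf w = 2 → w = ⟨t, htC⟩ := by
      intro w hw
      have h2 : ConjClasses.mk w = ConjClasses.mk (⟨t, htC⟩ : Subgroup.centralizer ({t} : Set K)) :=
        congrArg Subtype.val (h1.1.elim ⟨_, w, hw, rfl⟩
          ⟨_, ⟨t, htC⟩, by rw [Subgroup.orderOf_mk, ht], rfl⟩)
      obtain ⟨c, hc⟩ := isConj_iff.1 (ConjClasses.mk_eq_mk_iff_isConj.1 h2.symm)
      rw [← hc]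
      apply Subtype.ext
      show (c : K) * t * (c : K)⁻¹ = t
      rw [Subgroup.mem_centralizer_singleton_iff.1 c.2, mul_inv_cancel_right]
    have ho : ∀ w ∈ (R : Subgroup (Subgroup.centralizer ({t} : Set K))), w ≠ 1 → orderOf w = 2 :=
      fun w hw hw1 => orderOf_eq_two hw1
        (congrArg Subtype.val (IsKleinFour.mul_self (⟨w, hw⟩ : (R : Subgroup _))))
    have ha1 : a ≠ 1 := fun h => hab (by rw [h] at hconj ⊢; exact (isConj_one_right.1 hconj).symm)
    have hb1 : b ≠ 1 := fun h => ha1 (by rw [h] at hconj; exact isConj_one_left.1 hconj)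
    exact hab ((hall a (ho a ha ha1)).trans (hall b (ho b hb hb1)).symm)

include hP in
/-- On singular elements the principal block takes the value at the involution part. -/
theorem apply_singular {M : Ideal Cfsg.AlgInt} (hM : Cfsg.IsPModular 2 M)
    {χ : Cfsg.IrrCharacter K} (hχ : χ ∈ BlockCol.pBlock M K) {t y : K} (ht : orderOf t = 2)
    (hc : Commute t y) (hy : ¬ 2 ∣ orderOf y) : (χ : K → ℂ) (t * y) = (χ : K → ℂ) t := by
  have : Fact (Nat.Prime 2) := ⟨Nat.prime_two⟩
  obtain ⟨N, hN, hodd, hidx⟩ := exists_complement P hP ht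
  have hyC : y ∈ Subgroup.centralizer ({t} : Set K) :=
    Subgroup.mem_centralizer_singleton_iff.2 hc.eq.symm
  exact BlockCol.apply_mul_complement hM ⟨1, by rw [pow_one, ht]⟩ N hodd hχ
    (y := ⟨y, hyC⟩) ((BlockCol.regular_iff_mem N hodd hidx _).1 (by rwa [Subgroup.orderOf_mk]))

include hP hone in
/-- The principal block of a group with Klein four Sylow 2-subgroups and one class of
involutions. -/
theorem exists_four {M : Ideal Cfsg.AlgInt} (hM : Cfsg.IsPModular 2 M) :
    ∃ (ρ : Fin 4 → Cfsg.IrrCharacter K) (s : Fin 4 → ℤ), Function.Injective ρ ∧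
      ρ 0 = CfsgLib.Char.principalIrr ∧ (∀ χ, χ ∈ BlockCol.pBlock M K ↔ ∃ i, ρ i = χ) ∧
      s 0 = 1 ∧ (∀ i, s i * s i = 1) ∧
      (∀ i z, orderOf z = 2 → (ρ i : K → ℂ) z = (s i : ℂ)) ∧
      (∀ i, ¬ 2 ∣ Cfsg.charDegree (ρ i : K → ℂ)) ∧
      (∀ y : K, ¬ 2 ∣ orderOf y → ∑ i, (s i : ℂ) * (ρ i : K → ℂ) y = 0) ∧
      ∀ c : Fin 4 → ℂ, (∀ y : K, ¬ 2 ∣ orderOf y → ∑ i, c i * (ρ i : K → ℂ) y = 0) →
        ∀ i, c i = c 0 * (s i : ℂ) := by
  classical
  have : Fact (Nat.Prime 2) := ⟨Nat.prime_two⟩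
  haveI := hM.2.1
  cases nonempty_fintype K
  -- an involution
  obtain ⟨t, ht⟩ : ∃ t : K, orderOf t = 2 := by
    refine exists_prime_orderOf_dvd_card' 2 ((dvd_trans (by norm_num : 2 ∣ 4) ?_))
    rw [← IsKleinFour.card_four (G := (P : Subgroup K))]
    exact Subgroup.card_subgroup_dvd_card _
  obtain ⟨N, hN, hodd, hidx⟩ := exists_complement P hP ht
  obtain ⟨Q, hQt, hQ, hQle⟩ := exists_sylow_le_centralizer P hP ht
  set B := BlockCol.pBlock M K with hB
  choose v hv hv2 using fun χ : Cfsg.IrrCharacter K => Cfsg.Agent.S0944.result χ t ht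
  have hsum : ∑ χ ∈ B, v χ * v χ = 4 := by
    have h := BlockCol.sum_sq_of_complement hM ⟨1, by rw [pow_one, ht]⟩ N hodd hidx
    simp only [hv, map_intCast, hidx] at h
    exact_mod_cast h
  have hne : ∀ χ ∈ B, v χ ≠ 0 := by
    intro χ hχ h0
    have h := (BlockCol.mem_pBlock.1 hχ) t
    have h1 : Cfsg.centralChar (χ : K → ℂ) t = 0 := by
      rw [CfsgLib.BlockReg.centralChar_eq, hv, h0, Int.cast_zero, mul_zero, zero_div]
    have h2 : Cfsg.centralChar (fun _ : K => (1 : ℂ)) t = (CfsgLib.BlockReg.csize t : ℂ) := by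
      rw [Cfsg.centralChar, mul_one, div_one]
      rfl
    rw [h1, h2, sub_zero] at h
    refine CfsgLib.BlockReg.not_memIdeal_natCast hM (fun hd => ?_) h
    exact Q.not_dvd_index (hd.trans (Subgroup.index_dvd_of_le hQle))
  have hp : CfsgLib.Char.principalIrr ∈ B :=
    BlockCol.mem_pBlock.2 CfsgLib.Blocks.principalIrr_mem_principalBlock
  have hvp : v CfsgLib.Char.principalIrr = 1 := by
    have h := hv CfsgLib.Char.principalIrr
    rw [CfsgLib.Char.principalIrr_apply] at h
    exact_mod_cast h.symm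
  have hone' : ∀ χ ∈ B, 1 ≤ v χ * v χ := fun χ hχ => by
    rcases lt_or_gt_of_ne (hne χ hχ) with h | h <;> nlinarith
  have hrest : ∑ χ ∈ B.erase CfsgLib.Char.principalIrr, v χ * v χ = 3 := by
    rw [Finset.sum_erase_eq_sub hp, hsum, hvp]
    norm_num
  have hsq : ∀ χ ∈ B.erase CfsgLib.Char.principalIrr, v χ * v χ = 1 := fun χ hχ => by
    have hle : v χ * v χ ≤ 3 := hrest ▸ Finset.single_le_sum
      (fun ψ hψ => le_trans zero_le_one (hone' ψ (Finset.mem_of_mem_erase hψ))) hχ
    have h1 := hone' χ (Finset.mem_of_mem_erase hχ)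
    have ha : v χ < 2 := by nlinarith
    have hb : -2 < v χ := by nlinarith
    interval_cases (v χ) <;> simp_all
  have hcard : (B.erase CfsgLib.Char.principalIrr).card = 3 := by
    have h := hrest
    rw [Finset.sum_congr rfl hsq, Finset.sum_const] at h
    simp at h
    exact_mod_cast h
  obtain ⟨x, y, z, hxy, hxz, hyz, hBe⟩ := Finset.card_eq_three.1 hcard
  have hBset : B = {CfsgLib.Char.principalIrr, x, y, z} := by
    rw [← Finset.insert_erase hp, hBe]
  have hm : ∀ w ∈ ({x, y, z} : Finset _), w ∈ B.erase CfsgLib.Char.principalIrr := by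
    rw [← hBe]; exact fun w hw => hw
  have hx := Finset.mem_erase.1 (hm x (by simp))
  have hy := Finset.mem_erase.1 (hm y (by simp))
  have hz := Finset.mem_erase.1 (hm z (by simp))
  set ρ : Fin 4 → Cfsg.IrrCharacter K := ![CfsgLib.Char.principalIrr, x, y, z] with hρ
  have hρB : ∀ χ, χ ∈ B ↔ ∃ i, ρ i = χ := by
    intro χ
    simp [hBset, hρ, Fin.exists_fin_succ, eq_comm]
  have hinj : Function.Injective ρ := by
    intro i j h
    fin_cases i <;> fin_cases j <;>
      simp_all [hx.1, hy.1, hz.1, Ne.symm hx.1, Ne.symm hy.1, Ne.symm hz.1, Ne.symm hxy,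
        Ne.symm hxz, Ne.symm hyz]
  have hs2 : ∀ i, v (ρ i) * v (ρ i) = 1 := by
    intro i
    by_cases h : ρ i = CfsgLib.Char.principalIrr
    · rw [h, hvp, one_mul]
    · exact hsq _ (Finset.mem_erase.2 ⟨h, (hρB _).2 ⟨i, rfl⟩⟩)
  have hval : ∀ i, ∀ w : K, orderOf w = 2 → (ρ i : K → ℂ) w = (v (ρ i) : ℂ) := fun i w hw => by
    rw [← hv, CfsgLib.BlockReg.char_conj_invariant (ρ i) w t (hone w t hw ht)]
  have hB4 : B = Finset.univ.image ρ := by
    ext χ
    simp [hρB χ]
  have horth : ∀ w : K, ¬ 2 ∣ orderOf w → ∑ i, (v (ρ i) : ℂ) * (ρ i : K → ℂ) w = 0 := by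
    intro w hw
    have h := CfsgLib.BlockReg.block_orthogonality hM CfsgLib.Blocks.isPBlock_principalBlock w t hw
      (by rw [ht])
    rw [BlockCol.finsum_principal, ← hB, hB4, Finset.sum_image (fun i _ j _ h => hinj h)] at h
    rw [← h]
    refine Finset.sum_congr rfl fun i _ => ?_
    rw [hv, map_intCast, mul_comm]
  refine ⟨ρ, fun i => v (ρ i), hinj, rfl, hρB, hvp, hs2, hval, fun i hd => ?_, horth, ?_⟩
  · have h2 := hv2 (ρ i)
    rcases mul_self_eq_one_iff.1 (hs2 i) with h | h <;> rw [h] at h2 <;> omega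
  -- independence modulo the relation
  intro c hc i
  set σ : ℂ := ∑ j, c j * (v (ρ j) : ℂ) with hσ
  have hall : ∑ j, (c j - σ / 4 * (v (ρ j) : ℂ)) • (ρ j : K → ℂ) = 0 := by
    funext g
    simp only [Finset.sum_apply, Pi.smul_apply, smul_eq_mul, Pi.zero_apply, sub_mul,
      Finset.sum_sub_distrib, mul_assoc, ← Finset.mul_sum]
    by_cases hg : 2 ∣ orderOf g
    · obtain ⟨t', y', ht', hc', hy', rfl⟩ := exists_parts P hP hg
      have he : ∀ j, (ρ j : K → ℂ) (t' * y') = (v (ρ j) : ℂ) := fun j => by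
        rw [apply_singular P hP hM ((hρB _).2 ⟨j, rfl⟩) ht' hc' hy', hval j t' ht']
      simp only [he]
      have h4 : ∑ j : Fin 4, (v (ρ j) : ℂ) * (v (ρ j) : ℂ) = 4 := by
        simp only [← Int.cast_mul, hs2]
        simp
      rw [h4, ← hσ]
      ring
    · rw [hc g hg, horth g hg, mul_zero, sub_zero]
  have hcoef : ∀ j, c j - σ / 4 * (v (ρ j) : ℂ) = 0 :=
    Fintype.linearIndependent_iff.1
      ((CfsgLib.Char.linearIndependent_irrCharacter (G := K)).comp ρ hinj) _ hall
  have h0 := hcoef 0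
  rw [show ρ 0 = CfsgLib.Char.principalIrr from rfl, hvp, Int.cast_one, mul_one] at h0
  linear_combination hcoef i - (v (ρ i) : ℂ) * h0

end CfsgLib.Invol.KleinBlock
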