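import Cfsg.Agent.Lib.BlockReg.LocalRing
import Cfsg.Agent.Lib.Blocks.Osima
import Cfsg.Agent.Lib.Char.Kernel
import Mathlib.Algebra.Group.Conj
import Cfsg.Agent.Lib.Invol.Counting

/-!
# The principal block and normal subgroups of order prime to the characteristic
-/

set_option autoImplicit false

namespace CfsgLib.Invol

open Cfsg

variable {G : Type*} [Group G] [Finite G]

/-- A class function on a normal subgroup whose class-weighted values lie in the local ideal has
its sum there. -/
theorem memLocalIdeal_sum_normal {p : ℕ} {M : Ideal AlgInt} (hM : IsPModular p M)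
    (N : Subgroup G) [N.Normal] [Fintype N] (f : G → ℂ)
    (hf : ∀ g a : G, f (a * g * a⁻¹) = f g)
    (hmem : ∀ g ∈ N,
      MemLocalIdeal M (((Subgroup.centralizer ({g} : Set G)).index : ℂ) * f g)) :
    MemLocalIdeal M (∑ n : N, f n) := by
  classical
  rw [← Finset.sum_fiberwise_of_maps_to (g := fun n : N => ConjClasses.mk (n : G))
    (t := Finset.univ.image fun n : N => ConjClasses.mk (n : G))
    (fun n hn => Finset.mem_image_of_mem _ hn)]
  refine CfsgLib.BlockReg.memIdeal_sum hM _ fun C hC => ?_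
  obtain ⟨n₀, -, rfl⟩ := Finset.mem_image.1 hC
  set F := Finset.univ.filter fun n : N => ConjClasses.mk (n : G) = ConjClasses.mk (n₀ : G) with hF
  have hsum : ∑ n ∈ F, f n = (F.card : ℂ) * f n₀ := by
    rw [Finset.sum_congr rfl (g := fun _ => f (n₀ : G)) (fun n hn => ?_), Finset.sum_const,
      nsmul_eq_mul]
    obtain ⟨a, ha⟩ := isConj_iff.1 (ConjClasses.mk_eq_mk_iff_isConj.1 (Finset.mem_filter.1 hn).2)
    rw [← ha, hf]
  have hcard : F.card = (Subgroup.centralizer ({(n₀ : G)} : Set G)).index := by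
    rw [← CfsgLib.Invol.card_isConj_eq_index, ← Nat.card_eq_finsetCard]
    refine Nat.card_congr
      { toFun := fun n => ⟨(n.1 : G), (ConjClasses.mk_eq_mk_iff_isConj.1
          (Finset.mem_filter.1 n.2).2).symm⟩
        invFun := fun u => ⟨⟨u.1, ?_⟩, ?_⟩
        left_inv := fun n => rfl
        right_inv := fun u => rfl }
    · obtain ⟨a, ha⟩ := isConj_iff.1 u.2
      rw [← ha]
      exact Subgroup.Normal.conj_mem inferInstance _ n₀.2 a
    · exact Finset.mem_filter.2 ⟨Finset.mem_univ _, ConjClasses.mk_eq_mk_iff_isConj.2 u.2.symm⟩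
  rw [hsum, hcard]
  exact hmem _ n₀.2

/-- A normal subgroup of order prime to `p` is in the kernel of the principal block. -/
theorem apply_mul_of_mem_principalBlock {p : ℕ} {M : Ideal AlgInt} (hM : IsPModular p M)
    {N : Subgroup G} [N.Normal] (hN : ¬ p ∣ Nat.card N) {χ : IrrCharacter G}
    (hχ : χ ∈ principalBlock M G) {n : G} (hn : n ∈ N) (g : G) :
    (χ : G → ℂ) (g * n) = (χ : G → ℂ) g := by
  classical
  obtain ⟨d, ρ, hρ, hχρ⟩ := χ.2
  by_cases hker : ∃ h ∈ N, ρ h ≠ 1
  swap
  · push Not at hker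
    rw [← hχρ]
    show LinearMap.trace ℂ _ (ρ (g * n)) = LinearMap.trace ℂ _ (ρ g)
    rw [map_mul, hker n hn, mul_one]
  exfalso
  have : Fintype N := Fintype.ofFinite N
  -- the sum over `N` acts as zero
  have hzero : ∑ h : N, ρ (h : G) = 0 := by
    apply LinearMap.ext
    intro v
    have hv : (∑ h : N, ρ (h : G)) v ∈ CfsgLib.CharKernel.fixedSpace ρ N := by
      rw [CfsgLib.CharKernel.mem_fixedSpace]
      intro a ha
      rw [← Module.End.mul_apply, Finset.mul_sum]
      exact congrFun (congrArg DFunLike.coe (Fintype.sum_equiv (Equiv.mulLeft (⟨a, ha⟩ : N))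
        (fun h : N => ρ a * ρ (h : G)) (fun h : N => ρ (h : G)) (fun h => by
          show ρ a * ρ (h : G) = ρ (a * (h : G))
          rw [map_mul]))) v
    rw [CfsgLib.CharKernel.fixedSpace_eq_bot ρ N hker, Submodule.mem_bot] at hv
    exact hv
  have hsum : ∑ h : N, (χ : G → ℂ) h = 0 := by
    rw [← hχρ]
    show ∑ h : N, LinearMap.trace ℂ _ (ρ (h : G)) = 0
    rw [← map_sum, hzero, map_zero]
  have hne : (χ : G → ℂ) 1 ≠ 0 := CfsgLib.Char.IsIrrCharacter.apply_one_ne_zero χ.2
  have hkey := memLocalIdeal_sum_normal hM N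
    (fun g => 1 - (χ : G → ℂ) g / (χ : G → ℂ) 1)
    (fun g a => by
      show (1 : ℂ) - (χ : G → ℂ) (a * g * a⁻¹) / _ = _
      rw [CfsgLib.Char.IsIrrCharacter.isClassFunction χ.2 g a])
    (fun g _ => by
      have h := hχ g
      rw [centralChar, centralChar, div_one] at h
      convert h using 1
      ring)
  simp only [Finset.sum_sub_distrib, ← Finset.sum_div, hsum, zero_div, sub_zero, Finset.sum_const,
    Finset.card_univ, nsmul_eq_mul, mul_one, ← Nat.card_eq_fintype_card] at hkey
  exact CfsgLib.BlockReg.not_memIdeal_natCast hM hN hkey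

end CfsgLib.Invol
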