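import Cfsg.Agent.Lib.Invol.Dihedral
import Mathlib.GroupTheory.Transfer
import Mathlib.Analysis.Complex.Basic

/-!
# A linear character of order four from a cyclic Sylow 2-subgroup
-/

set_option autoImplicit false

namespace CfsgLib.Invol.CyclicSylow

variable {C : Type*} [Group C] [Finite C]

/-- If a Sylow 2-subgroup is cyclic, generated by `g` of order at least 4 with `g * g` central,
then there is a linear character `lam` with `lam g` of order four which is inverted by every
endomorphism inverting `g`, and `g * g` is a power of every element outside its kernel. -/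
theorem exists_lambda (P : Sylow 2 C) {g : C} (hP : (P : Subgroup C) = Subgroup.zpowers g)
    {k : ℕ} (hk : 2 ≤ k) (hg : orderOf g = 2 ^ k) (hc : g * g ∈ Subgroup.center C) :
    ∃ lam : C →* ℂˣ, (lam g : ℂ) * (lam g : ℂ) = -1 ∧
      (∀ y : C, lam y ≠ 1 → g * g ∈ Subgroup.zpowers y) ∧
      ∀ β : C →* C, β g = g⁻¹ → ∀ y : C, lam (β y) = (lam y)⁻¹ := by
  haveI : Fact (Nat.Prime 2) := ⟨Nat.prime_two⟩
  have hgP : g ∈ P := by
    show g ∈ (P : Subgroup C)
    rw [hP]
    exact Subgroup.mem_zpowers g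
  have hcyc : IsCyclic (P : Subgroup C) := by
    rw [hP]
    infer_instance
  have hmin : (Nat.card C).minFac = 2 := by
    rw [Nat.minFac_eq_two_iff]
    exact ((dvd_pow_self 2 (by omega : k ≠ 0)).trans hg.symm.dvd).trans (orderOf_dvd_natCard g)
  have hle := IsCyclic.normalizer_le_centralizer hmin hcyc
  have hPc : Nat.card (P : Subgroup C) = 2 ^ k := by rw [hP, Nat.card_zpowers, hg]
  set T := MonoidHom.transferSylow P hle with hT
  have hTg : (T g : C) = g ^ (P : Subgroup C).index :=
    congrArg Subtype.val (MonoidHom.transferSylow_eq_pow P hle g hgP)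
  have hoddi : Odd (P : Subgroup C).index :=
    Nat.odd_iff.2 (Nat.two_dvd_ne_zero.1 P.not_dvd_index)
  have hoT : orderOf (T g) = 2 ^ k := by
    rw [← Subgroup.orderOf_coe, hTg,
      Nat.Coprime.orderOf_pow (by rw [hg]; exact (Nat.coprime_two_left.2 hoddi).pow_left k), hg]
  have hgen : ∀ x : (P : Subgroup C), x ∈ Subgroup.zpowers (T g) := by
    intro x
    have h : Subgroup.zpowers (T g) = ⊤ := by
      apply Subgroup.eq_top_of_card_eq
      rw [Nat.card_zpowers, hoT, hP, Nat.card_zpowers, hg]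
    rw [h]
    trivial
  let iu : ℂˣ := Units.mk0 Complex.I Complex.I_ne_zero
  have hiu : iu ^ 4 = 1 := Units.ext (by simp [iu, Complex.I_pow_four])
  have hdvd : orderOf iu ∣ orderOf (T g) := by
    rw [hoT]
    exact (orderOf_dvd_of_pow_eq_one hiu).trans (Nat.pow_dvd_pow 2 hk)
  refine ⟨(monoidHomOfForallMemZpowers hgen hdvd).comp T, ?_, ?_, ?_⟩
  · rw [MonoidHom.comp_apply, monoidHomOfForallMemZpowers_apply_gen]
    exact Complex.I_mul_I
  · intro y hy
    obtain ⟨i, hi⟩ := (isOfFinOrder_of_finite (T g)).mem_powers_iff_mem_zpowers.2 (hgen (T y))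
    simp only at hi
    have hi4 : ¬ 4 ∣ i := by
      rintro ⟨c, rfl⟩
      apply hy
      rw [MonoidHom.comp_apply, ← hi, map_pow, monoidHomOfForallMemZpowers_apply_gen, pow_mul,
        hiu, one_pow]
    obtain ⟨j, hj⟩ : ∃ j : ℕ, (T y) ^ j = T (g * g) := by
      rw [map_mul, ← sq]
      rcases Nat.even_or_odd' i with ⟨d, rfl | rfl⟩
      · have hd : Nat.Coprime d (orderOf (T g ^ 2)) := by
          refine Nat.Coprime.of_dvd_right (orderOf_pow_dvd 2) ?_
          rw [hoT]
          exact (Nat.coprime_two_right.2 (Nat.odd_iff.2 (by omega))).pow_right k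
        obtain ⟨m, hm⟩ := exists_pow_eq_self_of_coprime hd
        refine ⟨m, ?_⟩
        rw [← hi, pow_mul]
        exact hm
      · have hd : Nat.Coprime (2 * d + 1) (orderOf (T g)) := by
          rw [hoT]
          exact (Nat.coprime_two_right.2 ⟨d, rfl⟩).pow_right k
        obtain ⟨m, hm⟩ := exists_pow_eq_self_of_coprime hd
        refine ⟨m * 2, ?_⟩
        rw [← hi, pow_mul _ m 2, hm]
    have hker : (g * g)⁻¹ * y ^ j ∈ T.ker := by
      rw [MonoidHom.mem_ker, map_mul, map_inv, map_pow, hj, inv_mul_cancel]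
    have hm : ((g * g)⁻¹ * y ^ j) ^ Nat.card T.ker = 1 :=
      congrArg Subtype.val (pow_card_eq_one' (x := (⟨_, hker⟩ : T.ker)))
    have hcomm : Commute (g * g)⁻¹ (y ^ j) :=
      ((Subgroup.mem_center_iff.1 (Subgroup.inv_mem _ hc) (y ^ j)).symm : _)
    rw [hcomm.mul_pow, inv_pow, inv_mul_eq_one] at hm
    have hco : Nat.Coprime (Nat.card T.ker) (orderOf (g * g)) := by
      refine Nat.Coprime.of_dvd_right (?_ : orderOf (g * g) ∣ 2 ^ k) ?_
      · rw [← hg, ← sq]
        exact orderOf_pow_dvd 2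
      · exact (Nat.coprime_two_right.2 (Nat.odd_iff.2 (Nat.two_dvd_ne_zero.1
          (MonoidHom.not_dvd_card_ker_transferSylow P hle)))).pow_right k
    obtain ⟨m, hmm⟩ := exists_pow_eq_self_of_coprime hco
    rw [← hmm, hm, ← pow_mul, ← pow_mul]
    exact Subgroup.npow_mem_zpowers y _
  · intro β hβ y
    set lam := (monoidHomOfForallMemZpowers hgen hdvd).comp T
    have hsup : T.ker ⊔ (P : Subgroup C) = ⊤ :=
      (MonoidHom.ker_transferSylow_isComplement' P hle).sup_eq_top
    have hkerlam : ∀ u : C, u ∈ T.ker → lam (β u) = (lam u)⁻¹ := by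
      intro u hu
      have hum : u ^ Nat.card T.ker = 1 :=
        congrArg Subtype.val (pow_card_eq_one' (x := (⟨u, hu⟩ : T.ker)))
      have h1 : T (β u) ^ Nat.card T.ker = 1 := by rw [← map_pow, ← map_pow, hum, map_one, map_one]
      have h2 : T (β u) ^ 2 ^ k = 1 := by
        have h2' : T (β u) ^ Nat.card (P : Subgroup C) = 1 := pow_card_eq_one'
        rwa [hPc] at h2'
      have hco : Nat.gcd (Nat.card T.ker) (2 ^ k) = 1 :=
        (Nat.coprime_two_right.2 (Nat.odd_iff.2 (Nat.two_dvd_ne_zero.1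
          (MonoidHom.not_dvd_card_ker_transferSylow P hle)))).pow_right k
      have h3 := pow_gcd_eq_one.2 ⟨h1, h2⟩
      rw [hco, pow_one] at h3
      show (monoidHomOfForallMemZpowers hgen hdvd) (T (β u)) =
        ((monoidHomOfForallMemZpowers hgen hdvd) (T u))⁻¹
      rw [h3, MonoidHom.mem_ker.1 hu, map_one, inv_one]
    let E : Subgroup C :=
      { carrier := {u | lam (β u) = (lam u)⁻¹}
        one_mem' := by simp
        mul_mem' := fun {u v} (hu : lam (β u) = (lam u)⁻¹) (hv : lam (β v) = (lam v)⁻¹) => by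
          show lam (β (u * v)) = (lam (u * v))⁻¹
          rw [map_mul, map_mul, map_mul, hu, hv, mul_inv]
        inv_mem' := fun {u} (hu : lam (β u) = (lam u)⁻¹) => by
          show lam (β u⁻¹) = (lam u⁻¹)⁻¹
          rw [map_inv, map_inv, map_inv, hu] }
    have h1 : T.ker ⊔ (P : Subgroup C) ≤ E := by
      refine sup_le hkerlam ?_
      rw [hP, Subgroup.zpowers_le]
      show lam (β g) = (lam g)⁻¹
      rw [hβ, map_inv]
    rw [hsup] at h1
    exact h1 (Subgroup.mem_top y)

end CfsgLib.Invol.CyclicSylow
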