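import Cfsg.Agent.Lib.Invol.QuaternionSylow
import Cfsg.Agent.Lib.Invol.CyclicSylowChar
import Cfsg.Agent.Lib.Invol.Counting
import Cfsg.Agent.Lib.Char.Induced
import Cfsg.Agent.Lib.Char.Exceptional
import Cfsg.Agent.Lib.Char.Integral
import Mathlib.FieldTheory.Finite.Basic

/-!
# Brauer–Suzuki for quaternion Sylow 2-subgroups of order at least 16: exceptional characters
-/

set_option autoImplicit false

universe u

namespace CfsgLib.Invol.BSLarge

open scoped ComplexConjugate

section Norm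

variable {G : Type u} [Group G] [Fintype G]

/-- A generalized character of norm three containing the principal character once is the
principal character plus two signed irreducible characters. -/
theorem exists_two_of_norm_three {θ : G → ℂ} (hθ : Cfsg.IsGeneralizedCharacter G θ)
    (h3 : Cfsg.classInner θ θ = 3)
    (h1 : Cfsg.classInner θ ((CfsgLib.Char.principalIrr : Cfsg.IrrCharacter G) : G → ℂ) = 1) :
    ∃ (χ₁ χ₂ : Cfsg.IrrCharacter G) (s₁ s₂ : ℤ), χ₁ ≠ χ₂ ∧ χ₁ ≠ CfsgLib.Char.principalIrr ∧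
      χ₂ ≠ CfsgLib.Char.principalIrr ∧ s₁ * s₁ = 1 ∧ s₂ * s₂ = 1 ∧
      ∀ g : G, θ g = 1 + (s₁ : ℂ) * (χ₁ : G → ℂ) g + (s₂ : ℂ) * (χ₂ : G → ℂ) g := by
  classical
  choose c hc using fun χ : Cfsg.IrrCharacter G => CfsgLib.CharExc.exists_int_classInner hθ χ.2
  have hcl := CfsgLib.Char.IsGeneralizedCharacter.isClassFunction hθ
  have hexp := CfsgLib.Char.IsClassFunction.eq_sum_classInner hcl
  simp only [hc] at hexp
  have hnorm : ∑ χ, c χ * c χ = 3 := by
    rw [hexp, CfsgLib.Char.classInner_sum_smul_sum_smul] at h3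
    simp only [map_intCast] at h3
    exact_mod_cast h3
  set p : Cfsg.IrrCharacter G := CfsgLib.Char.principalIrr with hp
  have hcp : c p = 1 := by
    have := (hc p).symm.trans h1
    exact_mod_cast this
  set T := (Finset.univ.erase p).filter fun χ => c χ ≠ 0 with hT
  have hsum2 : ∑ χ ∈ T, c χ * c χ = 2 := by
    rw [hT, Finset.sum_filter_of_ne (p := fun χ => c χ ≠ 0)
        (fun χ _ h (h0 : c χ = 0) => h (by simp [h0])),
      Finset.sum_erase_eq_sub (Finset.mem_univ p), hnorm, hcp]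
    norm_num
  have hone : ∀ χ ∈ T, 1 ≤ c χ * c χ := fun χ hχ => by
    have h0 := (Finset.mem_filter.mp hχ).2
    rcases lt_or_gt_of_ne h0 with h | h <;> nlinarith
  have hsq : ∀ χ ∈ T, c χ * c χ = 1 := fun χ hχ => by
    have hle : c χ * c χ ≤ 2 := hsum2 ▸
      Finset.single_le_sum (fun ψ hψ => le_trans zero_le_one (hone ψ hψ)) hχ
    have h1' := hone χ hχ
    have ha : c χ < 2 := by nlinarith
    have hb : -2 < c χ := by nlinarith
    interval_cases (c χ) <;> simp_all
  have hcard : T.card = 2 := by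
    rw [Finset.sum_congr rfl hsq, Finset.sum_const] at hsum2
    simp at hsum2
    exact_mod_cast hsum2
  obtain ⟨χ₁, χ₂, hne, hT2⟩ := Finset.card_eq_two.mp hcard
  have hm1 : χ₁ ∈ T := by simp [hT2]
  have hm2 : χ₂ ∈ T := by simp [hT2]
  refine ⟨χ₁, χ₂, c χ₁, c χ₂, hne, (Finset.mem_erase.mp (Finset.mem_filter.mp hm1).1).1,
    (Finset.mem_erase.mp (Finset.mem_filter.mp hm2).1).1, hsq χ₁ hm1, hsq χ₂ hm2, fun g => ?_⟩
  have hg := congrFun hexp g
  rw [Finset.sum_apply, ← Finset.add_sum_erase _ _ (Finset.mem_univ p),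
    ← Finset.sum_filter_of_ne (p := fun χ => c χ ≠ 0)
      (fun χ _ h (h0 : c χ = 0) => h (by simp [h0])), ← hT, hT2, Finset.sum_pair hne] at hg
  rw [hg, hcp, ← add_assoc]
  simp [hp, CfsgLib.Char.principalIrr_apply]

/-- Multiplying the class sum of all involutions with itself. -/
theorem apply_one_mul_sum_sum (χ : Cfsg.IrrCharacter G) (I : Finset G)
    (hI : ∀ g : G, g ∈ I ↔ orderOf g = 2) :
    (χ : G → ℂ) 1 * ∑ p ∈ I, ∑ q ∈ I, (χ : G → ℂ) (p * q) =
      (∑ p ∈ I, (χ : G → ℂ) p) * ∑ p ∈ I, (χ : G → ℂ) p := by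
  classical
  obtain ⟨n, ρ, hρ, he⟩ := χ.2
  obtain ⟨c, hc, hc'⟩ := CfsgLib.Char.exists_scalar_sum_smul ρ
    (fun x => if x ∈ I then (1 : ℂ) else 0) (fun g h => by simp only [hI, orderOf_conj])
  simp only [ite_smul, one_smul, zero_smul, ite_mul, one_mul, zero_mul, ← Finset.sum_filter,
    Finset.filter_univ_mem] at hc hc'
  rw [he] at hc'
  have h2 := congrArg₂ (· * ·) hc hc
  simp only [Finset.sum_mul, Finset.mul_sum, ← map_mul, smul_mul_smul_comm, one_mul] at h2
  have h2' := congrArg (LinearMap.trace ℂ (Fin n → ℂ)) h2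
  simp only [map_sum, map_smul, LinearMap.trace_one, smul_eq_mul] at h2'
  have h1 : (χ : G → ℂ) 1 = (Module.finrank ℂ (Fin n → ℂ) : ℂ) := by rw [← he]; simp
  have h3 : ∑ p ∈ I, ∑ q ∈ I, (χ : G → ℂ) (p * q) =
      c * c * (Module.finrank ℂ (Fin n → ℂ) : ℂ) := by
    rw [← h2', Finset.sum_comm, ← he]
    rfl
  rw [h3, h1, ← hc']
  ring

end Norm

/-- In a cyclic subgroup, elements of the same order generate the same subgroup. -/
theorem mem_zpowers_of_orderOf_eq {G : Type u} [Group G] [Finite G] {y v w : G}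
    (hv : v ∈ Subgroup.zpowers y) (hw : w ∈ Subgroup.zpowers y) (h : orderOf w = orderOf v) :
    w ∈ Subgroup.zpowers v := by
  obtain ⟨i, rfl⟩ := (isOfFinOrder_of_finite y).mem_powers_iff_mem_zpowers.2 hv
  obtain ⟨j, rfl⟩ := (isOfFinOrder_of_finite y).mem_powers_iff_mem_zpowers.2 hw
  simp only at h ⊢
  have hN := orderOf_pos y
  rw [orderOf_pow, orderOf_pow] at h
  have hd : Nat.gcd (orderOf y) j = Nat.gcd (orderOf y) i :=
    Nat.eq_of_mul_eq_mul_right (m := orderOf y / Nat.gcd (orderOf y) i)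
      (Nat.div_pos (Nat.le_of_dvd hN (Nat.gcd_dvd_left _ _)) (Nat.gcd_pos_of_pos_left _ hN))
      ((congrArg (Nat.gcd (orderOf y) j * ·) h.symm).trans
        ((Nat.mul_div_cancel' (Nat.gcd_dvd_left _ _)).trans
          (Nat.mul_div_cancel' (Nat.gcd_dvd_left _ _)).symm))
  obtain ⟨c, hc⟩ : Nat.gcd (orderOf y) i ∣ j := hd ▸ Nat.gcd_dvd_right _ _
  have hmem : y ^ Nat.gcd (orderOf y) i ∈ Subgroup.zpowers (y ^ i) := by
    refine ⟨Nat.gcdB (orderOf y) i, ?_⟩
    show (y ^ i) ^ Nat.gcdB (orderOf y) i = _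
    rw [← zpow_natCast y (Nat.gcd _ _), Nat.gcd_eq_gcd_ab, zpow_add, zpow_mul, zpow_natCast,
      pow_orderOf_eq_one, one_zpow, one_mul, zpow_mul, zpow_natCast]
  rw [hc, pow_mul]
  exact Subgroup.pow_mem _ hmem c

variable {G : Type u} [Group G] [Fintype G]

/-- The exceptional pair of characters, and their values on involutions. -/
theorem exists_pair (S : Sylow 2 G) (n : ℕ)
    (e : (S : Subgroup G) ≃* QuaternionGroup (2 ^ (n + 2))) :
    ∃ χ₁ χ₂ : Cfsg.IrrCharacter G, χ₁ ≠ CfsgLib.Char.principalIrr ∧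
      χ₂ ≠ CfsgLib.Char.principalIrr ∧ (χ₁ : G → ℂ) 1 = (χ₂ : G → ℂ) 1 + 1 ∧
      (∀ g : G, ¬ 4 ∣ orderOf g → (χ₁ : G → ℂ) g - (χ₂ : G → ℂ) g = 1) ∧
      ∀ z : G, orderOf z = 2 →
        (χ₁ : G → ℂ) z = (χ₁ : G → ℂ) 1 ∧ (χ₂ : G → ℂ) z = (χ₂ : G → ℂ) 1 := by
  classical
  haveI : Fact (Nat.Prime 2) := ⟨Nat.prime_two⟩
  set a : G := ((e.symm (QuaternionGroup.a 1) : (S : Subgroup G)) : G) with ha_def
  set b : G := ((e.symm (QuaternionGroup.xa 0) : (S : Subgroup G)) : G) with hb_def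
  have hcardS : Nat.card (S : Subgroup G) = 2 ^ (n + 4) := by
    rw [Nat.card_congr e.toEquiv, Nat.card_eq_fintype_card, QuaternionGroup.card]
    ring
  have ha : orderOf a = 2 ^ (n + 3) := by
    rw [ha_def, Subgroup.orderOf_coe, MulEquiv.orderOf_eq, QuaternionGroup.orderOf_a_one]
    ring
  have haa : orderOf (a * a) = 2 ^ (n + 2) := by
    rw [← sq, orderOf_pow' _ two_ne_zero, ha, pow_succ,
      Nat.gcd_eq_right (dvd_mul_left 2 _), Nat.mul_div_cancel _ two_pos]
  have haS : a ∈ S := SetLike.coe_mem _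
  have hbS : b ∈ S := SetLike.coe_mem _
  have hba : b * a * b⁻¹ = a⁻¹ := by
    rw [mul_inv_eq_iff_eq_mul, ha_def, hb_def, ← InvMemClass.coe_inv, ← Subgroup.coe_mul,
      ← Subgroup.coe_mul, ← map_inv, ← map_mul, ← map_mul]
    congr 2
    have hinv : (QuaternionGroup.a (1 : ZMod (2 * 2 ^ (n + 2))))⁻¹ = QuaternionGroup.a (-1) := rfl
    rw [hinv, QuaternionGroup.xa_mul_a, QuaternionGroup.a_mul_xa, sub_neg_eq_add]
  have hbaa : b * (a * a) * b⁻¹ = (a * a)⁻¹ := by
    rw [show b * (a * a) * b⁻¹ = b * a * b⁻¹ * (b * a * b⁻¹) by group, hba, mul_inv_rev]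
  -- the centralizer of `a * a`
  set C : Subgroup G := Subgroup.centralizer {a * a} with hC
  have hmC : ∀ {x : G}, x ∈ C ↔ x * (a * a) = (a * a) * x := fun {x} =>
    Subgroup.mem_centralizer_singleton_iff
  have haC : a ∈ C := hmC.2 (by group)
  have hbC : b ∉ C := by
    intro h
    rw [hmC] at h
    rw [h, mul_inv_cancel_right] at hbaa
    have h4 : orderOf (a * a) ∣ 2 := orderOf_dvd_of_pow_eq_one (by
      rw [sq]; nth_rw 1 [hbaa]; exact inv_mul_cancel _)
    rw [haa] at h4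
    have h4' : 2 ^ 2 ≤ 2 := (Nat.pow_le_pow_right two_pos (Nat.le_add_left 2 n)).trans
      (Nat.le_of_dvd two_pos h4)
    norm_num at h4'
  set g₀ : C := ⟨a, haC⟩ with hg₀
  have hg₀o : orderOf g₀ = 2 ^ (n + 3) := by rw [Subgroup.orderOf_mk, ha]
  have hg₀c : g₀ * g₀ ∈ Subgroup.center C := Subgroup.mem_center_iff.2 fun u =>
    Subtype.ext (hmC.1 u.2)
  have hfactC : (Nat.card C).factorization 2 = n + 3 := by
    have hpg : IsPGroup 2 (Subgroup.zpowers g₀) := IsPGroup.of_card (n := n + 3)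
      (by rw [Nat.card_zpowers, hg₀o])
    obtain ⟨P, hP⟩ := hpg.exists_le_sylow
    have h1 : 2 ^ (n + 3) ∣ Nat.card (P : Subgroup C) := by
      rw [← hg₀o, ← Nat.card_zpowers]
      exact Subgroup.card_dvd_of_le hP
    rw [P.card_eq_multiplicity, Nat.pow_dvd_pow_iff_le_right one_lt_two] at h1
    obtain ⟨Q, hQ⟩ := (P.2.map C.subtype).exists_le_sylow
    have h2 : (Nat.card C).factorization 2 ≤ n + 4 := by
      rw [← Nat.pow_le_pow_iff_right one_lt_two, ← P.card_eq_multiplicity, ← hcardS,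
        S.card_eq_multiplicity, ← Q.card_eq_multiplicity,
        ← Subgroup.card_map_of_injective C.subtype_injective]
      exact Subgroup.card_le_of_le hQ
    by_contra hne
    have h4 : (Nat.card C).factorization 2 = n + 4 := by omega
    have hPQ : (P : Subgroup C).map C.subtype = (Q : Subgroup G) := by
      refine Subgroup.eq_of_le_of_card_ge hQ ?_
      rw [Subgroup.card_map_of_injective C.subtype_injective, P.card_eq_multiplicity, h4,
        Q.card_eq_multiplicity, ← S.card_eq_multiplicity, hcardS]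
    obtain ⟨c, hc⟩ := MulAction.exists_smul_eq G Q S
    have haaQ : a * a ∈ Q := by
      show a * a ∈ (Q : Subgroup G)
      rw [← hPQ]
      exact ⟨g₀ * g₀, hP (Subgroup.mul_mem _ (Subgroup.mem_zpowers _) (Subgroup.mem_zpowers _)),
        rfl⟩
    have hwS : c * (a * a) * c⁻¹ ∈ S := by
      rw [← hc]
      exact (Subgroup.smul_mem_pointwise_smul_iff (a := MulAut.conj c) (x := a * a)
        (S := (Q : Subgroup G))).2 haaQ
    set w : (S : Subgroup G) := ⟨_, hwS⟩ with hw
    have hcomm : ∀ s : (S : Subgroup G), Commute w s := by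
      intro s
      have hs : (s : G) ∈ c • Q := by rw [hc]; exact s.2
      obtain ⟨q, hq, hqs⟩ := hs
      have hqC : q ∈ C := by
        have hq' : q ∈ (Q : Subgroup G) := hq
        rw [← hPQ] at hq'
        obtain ⟨p, -, rfl⟩ := hq'
        exact p.2
      have hqs' : c * q * c⁻¹ = s := hqs
      apply Subtype.ext
      show c * (a * a) * c⁻¹ * s = s * (c * (a * a) * c⁻¹)
      rw [← hqs', show c * (a * a) * c⁻¹ * (c * q * c⁻¹) = c * (a * a * q) * c⁻¹ by group,
        ← hmC.1 hqC]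
      group
    have h5 := QuatSylow.mul_self_of_commute
      (show 2 ≤ 2 ^ (n + 2) from (Nat.one_lt_two_pow (by omega)))
      (e w) (by simpa using (hcomm (e.symm (QuaternionGroup.a 1))).map e.toMonoidHom)
      (by simpa using (hcomm (e.symm (QuaternionGroup.xa 0))).map e.toMonoidHom)
    rw [← map_mul, map_eq_one_iff _ e.injective] at h5
    have h6 : orderOf (c * (a * a) * c⁻¹) ∣ 2 := orderOf_dvd_of_pow_eq_one (by
      rw [sq]; exact congrArg Subtype.val h5)
    rw [orderOf_conj, haa] at h6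
    have h6' : 2 ^ 2 ≤ 2 := (Nat.pow_le_pow_right two_pos (Nat.le_add_left 2 n)).trans
      (Nat.le_of_dvd two_pos h6)
    norm_num at h6'
  let P : Sylow 2 C := Sylow.ofCard (Subgroup.zpowers g₀) (by rw [Nat.card_zpowers, hg₀o, hfactC])
  obtain ⟨lam, hlam_sq, hlam_gen, hlam_inv⟩ :=
    CyclicSylow.exists_lambda P (g := g₀) rfl (k := n + 3) (by omega) hg₀o hg₀c
  -- conjugation by `b`
  have hβmem : ∀ x : C, b * (x : G) * b⁻¹ ∈ C := by
    intro x
    have h : Commute (x : G) (a * a)⁻¹ := (show Commute (x : G) (a * a) from hmC.1 x.2).inv_right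
    rw [hmC, show a * a = b * (a * a)⁻¹ * b⁻¹ by
      rw [← conj_inv, hbaa, inv_inv]]
    calc b * x * b⁻¹ * (b * (a * a)⁻¹ * b⁻¹) = b * ((x : G) * (a * a)⁻¹) * b⁻¹ := by group
      _ = b * ((a * a)⁻¹ * x) * b⁻¹ := by rw [h.eq]
      _ = _ := by group
  let β : C →* C :=
    { toFun := fun x => ⟨b * (x : G) * b⁻¹, hβmem x⟩
      map_one' := Subtype.ext (by simp)
      map_mul' := fun x y => Subtype.ext (by simp [mul_assoc]) }
  have hlamβ : ∀ y : C, lam (β y) = (lam y)⁻¹ := hlam_inv β (Subtype.ext hba)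
  -- the stabiliser of the subgroup generated by `a * a`
  set D := Subgroup.zpowers (a * a) with hD
  have hstab : ∀ x y : G, x * (a * a) * x⁻¹ ∈ D → y * (a * a) * y⁻¹ ∈ D →
      (x * y) * (a * a) * (x * y)⁻¹ ∈ D := by
    intro x y hx hy
    obtain ⟨j, hj⟩ := Subgroup.mem_zpowers_iff.1 hy
    rw [show (x * y) * (a * a) * (x * y)⁻¹ = x * (y * (a * a) * y⁻¹) * x⁻¹ by group, ← hj,
      ← conj_zpow]
    exact Subgroup.zpow_mem _ hx j
  let N : Subgroup G :=
    { carrier := {x | x * (a * a) * x⁻¹ ∈ D}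
      one_mem' := by simp [hD]
      mul_mem' := fun {x y} hx hy => hstab x y hx hy
      inv_mem' := fun {x} hx => by
        have hp : ∀ k : ℕ, x ^ k * (a * a) * (x ^ k)⁻¹ ∈ D := by
          intro k
          induction k with
          | zero => simp [hD]
          | succ k ih => rw [pow_succ]; exact hstab _ _ ih hx
        have hx' : x⁻¹ = x ^ (orderOf x - 1) := by
          apply inv_eq_of_mul_eq_one_left
          rw [← pow_succ, Nat.sub_add_cancel (orderOf_pos x), pow_orderOf_eq_one]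
        show x⁻¹ * (a * a) * x⁻¹⁻¹ ∈ D
        rw [hx']
        exact hp _ }
  have hmN : ∀ {x : G}, x ∈ N ↔ x * (a * a) * x⁻¹ ∈ D := Iff.rfl
  have hCN : C ≤ N := fun x hx => by
    rw [hmN, hmC.1 hx, mul_inv_cancel_right]
    exact Subgroup.mem_zpowers _
  have haN : a ∈ N := hCN haC
  have hbN : b ∈ N := by
    rw [hmN, hbaa]
    exact Subgroup.inv_mem _ (Subgroup.mem_zpowers _)
  have hSN : (S : Subgroup G) ≤ N := by
    intro s hs
    have key : ∀ q : QuaternionGroup (2 ^ (n + 2)), ((e.symm q : (S : Subgroup G)) : G) ∈ N := by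
      intro q
      have hai : ∀ i : ZMod (2 * 2 ^ (n + 2)),
          ((e.symm (QuaternionGroup.a i) : (S : Subgroup G)) : G) ∈ N := by
        intro i
        rw [← ZMod.natCast_zmod_val i, ← QuaternionGroup.a_one_pow, map_pow, Subgroup.coe_pow]
        exact Subgroup.pow_mem _ haN _
      cases q with
      | a i => exact hai i
      | xa i =>
        rw [show QuaternionGroup.xa i = QuaternionGroup.xa 0 * QuaternionGroup.a i by
          rw [QuaternionGroup.xa_mul_a, zero_add], map_mul, Subgroup.coe_mul]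
        exact Subgroup.mul_mem _ hbN (hai i)
    have := key (e ⟨s, hs⟩)
    rwa [e.symm_apply_apply] at this
  haveI hCnormal : (C.subgroupOf N).Normal := ⟨fun u hu x => by
    rw [Subgroup.mem_subgroupOf] at hu ⊢
    obtain ⟨j, hj⟩ := Subgroup.mem_zpowers_iff.1 (hmN.1 (N.inv_mem x.2))
    have hc : Commute (u : G) ((a * a) ^ j) := (show Commute (u : G) (a * a) from hmC.1 hu).zpow_right j
    rw [hmC, Subgroup.coe_mul, Subgroup.coe_mul, Subgroup.coe_inv]
    have e1 : (a * a) = (x : G) * (a * a) ^ j * (x : G)⁻¹ := by rw [hj]; group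
    calc (x : G) * u * (x : G)⁻¹ * (a * a)
        = x * u * (x : G)⁻¹ * ((x : G) * (a * a) ^ j * (x : G)⁻¹) := by rw [← e1]
      _ = x * ((u : G) * (a * a) ^ j) * (x : G)⁻¹ := by group
      _ = x * ((a * a) ^ j * u) * (x : G)⁻¹ := by rw [hc.eq]
      _ = (x : G) * (a * a) ^ j * (x : G)⁻¹ * (x * u * (x : G)⁻¹) := by group
      _ = _ := by rw [← e1]⟩
  have hQ2 : IsPGroup 2 (N ⧸ C.subgroupOf N) := by
    intro q
    obtain ⟨x, rfl⟩ := QuotientGroup.mk_surjective q
    refine ⟨n + 1, ?_⟩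
    rw [← QuotientGroup.mk_pow, QuotientGroup.eq_one_iff, Subgroup.mem_subgroupOf,
      Subgroup.coe_pow, hmC]
    obtain ⟨j, hj⟩ := (isOfFinOrder_of_finite (a * a)).mem_powers_iff_mem_zpowers.2 (hmN.1 x.2)
    simp only at hj
    have hpow : ∀ t : ℕ, (x : G) ^ t * (a * a) * ((x : G) ^ t)⁻¹ = (a * a) ^ j ^ t := by
      intro t
      induction t with
      | zero => simp
      | succ t ih =>
        rw [pow_succ' (x : G) t, show (x : G) * (x : G) ^ t * (a * a) * ((x : G) * (x : G) ^ t)⁻¹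
          = x * ((x : G) ^ t * (a * a) * ((x : G) ^ t)⁻¹) * (x : G)⁻¹ by group, ih, ← conj_pow,
          ← hj, ← pow_mul, ← pow_succ']
    have hjc : Nat.Coprime j (2 ^ (n + 2)) := by
      have h1 : orderOf ((a * a) ^ j) = 2 ^ (n + 2) := by rw [hj, orderOf_conj, haa]
      rw [orderOf_pow, haa] at h1
      have hpos : 0 < 2 ^ (n + 2) := Nat.two_pow_pos _
      rw [Nat.coprime_iff_gcd_eq_one, Nat.gcd_comm]
      exact (Nat.div_eq_self.1 h1).resolve_left hpos.ne'
    have h2 := hpow (2 ^ (n + 1))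
    have h3 : (a * a) ^ j ^ (2 ^ (n + 1)) = (a * a) ^ 1 := by
      rw [pow_eq_pow_iff_modEq, haa]
      have := Nat.ModEq.pow_totient hjc
      rwa [Nat.totient_prime_pow_succ Nat.prime_two, show (2 : ℕ) - 1 = 1 from rfl, mul_one] at this
    rw [h3, pow_one, mul_inv_eq_iff_eq_mul] at h2
    exact h2
  have hindex : (C.subgroupOf N).index = 2 := by
    obtain ⟨t, ht⟩ := hQ2.exists_card_eq
    have h1 := Subgroup.card_eq_card_quotient_mul_card_subgroup (C.subgroupOf N)
    rw [ht, Nat.card_congr (Subgroup.subgroupOfEquivOfLe hCN).toEquiv] at h1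
    have h2 : (Nat.card N).factorization 2 = n + 4 := by
      have h := (S.subtype hSN).card_eq_multiplicity
      rw [Sylow.coe_subtype, Nat.card_congr (Subgroup.subgroupOfEquivOfLe hSN).toEquiv, hcardS] at h
      exact (Nat.pow_right_injective le_rfl h).symm
    rw [h1, Nat.factorization_mul (Nat.two_pow_pos t).ne' Nat.card_pos.ne', Finsupp.add_apply,
      hfactC, Nat.Prime.factorization_pow Nat.prime_two, Finsupp.single_eq_same] at h2
    have htt : t = 1 := by omega
    rw [htt, pow_one] at ht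
    exact ht
  have hNC : ∀ x : G, x ∈ N → x ∉ C → b * x ∈ C := by
    intro x hx hxC
    have := (Subgroup.mul_mem_iff_of_index_two hindex (a := (⟨b, hbN⟩ : N)) (b := ⟨x, hx⟩)).2
      (by simp only [Subgroup.mem_subgroupOf]; exact iff_of_false hbC hxC)
    simpa [Subgroup.mem_subgroupOf] using this
  -- the class function and its induction
  set φ : C → ℂ := fun y => 1 - (lam y : ℂ) with hφ
  have hLirr : Cfsg.IsIrrCharacter C (fun y => (lam y : ℂ)) := CfsgLib.Char.isIrrCharacter_linear lam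
  have hφcl : Cfsg.IsClassFunction C φ := fun y c => by
    simp only [hφ, CfsgLib.Char.IsIrrCharacter.isClassFunction hLirr y c]
  have hφgen : Cfsg.IsGeneralizedCharacter C φ :=
    CfsgLib.Char.IsGeneralizedCharacter.sub (CfsgLib.Char.IsGeneralizedCharacter.one (G := C))
      (CfsgLib.Char.IsIrrCharacter.isGeneralizedCharacter hLirr)
  set f := Cfsg.indFun C φ with hf
  have hφ1 : ∀ y : C, lam y = 1 → φ y = 0 := fun y hy => by simp [hφ, hy]
  -- support
  have hsupp : ∀ y : C, lam y ≠ 1 → f y = 2 - (lam y : ℂ) - conj (lam y : ℂ) := by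
    intro y hy
    have hterm : ∀ x : G, Cfsg.extendByZero C φ (x⁻¹ * y * x) =
        (if x ∈ C then φ y else 0) + (if b * x ∈ C then φ (β y) else 0) := by
      intro x
      by_cases hx : x ∈ C
      · have hbx : b * x ∉ C := fun h => hbC (by
          have := C.mul_mem h (C.inv_mem hx); rwa [mul_inv_cancel_right] at this)
        rw [if_pos hx, if_neg hbx, add_zero,
          CfsgLib.Char.extendByZero_apply_mem C φ (C.mul_mem (C.mul_mem (C.inv_mem hx) y.2) hx)]
        rw [← hφcl y (⟨x, hx⟩ : C)⁻¹]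
        exact congrArg φ (Subtype.ext (by simp))
      rw [if_neg hx, zero_add]
      by_cases hbx : b * x ∈ C
      · rw [if_pos hbx]
        have hm : x⁻¹ * y * x = (((⟨b * x, hbx⟩ : C)⁻¹ * β y * ⟨b * x, hbx⟩ : C) : G) := by
          show x⁻¹ * y * x = (b * x)⁻¹ * (b * y * b⁻¹) * (b * x)
          group
        rw [hm, CfsgLib.Char.extendByZero_coe]
        simpa using hφcl (β y) (⟨b * x, hbx⟩ : C)⁻¹
      rw [if_neg hbx]
      by_cases hmem : x⁻¹ * y * x ∈ C
      · rw [CfsgLib.Char.extendByZero_apply_mem C φ hmem]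
        apply hφ1
        by_contra hne
        have h1 := hlam_gen ⟨_, hmem⟩ hne
        have h2 := hlam_gen y hy
        obtain ⟨i, hi⟩ := Subgroup.mem_zpowers_iff.1 h1
        obtain ⟨j, hj⟩ := Subgroup.mem_zpowers_iff.1 h2
        have hi' : (x⁻¹ * y * x) ^ i = a * a := congrArg Subtype.val hi
        have hj' : (y : G) ^ j = a * a := congrArg Subtype.val hj
        have hxN : x ∈ N := by
          rw [hmN]
          refine mem_zpowers_of_orderOf_eq (y := (y : G)) ⟨j, hj'⟩ ⟨i, ?_⟩ (orderOf_conj x _)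
          show (y : G) ^ i = x * (a * a) * x⁻¹
          rw [← hi', ← conj_zpow]
          group
        exact hbx (hNC x hxN hx)
      · rw [CfsgLib.Char.extendByZero_of_notMem C φ hmem]
    have hcC : (Finset.univ.filter fun x : G => x ∈ C).card = Nat.card C := by
      rw [Nat.card_eq_fintype_card, Fintype.card_subtype]
    have hcC' : (Finset.univ.filter fun x : G => b * x ∈ C).card = Nat.card C := by
      rw [← hcC]
      refine Finset.card_equiv (Equiv.mulLeft b) fun x => ?_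
      simp
    rw [hf, CfsgLib.Char.indFun_apply, Finset.sum_congr rfl (fun x _ => hterm x),
      Finset.sum_add_distrib, ← Finset.sum_filter, ← Finset.sum_filter, Finset.sum_const,
      Finset.sum_const, hcC, hcC', nsmul_eq_mul, nsmul_eq_mul, ← mul_add,
      inv_mul_cancel_left₀ (Nat.cast_ne_zero.2 Nat.card_pos.ne')]
    simp only [hφ]
    rw [← CfsgLib.Char.IsIrrCharacter.apply_inv hLirr y, hlamβ, map_inv]
    ring
  -- values away from elements of order divisible by four
  have hvanish : ∀ g : G, ¬ 4 ∣ orderOf g → f g = 0 := by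
    intro g hg
    rw [hf, CfsgLib.Char.indFun_apply, Finset.sum_eq_zero (fun x _ => ?_), mul_zero]
    by_cases hmem : x⁻¹ * g * x ∈ C
    · rw [CfsgLib.Char.extendByZero_apply_mem C φ hmem]
      apply hφ1
      by_contra hne
      have h1 := hlam_gen ⟨_, hmem⟩ hne
      have h2 : orderOf (g₀ * g₀) ∣ orderOf (⟨_, hmem⟩ : C) := orderOf_dvd_of_mem_zpowers h1
      rw [← Subgroup.orderOf_coe, ← Subgroup.orderOf_coe] at h2
      have h3 : orderOf (a * a) ∣ orderOf (x⁻¹ * g * x) := h2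
      rw [haa, show x⁻¹ * g * x = x⁻¹ * g * x⁻¹⁻¹ by rw [inv_inv], orderOf_conj] at h3
      exact hg ((Nat.pow_dvd_pow 2 (Nat.le_add_left 2 n)).trans h3)
    · rw [CfsgLib.Char.extendByZero_of_notMem C φ hmem]
  have hfgen : Cfsg.IsGeneralizedCharacter G f :=
    CfsgLib.Char.IsGeneralizedCharacter.indFun C hφgen
  have hfcl := CfsgLib.Char.IsGeneralizedCharacter.isClassFunction hfgen
  -- inner products
  have hlamg : (lam g₀ : ℂ) * (lam g₀ : ℂ) = -1 := hlam_sq
  have hne1 : (fun y : C => (lam y : ℂ)) ≠ fun _ => (1 : ℂ) := fun h => by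
    have : (lam g₀ : ℂ) = 1 := congrFun h g₀
    rw [this] at hlamg
    norm_num at hlamg
  have hL1 : Cfsg.classInner (fun y : C => (lam y : ℂ)) (fun _ => (1 : ℂ)) = 0 :=
    CfsgLib.Char.classInner_irr_of_ne hLirr CfsgLib.Char.isIrrCharacter_principal hne1
  have h1L : Cfsg.classInner (fun _ : C => (1 : ℂ)) (fun y : C => (lam y : ℂ)) = 0 :=
    CfsgLib.Char.classInner_irr_of_ne CfsgLib.Char.isIrrCharacter_principal hLirr (Ne.symm hne1)
  have h11 : Cfsg.classInner (fun _ : C => (1 : ℂ)) (fun _ => (1 : ℂ)) = 1 :=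
    CfsgLib.Char.classInner_irr_self CfsgLib.Char.isIrrCharacter_principal
  have hLL : Cfsg.classInner (fun y : C => (lam y : ℂ)) (fun y => (lam y : ℂ)) = 1 :=
    CfsgLib.Char.classInner_irr_self hLirr
  have hL'irr : Cfsg.IsIrrCharacter C (fun y => ((lam⁻¹ : C →* ℂˣ) y : ℂ)) :=
    CfsgLib.Char.isIrrCharacter_linear lam⁻¹
  have hconj : ∀ y : C, conj (lam y : ℂ) = ((lam⁻¹ : C →* ℂˣ) y : ℂ) := fun y => by
    rw [← CfsgLib.Char.IsIrrCharacter.apply_inv hLirr y, map_inv]
    rfl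
  have hLL' : Cfsg.classInner (fun y : C => (lam y : ℂ))
      (fun y => ((lam⁻¹ : C →* ℂˣ) y : ℂ)) = 0 := by
    refine CfsgLib.Char.classInner_irr_of_ne hLirr hL'irr fun h => ?_
    have h' := congrFun h g₀
    simp only [MonoidHom.inv_apply, Units.val_inv_eq_inv_val] at h'
    have h'' : (lam g₀ : ℂ) * (lam g₀ : ℂ) = 1 := by
      nth_rw 1 [h']
      exact inv_mul_cancel₀ (Units.ne_zero _)
    rw [h''] at hlamg
    norm_num at hlamg
  have h1L' : Cfsg.classInner (fun _ : C => (1 : ℂ))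
      (fun y => ((lam⁻¹ : C →* ℂˣ) y : ℂ)) = 0 := by
    refine CfsgLib.Char.classInner_irr_of_ne CfsgLib.Char.isIrrCharacter_principal hL'irr fun h => ?_
    have h' := congrFun h g₀
    simp only [MonoidHom.inv_apply, Units.val_inv_eq_inv_val] at h'
    rw [eq_comm, inv_eq_one] at h'
    rw [h'] at hlamg
    norm_num at hlamg
  have hφ1' : Cfsg.classInner φ (fun _ : C => (1 : ℂ)) = 1 := by
    rw [show φ = (fun _ : C => (1 : ℂ)) - (fun y => (lam y : ℂ)) from rfl,
      CfsgLib.Char.classInner_sub_left, h11, hL1, sub_zero]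
  have hφφ : Cfsg.classInner φ φ = 2 := by
    rw [show φ = (fun _ : C => (1 : ℂ)) - (fun y => (lam y : ℂ)) from rfl,
      CfsgLib.Char.classInner_sub_left, CfsgLib.Char.classInner_sub_right,
      CfsgLib.Char.classInner_sub_right, h11, hLL, h1L, hL1]
    norm_num
  have hφφ' : Cfsg.classInner φ (fun y => conj (φ y)) = 1 := by
    rw [show (fun y => conj (φ y)) = (fun _ : C => (1 : ℂ)) -
        (fun y => ((lam⁻¹ : C →* ℂˣ) y : ℂ)) by
      funext y
      simp only [hφ, Pi.sub_apply, map_sub, map_one, hconj],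
      show φ = (fun _ : C => (1 : ℂ)) - (fun y => (lam y : ℂ)) from rfl,
      CfsgLib.Char.classInner_sub_left, CfsgLib.Char.classInner_sub_right,
      CfsgLib.Char.classInner_sub_right, h11, hLL', h1L', hL1]
    norm_num
  have hf3 : Cfsg.classInner f f = 3 := by
    rw [show Cfsg.classInner f f = Cfsg.classInner φ (fun h : C => f h) from
      CfsgLib.Char.classInner_indFun C φ f hfcl,
      show Cfsg.classInner φ (fun h : C => f h) =
        Cfsg.classInner φ (φ + fun y => conj (φ y)) from ?_,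
      CfsgLib.Char.classInner_add_right, hφφ, hφφ']
    · norm_num
    · unfold Cfsg.classInner
      congr 1
      refine Finset.sum_congr rfl fun y _ => ?_
      by_cases hy : lam y = 1
      · rw [hφ1 y hy, zero_mul, zero_mul]
      · congr 2
        show f y = _
        rw [hsupp y hy, Pi.add_apply]
        simp only [hφ, map_sub, map_one]
        ring
  have hf1 : Cfsg.classInner f ((CfsgLib.Char.principalIrr : Cfsg.IrrCharacter G) : G → ℂ) = 1 := by
    rw [show Cfsg.classInner f _ = Cfsg.classInner φ (fun h : C =>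
        ((CfsgLib.Char.principalIrr : Cfsg.IrrCharacter G) : G → ℂ) h) from
      CfsgLib.Char.classInner_indFun C φ _
        (CfsgLib.Char.IsIrrCharacter.isClassFunction CfsgLib.Char.principalIrr.2)]
    exact hφ1'
  obtain ⟨χ₁, χ₂, s₁, s₂, -, hp1, hp2, hs1, hs2, hdec⟩ := exists_two_of_norm_three hfgen hf3 hf1
  -- the signs
  obtain ⟨d₁, hd₁, hd₁'⟩ := CfsgLib.Char.IsIrrCharacter.exists_degree χ₁.2
  obtain ⟨d₂, hd₂, hd₂'⟩ := CfsgLib.Char.IsIrrCharacter.exists_degree χ₂.2
  have hdeg : (1 : ℤ) + s₁ * d₁ + s₂ * d₂ = 0 := by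
    have h := hdec 1
    rw [hvanish 1 (by rw [orderOf_one]; norm_num), hd₁', hd₂'] at h
    exact_mod_cast h.symm
  obtain ⟨χ, ψ, hχ, hψ, hdiff⟩ : ∃ χ ψ : Cfsg.IrrCharacter G, χ ≠ CfsgLib.Char.principalIrr ∧
      ψ ≠ CfsgLib.Char.principalIrr ∧
      ∀ g : G, ¬ 4 ∣ orderOf g → (χ : G → ℂ) g - (ψ : G → ℂ) g = 1 := by
    rcases mul_self_eq_one_iff.1 hs1 with rfl | rfl <;>
      rcases mul_self_eq_one_iff.1 hs2 with rfl | rfl
    · exfalso; omega
    · refine ⟨χ₂, χ₁, hp2, hp1, fun g hg => ?_⟩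
      have h := hdec g
      rw [hvanish g hg] at h
      push_cast at h
      linear_combination h
    · refine ⟨χ₁, χ₂, hp1, hp2, fun g hg => ?_⟩
      have h := hdec g
      rw [hvanish g hg] at h
      push_cast at h
      linear_combination h
    · exfalso; omega
  have hdeg1 : (χ : G → ℂ) 1 = (ψ : G → ℂ) 1 + 1 := by
    linear_combination hdiff 1 (by rw [orderOf_one]; norm_num)
  refine ⟨χ, ψ, hχ, hψ, hdeg1, hdiff, fun z hz => ?_⟩
  -- the class sum of the involutions
  obtain ⟨-, huniq⟩ := QuatSylow.exists_unique_of_quaternion S e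
  set I := Finset.univ.filter fun g : G => orderOf g = 2 with hI
  have hmI : ∀ g : G, g ∈ I ↔ orderOf g = 2 := fun g => by simp [hI]
  have hval : ∀ θ : Cfsg.IrrCharacter G,
      ∑ p ∈ I, (θ : G → ℂ) p = (I.card : ℂ) * (θ : G → ℂ) z := by
    intro θ
    rw [← nsmul_eq_mul, ← Finset.sum_const]
    exact Finset.sum_congr rfl fun p hp =>
      CfsgLib.Char.IsClassFunction.eq_of_isConj (CfsgLib.Char.IsIrrCharacter.isClassFunction θ.2)
        (QuatSylow.isConj_involutions S huniq hz ((hmI p).1 hp)) |>.symm ▸ rfl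
  have hpq : ∑ p ∈ I, ∑ q ∈ I, (χ : G → ℂ) (p * q) - ∑ p ∈ I, ∑ q ∈ I, (ψ : G → ℂ) (p * q) =
      (I.card : ℂ) * I.card := by
    rw [← Finset.sum_sub_distrib, ← nsmul_eq_mul, ← Finset.sum_const]
    refine Finset.sum_congr rfl fun p hp => ?_
    rw [← Finset.sum_sub_distrib, Finset.sum_congr rfl (g := fun _ => (1 : ℂ)) (fun q hq => ?_),
      Finset.sum_const, nsmul_eq_mul, mul_one]
    refine hdiff _ fun h4 => ?_
    have hodd := QuatSylow.odd_orderOf_mul S huniq ((hmI p).1 hp) ((hmI q).1 hq)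
    exact Nat.not_even_iff_odd.2 hodd (even_iff_two_dvd.2 ((show 2 ∣ 4 by norm_num).trans h4))
  have hA := apply_one_mul_sum_sum χ I hmI
  have hB := apply_one_mul_sum_sum ψ I hmI
  rw [hval] at hA hB
  set A := ∑ p ∈ I, ∑ q ∈ I, (χ : G → ℂ) (p * q)
  set B := ∑ p ∈ I, ∑ q ∈ I, (ψ : G → ℂ) (p * q)
  have hz4 : ¬ 4 ∣ orderOf z := by rw [hz]; norm_num
  have hbz : (χ : G → ℂ) z = (ψ : G → ℂ) z + 1 := by linear_combination hdiff z hz4
  rw [hbz, hdeg1] at hA
  have hn : (I.card : ℂ) ≠ 0 :=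
    Nat.cast_ne_zero.2 (Finset.card_ne_zero.2 ⟨z, (hmI z).2 hz⟩)
  have hsq : ((I.card : ℂ) * ((ψ : G → ℂ) 1 - (ψ : G → ℂ) z)) ^ 2 = 0 := by
    linear_combination (ψ : G → ℂ) 1 * hA - ((ψ : G → ℂ) 1 + 1) * hB -
      (ψ : G → ℂ) 1 * ((ψ : G → ℂ) 1 + 1) * hpq
  have he : (ψ : G → ℂ) z = (ψ : G → ℂ) 1 :=
    (sub_eq_zero.1 ((mul_eq_zero.1 (sq_eq_zero_iff.1 hsq)).resolve_left hn)).symm
  exact ⟨by rw [hbz, hdeg1, he], he⟩

end CfsgLib.Invol.BSLarge
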