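import Cfsg.Agent.Lib.Invol.BlockColumns
import Cfsg.Agent.Lib.Char.Brauer
import Cfsg.Agent.Lib.Invol.Dihedral
import Cfsg.Agent.Lib.Char.Exceptional
import Cfsg.Agent.Lib.Char.Twist
import Mathlib.GroupTheory.Nilpotent

/-!
# The principal 2-block and a central involution
-/

set_option autoImplicit false

open scoped ComplexConjugate

namespace CfsgLib.Invol.CentralTwo

universe u

section Power

/-- In a finite nilpotent group a power map killing the 2-part and fixing the odd part is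
multiplicative. -/
theorem mul_pow_of_nilpotent {P : Type u} [Group P] [Finite P] [Group.IsNilpotent P] {k : ℕ}
    (h2 : 2 ^ (Nat.card P).factorization 2 ∣ k)
    (hodd : ∀ (p : ℕ), p.Prime → p ≠ 2 → k ≡ 1 [MOD p ^ (Nat.card P).factorization p]) (x y : P) :
    (x * y) ^ k = x ^ k * y ^ k := by
  obtain ⟨e⟩ := ((Group.isNilpotent_of_finite_tfae (G := P)).out 0 4 rfl rfl).1 ‹_›
  apply e.symm.injective
  rw [map_pow, map_mul, map_mul, map_pow, map_pow]
  funext p Q
  simp only [Pi.pow_apply, Pi.mul_apply]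
  haveI hp : Fact (Nat.Prime (p : ℕ)) := ⟨Nat.prime_of_mem_primeFactors p.2⟩
  have hQ : Nat.card (Q : Subgroup P) = (p : ℕ) ^ (Nat.card P).factorization (p : ℕ) :=
    Q.card_eq_multiplicity
  have hpow : ∀ w : (Q : Subgroup P), w ^ k = if (p : ℕ) = 2 then 1 else w := by
    intro w
    have hw : orderOf w ∣ (p : ℕ) ^ (Nat.card P).factorization (p : ℕ) := hQ ▸ orderOf_dvd_natCard w
    split_ifs with h
    · exact orderOf_dvd_iff_pow_eq_one.1 (hw.trans (by rw [h]; exact h2))
    · calc w ^ k = w ^ 1 := pow_eq_pow_iff_modEq.2 (Nat.ModEq.of_dvd hw (hodd _ hp.out h))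
        _ = w := pow_one w
  rw [hpow, hpow, hpow]
  split_ifs <;> simp

/-- An exponent killing the 2-part and fixing the odd part. -/
theorem exists_exponent (n : ℕ) (hn : n ≠ 0) :
    ∃ k : ℕ, 2 ^ n.factorization 2 ∣ k ∧ k ≡ 1 [MOD n / 2 ^ n.factorization 2] := by
  have hcop : Nat.Coprime (2 ^ n.factorization 2) (n / 2 ^ n.factorization 2) :=
    (Nat.coprime_ordCompl Nat.prime_two hn).pow_left _
  obtain ⟨k, h0, h1⟩ := Nat.chineseRemainder hcop 0 1
  exact ⟨k, Nat.modEq_zero_iff_dvd.1 h0, h1⟩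

end Power

variable {C : Type u} [Group C] [Finite C]

/-- Multiplication of the argument by a central element of order two sends generalised characters
to generalised characters. -/
theorem isGeneralizedCharacter_translate {z : C} (hz : z ∈ Subgroup.center C) (hz2 : z * z = 1)
    {θ : C → ℂ} (hθ : Cfsg.IsGeneralizedCharacter C θ) :
    Cfsg.IsGeneralizedCharacter C (fun c => θ (z * c)) := by
  classical
  cases nonempty_fintype C
  choose a ha using fun χ : Cfsg.IrrCharacter C => CfsgLib.CharExc.exists_int_classInner hθ χ.2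
  have hexp := CfsgLib.Char.IsClassFunction.eq_sum_classInner
    (CfsgLib.Char.IsGeneralizedCharacter.isClassFunction hθ)
  have hsign : ∀ χ : Cfsg.IrrCharacter C, ∃ e : ℤ, ∀ c : C,
      (χ : C → ℂ) (z * c) = (e : ℂ) * (χ : C → ℂ) c := by
    intro χ
    obtain ⟨n, ρ, hρ, he⟩ := χ.2
    obtain ⟨l, hl⟩ := CfsgLib.Char.exists_scalar_of_commute ρ (ρ z) (fun g => by
      rw [← map_mul, ← map_mul, Subgroup.mem_center_iff.1 hz g])
    have key : ∀ c : C, (χ : C → ℂ) (z * c) = l * (χ : C → ℂ) c := by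
      intro c
      rw [← he, Representation.character, Representation.character, map_mul, hl, smul_mul_assoc,
        one_mul, map_smul, smul_eq_mul]
    have hl2 : l * l = 1 := by
      have h1 := key 1
      rw [mul_one] at h1
      have h2 := key z
      rw [hz2, h1, ← mul_assoc] at h2
      exact mul_right_cancel₀ (CfsgLib.Char.IsIrrCharacter.apply_one_ne_zero χ.2)
        (h2.symm.trans (one_mul _).symm)
    rcases mul_self_eq_one_iff.1 hl2 with h | h
    · exact ⟨1, fun c => by rw [key, h, Int.cast_one]⟩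
    · exact ⟨-1, fun c => by rw [key, h]; simp⟩
  choose e he using hsign
  have heq : (fun c => θ (z * c)) = ∑ χ : Cfsg.IrrCharacter C, ((a χ * e χ : ℤ) : ℂ) • (χ : C → ℂ) := by
    funext c
    have h := congrFun hexp (z * c)
    simp only [Finset.sum_apply, Pi.smul_apply, smul_eq_mul, ha, he] at h ⊢
    rw [h]
    refine Finset.sum_congr rfl fun χ _ => ?_
    push_cast
    ring
  rw [heq]
  exact CfsgLib.Char.IsGeneralizedCharacter.sum _ _ fun χ _ =>
    CfsgLib.Char.IsGeneralizedCharacter.intCast_smul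
      (CfsgLib.Char.IsIrrCharacter.isGeneralizedCharacter χ.2) _

variable {z : C} (hz : z ∈ Subgroup.center C) (hz2 : orderOf z = 2)

include hz in
theorem zpowers_normal : (Subgroup.zpowers z).Normal :=
  ⟨fun a ha g => by
    rw [Subgroup.mem_center_iff.1 (Subgroup.zpowers_le.2 hz ha) g, mul_inv_cancel_right]
    exact ha⟩

include hz2 in
theorem mem_zpowers_cases {c : C} (hc : c ∈ Subgroup.zpowers z) : c = 1 ∨ c = z := by
  classical
  obtain ⟨i, hi, hie⟩ := Finset.mem_image.1 ((mem_zpowers_iff_mem_range_orderOf (x := z)).1 hc)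
  rw [Finset.mem_range, hz2] at hi
  interval_cases i
  · exact Or.inl (by simpa using hie.symm)
  · exact Or.inr (by simpa using hie.symm)

include hz hz2 in
/-- The lifting of the odd part of the quotient, with its properties. -/
theorem exists_lift [(Subgroup.zpowers z).Normal] :
    ∃ L : C ⧸ Subgroup.zpowers z → C,
      (∀ q, ¬ 2 ∣ orderOf (L q)) ∧
      (∀ q, ¬ 2 ∣ orderOf q → (QuotientGroup.mk (L q) : C ⧸ Subgroup.zpowers z) = q) ∧
      (∀ y : C, ¬ 2 ∣ orderOf y → L (QuotientGroup.mk y) = y) ∧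
      (∀ (c : C) q, L (QuotientGroup.mk c * q * (QuotientGroup.mk c)⁻¹) = c * L q * c⁻¹) ∧
      (∀ E : Subgroup (C ⧸ Subgroup.zpowers z), Group.IsNilpotent E →
        ∀ a b : E, L ((a : C ⧸ Subgroup.zpowers z) * b) = L a * L b) := by
  classical
  set Z := Subgroup.zpowers z with hZ
  set n := Nat.card C with hn
  obtain ⟨k, hk2, hk1⟩ := exists_exponent n Nat.card_pos.ne'
  have hdvd : 2 ∣ n := hz2 ▸ orderOf_dvd_natCard z
  have hkev : 2 ∣ k := (dvd_pow_self 2
    (Nat.Prime.factorization_pos_of_dvd Nat.prime_two Nat.card_pos.ne' hdvd).ne').trans hk2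
  have hzk : z ^ k = 1 := orderOf_dvd_iff_pow_eq_one.1 (hz2 ▸ hkev)
  have hwell : ∀ c d : C, (QuotientGroup.mk c : C ⧸ Z) = QuotientGroup.mk d → c ^ k = d ^ k := by
    intro c d h
    rcases mem_zpowers_cases hz2 (QuotientGroup.eq.1 h) with h1 | h1
    · rw [inv_mul_eq_one.1 h1]
    · have hd : d = c * z := by rw [← h1, mul_inv_cancel_left]
      rw [hd, Commute.mul_pow (Subgroup.mem_center_iff.1 hz c : c * z = z * c), hzk, mul_one]
  set m := n / 2 ^ n.factorization 2 with hm
  have hfix : ∀ {D : Type u} [Group D] (x : D), orderOf x ∣ n → ¬ 2 ∣ orderOf x → x ^ k = x := by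
    intro D _ x hx hodd
    have hco : Nat.Coprime (orderOf x) (2 ^ n.factorization 2) :=
      (Nat.coprime_two_right.2 (Nat.odd_iff.2 (Nat.two_dvd_ne_zero.1 hodd))).pow_right _
    have hxm : orderOf x ∣ m := hco.dvd_of_dvd_mul_left (by
      rwa [hm, Nat.ordProj_mul_ordCompl_eq_self])
    calc x ^ k = x ^ 1 := pow_eq_pow_iff_modEq.2 (Nat.ModEq.of_dvd hxm hk1)
      _ = x := pow_one x
  have hkill : ∀ c : C, ¬ 2 ∣ orderOf (c ^ k) := by
    intro c h
    have h1 : (c ^ k) ^ m = 1 := by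
      rw [← pow_mul]
      refine orderOf_dvd_iff_pow_eq_one.1 ((orderOf_dvd_natCard c).trans ?_)
      rw [← hn, ← Nat.ordProj_mul_ordCompl_eq_self n 2]
      exact Nat.mul_dvd_mul_right hk2 _
    exact Nat.not_dvd_ordCompl Nat.prime_two Nat.card_pos.ne'
      (h.trans (orderOf_dvd_of_pow_eq_one h1))
  refine ⟨fun q => q.out ^ k, fun q => hkill _, fun q hq => ?_, fun y hy => ?_, fun c q => ?_,
    fun E hE a b => ?_⟩
  · rw [QuotientGroup.mk_pow, QuotientGroup.out_eq']
    exact hfix q ((orderOf_dvd_natCard q).trans Z.card_quotient_dvd_card) hq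
  · show (QuotientGroup.mk y : C ⧸ Z).out ^ k = y
    rw [hwell _ y (QuotientGroup.out_eq' _)]
    exact hfix y (orderOf_dvd_natCard y) hy
  · show (QuotientGroup.mk c * q * (QuotientGroup.mk c)⁻¹ : C ⧸ Z).out ^ k = _
    rw [hwell _ (c * q.out * c⁻¹) (by
      rw [QuotientGroup.out_eq', QuotientGroup.mk_mul, QuotientGroup.mk_mul, QuotientGroup.mk_inv,
        QuotientGroup.out_eq']), conj_pow]
  · set E' := E.comap (QuotientGroup.mk' Z) with hE'
    haveI : Group.IsNilpotent E' := by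
      let f : E' →* E := (((QuotientGroup.mk' Z).comp E'.subtype).codRestrict E fun x => x.2)
      refine Subgroup.isNilpotent_of_ker_le_center f fun x hx => ?_
      have h1 : (x : C) ∈ Z := (QuotientGroup.eq_one_iff _).1 (congrArg Subtype.val (hx : f x = 1))
      rw [Subgroup.mem_center_iff]
      intro w
      exact Subtype.ext (Subgroup.mem_center_iff.1 (Subgroup.zpowers_le.2 hz h1) (w : C))
    have hout : ∀ e : E, (e : C ⧸ Z).out ∈ E' := fun e => by
      rw [hE', Subgroup.mem_comap, QuotientGroup.mk'_apply, QuotientGroup.out_eq']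
      exact e.2
    have hdiv : Nat.card E' ∣ n := Subgroup.card_subgroup_dvd_card E'
    have hmul := mul_pow_of_nilpotent (P := E') (k := k)
      ((Nat.pow_dvd_pow 2 ((Nat.factorization_le_iff_dvd Nat.card_pos.ne' Nat.card_pos.ne').2 hdiv 2)).trans hk2)
      (fun p hp hp2 => Nat.ModEq.of_dvd (by
        refine (Nat.Coprime.dvd_of_dvd_mul_left ?_ (?_ : p ^ (Nat.card E').factorization p ∣
          2 ^ n.factorization 2 * m))
        · exact Nat.Coprime.pow _ _ ((Nat.coprime_primes hp Nat.prime_two).2 hp2)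
        · rw [hm, Nat.ordProj_mul_ordCompl_eq_self]
          exact (Nat.ordProj_dvd _ _).trans hdiv) hk1)
      ⟨_, hout a⟩ ⟨_, hout b⟩
    have h' := congrArg Subtype.val hmul
    show (((a : C ⧸ Z) * b).out) ^ k = _
    rw [hwell _ ((a : C ⧸ Z).out * (b : C ⧸ Z).out) (by
      rw [QuotientGroup.out_eq', QuotientGroup.mk_mul, QuotientGroup.out_eq',
        QuotientGroup.out_eq'])]
    exact h'

section Main

variable [(Subgroup.zpowers z).Normal] {M : Ideal Cfsg.AlgInt}

include hz hz2 in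
/-- Sums over odd-order elements pass to the quotient. -/
theorem sum_regular [Fintype C] [Fintype (C ⧸ Subgroup.zpowers z)]
    (F : C ⧸ Subgroup.zpowers z → ℂ) :
    ∑ y ∈ Finset.univ.filter (fun y : C => ¬ 2 ∣ orderOf y), F (QuotientGroup.mk y) =
      ∑ q ∈ Finset.univ.filter (fun q : C ⧸ Subgroup.zpowers z => ¬ 2 ∣ orderOf q), F q := by
  obtain ⟨L, hL1, hL2, hL3, -, -⟩ := exists_lift hz hz2
  refine Finset.sum_nbij' (fun y => QuotientGroup.mk y) L ?_ ?_ ?_ ?_ (fun y _ => rfl)
  · intro y hy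
    exact Finset.mem_filter.2 ⟨Finset.mem_univ _, fun h =>
      (Finset.mem_filter.1 hy).2 (h.trans (orderOf_map_dvd (QuotientGroup.mk' _) y))⟩
  · intro q hq
    exact Finset.mem_filter.2 ⟨Finset.mem_univ _, hL1 q⟩
  · intro y hy
    exact hL3 y (Finset.mem_filter.1 hy).2
  · intro q hq
    exact hL2 q (Finset.mem_filter.1 hq).2

include hz hz2 in
/-- The principal block of the quotient inflates into the principal block. -/
theorem inflIrr_mem_iff (hM : Cfsg.IsPModular 2 M)
    (η : Cfsg.IrrCharacter (C ⧸ Subgroup.zpowers z)) :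
    CfsgLib.Blk83.inflIrr (Subgroup.zpowers z) η ∈ Cfsg.principalBlock M C ↔
      η ∈ Cfsg.principalBlock M (C ⧸ Subgroup.zpowers z) := by
  classical
  have : Fact (Nat.Prime 2) := ⟨Nat.prime_two⟩
  cases nonempty_fintype C
  haveI : Fintype (C ⧸ Subgroup.zpowers z) := Fintype.ofFinite _
  rw [CfsgLib.BlockPrincipal.mem_principal_iff hM, CfsgLib.BlockPrincipal.mem_principal_iff hM]
  simp only [CfsgLib.BlockPrincipal.regSum, CfsgLib.Blk83.inflIrr_apply, QuotientGroup.mk_one]
  rw [sum_regular hz hz2 (η : C ⧸ Subgroup.zpowers z → ℂ)]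

include hz hz2 in
/-- Column products at odd-order elements are doubled in the principal block. -/
theorem sum_mul_conj_regular (hM : Cfsg.IsPModular 2 M) (y y' : C) (hy : ¬ 2 ∣ orderOf y)
    (hy' : ¬ 2 ∣ orderOf y') :
    ∑ ψ ∈ BlockCol.pBlock M C, (ψ : C → ℂ) y * conj ((ψ : C → ℂ) y') =
      2 * ∑ η ∈ BlockCol.pBlock M (C ⧸ Subgroup.zpowers z),
        (η : C ⧸ Subgroup.zpowers z → ℂ) (QuotientGroup.mk y) *
          conj ((η : C ⧸ Subgroup.zpowers z → ℂ) (QuotientGroup.mk y')) := by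
  classical
  have : Fact (Nat.Prime 2) := ⟨Nat.prime_two⟩
  cases nonempty_fintype C
  have hc : Commute z y' := (Subgroup.mem_center_iff.1 hz y').symm
  have hsing : 2 ∣ orderOf (z * y') := by
    rw [hc.orderOf_mul_eq_mul_orderOf_of_coprime (by
      rw [hz2]; exact Nat.coprime_two_left.2 (Nat.odd_iff.2 (Nat.two_dvd_ne_zero.1 hy'))), hz2]
    exact Dvd.intro _ rfl
  have h0 := CfsgLib.BlockReg.block_orthogonality hM
    CfsgLib.Blocks.isPBlock_principalBlock (G := C) y (z * y') hy hsing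
  rw [BlockCol.finsum_principal] at h0
  have hsign : ∀ ψ : Cfsg.IrrCharacter C, ∀ c : C,
      if (ψ : C → ℂ) z = (ψ : C → ℂ) 1 then (ψ : C → ℂ) (z * c) = (ψ : C → ℂ) c
      else (ψ : C → ℂ) (z * c) = -(ψ : C → ℂ) c := by
    intro ψ c
    obtain ⟨n, ρ, hρ, he⟩ := ψ.2
    obtain ⟨l, hl⟩ := CfsgLib.Char.exists_scalar_of_commute ρ (ρ z) (fun g => by
      rw [← map_mul, ← map_mul, Subgroup.mem_center_iff.1 hz g])
    have key : ∀ c : C, (ψ : C → ℂ) (z * c) = l * (ψ : C → ℂ) c := by
      intro c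
      rw [← he, Representation.character, Representation.character, map_mul, hl, smul_mul_assoc,
        one_mul, map_smul, smul_eq_mul]
    have h1 := key 1
    rw [mul_one] at h1
    have hne := CfsgLib.Char.IsIrrCharacter.apply_one_ne_zero ψ.2
    have h2 := key z
    rw [mul_self_eq_one hz2, h1, ← mul_assoc] at h2
    have hll : l * l = 1 := mul_right_cancel₀ hne (h2.symm.trans (one_mul _).symm)
    split_ifs with h
    · have : l = 1 := mul_right_cancel₀ hne ((h1.symm.trans h).trans (one_mul _).symm)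
      rw [key, this, one_mul]
    · rcases mul_self_eq_one_iff.1 hll with h3 | h3
      · exact absurd (by rw [h1, h3, one_mul]) h
      · rw [key, h3, neg_one_mul]
  rw [← Finset.sum_filter_add_sum_filter_not _ (fun ψ : Cfsg.IrrCharacter C =>
    (ψ : C → ℂ) z = (ψ : C → ℂ) 1)] at h0 ⊢
  have hplus : ∑ ψ ∈ (BlockCol.pBlock M C).filter (fun ψ : Cfsg.IrrCharacter C =>
        (ψ : C → ℂ) z = (ψ : C → ℂ) 1), (ψ : C → ℂ) y * conj ((ψ : C → ℂ) y') =
      ∑ η ∈ BlockCol.pBlock M (C ⧸ Subgroup.zpowers z),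
        (η : C ⧸ Subgroup.zpowers z → ℂ) (QuotientGroup.mk y) *
          conj ((η : C ⧸ Subgroup.zpowers z → ℂ) (QuotientGroup.mk y')) := by
    symm
    refine Finset.sum_bij (fun η _ => CfsgLib.Blk83.inflIrr (Subgroup.zpowers z) η) ?_ ?_ ?_ ?_
    · intro η hη
      rw [Finset.mem_filter, BlockCol.mem_pBlock, inflIrr_mem_iff hz hz2 hM]
      refine ⟨BlockCol.mem_pBlock.1 hη, ?_⟩
      simp [(QuotientGroup.eq_one_iff z).2 (Subgroup.mem_zpowers z)]
    · exact fun η _ η' _ h => CfsgLib.Blk83.inflIrr_injective _ h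
    · intro ψ hψ
      rw [Finset.mem_filter] at hψ
      obtain ⟨η, hη, he⟩ := CfsgLib.CharTwist.exists_irr_quotient ψ.2 (Subgroup.zpowers z)
        (fun w hw => by rcases mem_zpowers_cases hz2 hw with rfl | rfl; exacts [rfl, hψ.2])
      have heq : CfsgLib.Blk83.inflIrr (Subgroup.zpowers z) ⟨η, hη⟩ = ψ := Subtype.ext he.symm
      refine ⟨⟨η, hη⟩, ?_, heq⟩
      rw [BlockCol.mem_pBlock, ← inflIrr_mem_iff hz hz2 hM, heq]
      exact BlockCol.mem_pBlock.1 hψ.1
    · intro η _
      simp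
  have hA : ∀ ψ ∈ (BlockCol.pBlock M C).filter (fun ψ : Cfsg.IrrCharacter C =>
      (ψ : C → ℂ) z = (ψ : C → ℂ) 1),
      (ψ : C → ℂ) y * conj ((ψ : C → ℂ) (z * y')) = (ψ : C → ℂ) y * conj ((ψ : C → ℂ) y') := by
    intro ψ hψ
    have h := hsign ψ y'
    rw [if_pos (Finset.mem_filter.1 hψ).2] at h
    rw [h]
  have hN : ∀ ψ ∈ (BlockCol.pBlock M C).filter (fun ψ : Cfsg.IrrCharacter C =>
      ¬ (ψ : C → ℂ) z = (ψ : C → ℂ) 1),
      (ψ : C → ℂ) y * conj ((ψ : C → ℂ) (z * y')) = -((ψ : C → ℂ) y * conj ((ψ : C → ℂ) y')) := by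
    intro ψ hψ
    have h := hsign ψ y'
    rw [if_neg (Finset.mem_filter.1 hψ).2] at h
    rw [h, map_neg, mul_neg]
  rw [Finset.sum_congr rfl hA, Finset.sum_congr rfl hN, Finset.sum_neg_distrib] at h0
  linear_combination 2 * hplus - h0

include hz hz2 in
/-- Integrality: translated generalised characters supported on the principal block are integral
combinations of the principal block of the quotient at odd-order elements. -/
theorem exists_int_combination (hM : Cfsg.IsPModular 2 M) {θ : C → ℂ}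
    (hθ : Cfsg.IsGeneralizedCharacter C θ) (a : Cfsg.IrrCharacter C → ℂ)
    (ha : ∀ y : C, ¬ 2 ∣ orderOf y →
      θ (z * y) = ∑ ψ ∈ BlockCol.pBlock M C, a ψ * (ψ : C → ℂ) y) :
    ∃ c : Cfsg.IrrCharacter (C ⧸ Subgroup.zpowers z) → ℤ, ∀ y : C, ¬ 2 ∣ orderOf y →
      θ (z * y) = ∑ η ∈ BlockCol.pBlock M (C ⧸ Subgroup.zpowers z),
        (c η : ℂ) * (η : C ⧸ Subgroup.zpowers z → ℂ) (QuotientGroup.mk y) := by
  classical
  have : Fact (Nat.Prime 2) := ⟨Nat.prime_two⟩
  haveI := hM.2.1
  cases nonempty_fintype C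
  haveI : Fintype (C ⧸ Subgroup.zpowers z) := Fintype.ofFinite _
  obtain ⟨L, hL1, hL2, hL3, hL4, hL5⟩ := exists_lift hz hz2
  have hθ' := isGeneralizedCharacter_translate hz (mul_self_eq_one hz2) hθ
  set F : C ⧸ Subgroup.zpowers z → ℂ := fun q => θ (z * L q) with hF
  have hFcl : Cfsg.IsClassFunction (C ⧸ Subgroup.zpowers z) F := by
    intro q d
    obtain ⟨c, rfl⟩ := QuotientGroup.mk_surjective d
    show θ (z * L _) = θ (z * L q)
    rw [hL4]
    exact CfsgLib.Char.IsGeneralizedCharacter.isClassFunction hθ' (L q) c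
  have hFgen : Cfsg.IsGeneralizedCharacter (C ⧸ Subgroup.zpowers z) F := by
    refine CfsgLib.Char.isGeneralizedCharacter_of_elementary F hFcl fun E p hp hE => ?_
    have hnil := CfsgLib.Char.isNilpotent_of_isElementary hp hE
    exact CfsgLib.Char.IsGeneralizedCharacter.comp hθ'
      (MonoidHom.mk' (fun e : E => L e) (fun a b => hL5 E hnil a b))
  choose c hc using fun η : Cfsg.IrrCharacter (C ⧸ Subgroup.zpowers z) =>
    CfsgLib.CharExc.exists_int_classInner hFgen η.2
  refine ⟨c, fun y hy => ?_⟩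
  set f : C ⧸ Subgroup.zpowers z → ℂ := fun q => if 2 ∣ orderOf q then 0 else F q with hf
  have hfcl : Cfsg.IsClassFunction (C ⧸ Subgroup.zpowers z) f := fun q d => by
    simp only [hf, orderOf_conj, hFcl q d]
  have horth : ∀ η : Cfsg.IrrCharacter (C ⧸ Subgroup.zpowers z),
      η ∉ BlockCol.pBlock M (C ⧸ Subgroup.zpowers z) →
        Cfsg.classInner f (η : C ⧸ Subgroup.zpowers z → ℂ) = 0 := by
    intro η hη
    have hne : CfsgLib.Blk83.inflIrr (Subgroup.zpowers z) η ∉ Cfsg.principalBlock M C := by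
      rw [inflIrr_mem_iff hz hz2 hM]
      exact fun h => hη (BlockCol.mem_pBlock.2 h)
    have hψ0 : ∀ ψ ∈ BlockCol.pBlock M C,
        ∑ w ∈ Finset.univ.filter (fun w : C => ¬ 2 ∣ orderOf w),
          (ψ : C → ℂ) w * conj ((η : C ⧸ Subgroup.zpowers z → ℂ) (QuotientGroup.mk w)) = 0 := by
      intro ψ hψ
      have h := CfsgLib.BlockRank.regClosed_of_isPBlock hM CfsgLib.Blocks.isPBlock_principalBlock ψ
        (BlockCol.mem_pBlock.1 hψ) _ hne
      rw [Cfsg.classInner, mul_eq_zero] at h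
      have h := h.resolve_left (inv_ne_zero (Nat.cast_ne_zero.2 Nat.card_pos.ne'))
      rw [Finset.sum_filter]
      refine (Finset.sum_congr rfl fun w _ => ?_).trans h
      rw [CfsgLib.BlockRank.pRegularPart_apply]
      by_cases hw : 2 ∣ orderOf w
      · simp [Cfsg.IsPRegular, hw]
      · simp [Cfsg.IsPRegular, hw]
    rw [Cfsg.classInner]
    have hsum : ∑ q, f q * conj ((η : C ⧸ Subgroup.zpowers z → ℂ) q) =
        ∑ q ∈ Finset.univ.filter (fun q : C ⧸ Subgroup.zpowers z => ¬ 2 ∣ orderOf q),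
          F q * conj ((η : C ⧸ Subgroup.zpowers z → ℂ) q) := by
      rw [Finset.sum_filter]
      refine Finset.sum_congr rfl fun q _ => ?_
      by_cases hq : 2 ∣ orderOf q <;> simp [hf, hq]
    rw [hsum, ← sum_regular hz hz2
      (fun q => F q * conj ((η : C ⧸ Subgroup.zpowers z → ℂ) q)),
      Finset.sum_congr rfl (g := fun w => ∑ ψ ∈ BlockCol.pBlock M C, a ψ *
        ((ψ : C → ℂ) w * conj ((η : C ⧸ Subgroup.zpowers z → ℂ) (QuotientGroup.mk w))))
        (fun w hw => ?_), Finset.sum_comm,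
      Finset.sum_eq_zero (fun ψ hψ => by rw [← Finset.mul_sum, hψ0 ψ hψ, mul_zero]), mul_zero]
    have hw' := (Finset.mem_filter.1 hw).2
    simp only [hF]
    rw [hL3 w hw', ha w hw', Finset.sum_mul]
    exact Finset.sum_congr rfl fun ψ _ => mul_assoc _ _ _
  have hfexp := CfsgLib.Char.IsClassFunction.eq_sum_classInner hfcl
  have hFexp := CfsgLib.Char.IsClassFunction.eq_sum_classInner hFcl
  have hq : ¬ 2 ∣ orderOf (QuotientGroup.mk y : C ⧸ Subgroup.zpowers z) := fun h =>
    hy (h.trans (orderOf_map_dvd (QuotientGroup.mk' _) y))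
  have hb : ∀ q, f q = ∑ᶠ η ∈ Cfsg.principalBlock M (C ⧸ Subgroup.zpowers z),
      Cfsg.classInner f (η : C ⧸ Subgroup.zpowers z → ℂ) * (η : C ⧸ Subgroup.zpowers z → ℂ) q := by
    intro q
    rw [BlockCol.finsum_principal]
    conv_lhs => rw [hfexp]
    rw [Finset.sum_apply]
    refine (Finset.sum_subset (Finset.subset_univ _) fun η _ hη => ?_).symm
    rw [Pi.smul_apply, horth η hη, zero_smul]
  have hproj := CfsgLib.BlockReg.proj_regular (p := 2) hM
    CfsgLib.Blocks.isPBlock_principalBlock (G := C ⧸ Subgroup.zpowers z)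
    (fun η => Cfsg.classInner f (η : C ⧸ Subgroup.zpowers z → ℂ)) (fun η => (c η : ℂ))
    (fun q hq' => by
      rw [← hb q, finsum_eq_sum_of_fintype, show f q = F q from if_neg hq']
      conv_lhs => rw [hFexp]
      simp [Finset.sum_apply, hc]) _ hq
  rw [← hb, BlockCol.finsum_principal, show f _ = F _ from if_neg hq] at hproj
  rw [← hproj, hF]
  simp only [hL3 y hy]

end Main

end CfsgLib.Invol.CentralTwo
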