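import Mathlib.Data.Fintype.BigOperators
import Mathlib.Algebra.BigOperators.Fin
import Mathlib.Algebra.BigOperators.Ring.Finset
import Mathlib.Algebra.Order.BigOperators.Group.Finset
import Mathlib.Data.Fin.VecNotation
import Mathlib.Algebra.Order.Ring.Int
import Mathlib.Tactic.NormNum
import Mathlib.Data.Rat.Defs
import Mathlib.Algebra.Field.Rat
import Mathlib.Tactic.Linarith
import Mathlib.Tactic.LinearCombination
import Mathlib.Tactic.Ring
import Mathlib.Tactic.FieldSimp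
import Mathlib.Tactic.IntervalCases
import Mathlib.Tactic.FinCases

/-!
# The arithmetic of the principal block for quaternion Sylow 2-subgroups of order eight
-/

set_option autoImplicit false

namespace CfsgLib.Invol.Q8Count

variable {ι : Type*} [Fintype ι]

/-- The relations between the degrees `a`, the values `b` at the involution, the values `e` at
elements of order four and the coordinates `x₀, x₁, x₂` of the column at the involution. -/
structure Rel (p : ι) (a b e x₀ x₁ x₂ : ι → ℤ) (d₁ d₂ : ℤ) : Prop where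
  pos : ∀ i, 0 < a i
  value : ∀ i, b i = x₀ i + x₁ i * d₁ + x₂ i * d₂
  value_ne : ∀ i, b i ≠ 0
  odd₁ : ¬ 2 ∣ d₁
  odd₂ : ¬ 2 ∣ d₂
  parity : ∀ i, 2 ∣ b i - e i
  p_a : a p = 1
  p_e : e p = 1
  p_x₀ : x₀ p = 1
  p_x₁ : x₁ p = 0
  p_x₂ : x₂ p = 0
  g00 : ∑ i, x₀ i * x₀ i = 4
  g11 : ∑ i, x₁ i * x₁ i = 4
  g22 : ∑ i, x₂ i * x₂ i = 4
  g01 : ∑ i, x₀ i * x₁ i = 2
  g02 : ∑ i, x₀ i * x₂ i = 2
  g12 : ∑ i, x₁ i * x₂ i = 2
  ee : ∑ i, e i * e i = 4
  e0 : ∑ i, e i * x₀ i = 0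
  e1 : ∑ i, e i * x₁ i = 0
  e2 : ∑ i, e i * x₂ i = 0
  a0 : ∑ i, a i * x₀ i = 0
  a1 : ∑ i, a i * x₁ i = 0
  a2 : ∑ i, a i * x₂ i = 0
  ae : ∑ i, a i * e i = 0
  r0 : ∑ i, ((b i : ℚ) * b i / a i) * x₀ i = 0
  r1 : ∑ i, ((b i : ℚ) * b i / a i) * x₁ i = 0
  r2 : ∑ i, ((b i : ℚ) * b i / a i) * x₂ i = 0
  re : ∑ i, ((b i : ℚ) * b i / a i) * e i = 0

variable {p : ι} {a b e x₀ x₁ x₂ : ι → ℤ} {d₁ d₂ : ℤ}

/-- The quadratic bound on one row. -/
theorem row_bound (h : Rel p a b e x₀ x₁ x₂ d₁ d₂) (i : ι) :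
    4 * (x₀ i * x₀ i + x₁ i * x₁ i + x₂ i * x₂ i) -
      (x₀ i + x₁ i + x₂ i) * (x₀ i + x₁ i + x₂ i) + 2 * (e i * e i) < 8 := by
  classical
  set S := x₀ i + x₁ i + x₂ i with hS
  set U : ι → ℤ := fun j => (4 * x₀ i - S) * x₀ j + (4 * x₁ i - S) * x₁ j + (4 * x₂ i - S) * x₂ j
    + 2 * e i * e j with hU
  by_contra hge
  push Not at hge
  have hUi : U i = 4 * (x₀ i * x₀ i + x₁ i * x₁ i + x₂ i * x₂ i) - S * S + 2 * (e i * e i) := by
    simp only [hU, hS]; ring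
  have hU2 : ∑ j, U j * U j = 8 * U i := by
    have : ∀ j, U j * U j =
        (4 * x₀ i - S) * (4 * x₀ i - S) * (x₀ j * x₀ j) +
        (4 * x₁ i - S) * (4 * x₁ i - S) * (x₁ j * x₁ j) +
        (4 * x₂ i - S) * (4 * x₂ i - S) * (x₂ j * x₂ j) +
        2 * (4 * x₀ i - S) * (4 * x₁ i - S) * (x₀ j * x₁ j) +
        2 * (4 * x₀ i - S) * (4 * x₂ i - S) * (x₀ j * x₂ j) +
        2 * (4 * x₁ i - S) * (4 * x₂ i - S) * (x₁ j * x₂ j) +
        4 * (4 * x₀ i - S) * e i * (e j * x₀ j) +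
        4 * (4 * x₁ i - S) * e i * (e j * x₁ j) +
        4 * (4 * x₂ i - S) * e i * (e j * x₂ j) +
        4 * e i * e i * (e j * e j) := fun j => by simp only [hU]; ring
    simp only [this, Finset.sum_add_distrib, ← Finset.mul_sum, h.g00, h.g11, h.g22, h.g01, h.g02,
      h.g12, h.ee, h.e0, h.e1, h.e2, hUi, hS]
    ring
  have haU : ∑ j, a j * U j = 0 := by
    have : ∀ j, a j * U j = (4 * x₀ i - S) * (a j * x₀ j) + (4 * x₁ i - S) * (a j * x₁ j) +
        (4 * x₂ i - S) * (a j * x₂ j) + 2 * e i * (a j * e j) := fun j => by simp only [hU]; ring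
    simp only [this, Finset.sum_add_distrib, ← Finset.mul_sum, h.a0, h.a1, h.a2, h.ae]
    ring
  have h8 : 8 ≤ U i := by rw [hUi]; exact hge
  rw [← Finset.add_sum_erase _ _ (Finset.mem_univ i)] at hU2 haU
  have hrest : ∑ j ∈ Finset.univ.erase i, U j * U j ≤ 0 := by nlinarith
  have hzero : ∀ j ∈ Finset.univ.erase i, U j = 0 := by
    intro j hj
    have hle := Finset.single_le_sum (fun k _ => mul_self_nonneg (U k)) hj
    have h0 : U j * U j = 0 := le_antisymm (hle.trans hrest) (mul_self_nonneg _)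
    exact mul_self_eq_zero.1 h0
  rw [Finset.sum_eq_zero (fun j hj => by rw [hzero j hj, mul_zero]), add_zero] at haU
  rcases mul_eq_zero.1 haU with h' | h'
  · exact (h.pos i).ne' h'
  · omega

/-- The seven possible rows, up to sign. -/
def pattern : Fin 7 → ℤ × ℤ × ℤ :=
  ![(1, 0, 0), (0, 1, 0), (0, 0, 1), (1, 1, 1), (1, 1, 0), (1, 0, 1), (0, 1, 1)]

/-- Whether a row lies in the support of the column at elements of order four. -/
def supp : Fin 7 → ℤ := ![1, 1, 1, 1, 0, 0, 0]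

theorem classify_small : ∀ X Y Z : Fin 5, ∀ E : Fin 3,
    let x : ℤ := (X : ℕ) - 2
    let y : ℤ := (Y : ℕ) - 2
    let z : ℤ := (Z : ℕ) - 2
    let t : ℤ := (E : ℕ) - 1
    4 * (x * x + y * y + z * z) - (x + y + z) * (x + y + z) + 2 * (t * t) < 8 →
    (x + y + z - t) % 2 = 0 → (x, y, z) ≠ (0, 0, 0) →
    ∃ k : Fin 7, ((x, y, z) = pattern k ∨ (-x, -y, -z) = pattern k) ∧ t * t = supp k := by
  decide

theorem row_classify (h : Rel p a b e x₀ x₁ x₂ d₁ d₂) (i : ι) :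
    ∃ (k : Fin 7) (s : ℤ), s * s = 1 ∧ x₀ i = s * (pattern k).1 ∧ x₁ i = s * (pattern k).2.1 ∧
      x₂ i = s * (pattern k).2.2 ∧ e i * e i = supp k := by
  have hb := row_bound h i
  have hq : x₀ i * x₀ i + x₁ i * x₁ i + x₂ i * x₂ i + 2 * (e i * e i) < 8 := by
    nlinarith [mul_self_nonneg (x₀ i - x₁ i), mul_self_nonneg (x₀ i - x₂ i),
      mul_self_nonneg (x₁ i - x₂ i)]
  have hsmall : ∀ v : ℤ, v * v < 8 → -2 ≤ v ∧ v ≤ 2 := fun v hv => by
    constructor <;> nlinarith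
  have := mul_self_nonneg (x₀ i)
  have := mul_self_nonneg (x₁ i)
  have := mul_self_nonneg (x₂ i)
  have := mul_self_nonneg (e i)
  obtain ⟨hx0, hx0'⟩ := hsmall (x₀ i) (by linarith)
  obtain ⟨hx1, hx1'⟩ := hsmall (x₁ i) (by linarith)
  obtain ⟨hx2, hx2'⟩ := hsmall (x₂ i) (by linarith)
  have he : -1 ≤ e i ∧ e i ≤ 1 := by constructor <;> nlinarith
  have hpar : (x₀ i + x₁ i + x₂ i - e i) % 2 = 0 := by
    obtain ⟨u, hu⟩ : Odd d₁ := Int.not_even_iff_odd.1 fun hh => h.odd₁ (even_iff_two_dvd.1 hh)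
    obtain ⟨v, hv⟩ : Odd d₂ := Int.not_even_iff_odd.1 fun hh => h.odd₂ (even_iff_two_dvd.1 hh)
    obtain ⟨w, hw⟩ := h.parity i
    apply Int.emod_eq_zero_of_dvd
    refine ⟨w - x₁ i * u - x₂ i * v, ?_⟩
    have hval := h.value i
    rw [hu, hv] at hval
    linear_combination hw - hval
  have hne : (x₀ i, x₁ i, x₂ i) ≠ ((0 : ℤ), (0 : ℤ), (0 : ℤ)) := by
    intro h0
    simp only [Prod.mk.injEq] at h0
    exact h.value_ne i (by rw [h.value i, h0.1, h0.2.1, h0.2.2]; ring)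
  obtain ⟨X, hX⟩ : ∃ X : Fin 5, x₀ i = ((X : ℕ) : ℤ) - 2 := ⟨⟨(x₀ i + 2).toNat, by omega⟩, by simp; omega⟩
  obtain ⟨Y, hY⟩ : ∃ Y : Fin 5, x₁ i = ((Y : ℕ) : ℤ) - 2 := ⟨⟨(x₁ i + 2).toNat, by omega⟩, by simp; omega⟩
  obtain ⟨Z, hZ⟩ : ∃ Z : Fin 5, x₂ i = ((Z : ℕ) : ℤ) - 2 := ⟨⟨(x₂ i + 2).toNat, by omega⟩, by simp; omega⟩
  obtain ⟨E, hE⟩ : ∃ E : Fin 3, e i = ((E : ℕ) : ℤ) - 1 := ⟨⟨(e i + 1).toNat, by omega⟩, by simp; omega⟩
  rw [hX, hY, hZ, hE] at hb hpar
  rw [hX, hY, hZ] at hne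
  obtain ⟨k, hk, hk'⟩ := classify_small X Y Z E hb hpar hne
  rcases hk with hk | hk
  · exact ⟨k, 1, rfl, by rw [hX, ← hk, one_mul], by rw [hY, ← hk, one_mul],
      by rw [hZ, ← hk, one_mul], by rw [hE]; exact hk'⟩
  · exact ⟨k, -1, rfl, by rw [hX, ← hk]; ring, by rw [hY, ← hk]; ring,
      by rw [hZ, ← hk]; ring, by rw [hE]; exact hk'⟩

/-- **The count**: seven rows, and a non-principal row with the involution in its kernel. -/
theorem card_and_kernel (h : Rel p a b e x₀ x₁ x₂ d₁ d₂) :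
    Fintype.card ι = 7 ∧ ∃ i, i ≠ p ∧ b i = a i := by
  classical
  choose κ s hs hx0 hx1 hx2 he using row_classify h
  set n : Fin 7 → ℤ := fun k => ((Finset.univ.filter fun i => κ i = k).card : ℤ) with hn
  have hsum : ∀ F : Fin 7 → ℤ, ∑ i, F (κ i) = ∑ k, n k * F k := by
    intro F
    rw [← Finset.sum_fiberwise Finset.univ κ]
    refine Finset.sum_congr rfl fun k _ => ?_
    rw [Finset.sum_congr rfl (g := fun _ => F k) (fun i hi => by rw [(Finset.mem_filter.1 hi).2]),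
      Finset.sum_const, nsmul_eq_mul]
  have e00 := h.g00
  have e11 := h.g11
  have e22 := h.g22
  have e01 := h.g01
  have e02 := h.g02
  have e12 := h.g12
  have eee := h.ee
  rw [Finset.sum_congr rfl (g := fun i => (pattern (κ i)).1 * (pattern (κ i)).1)
      (fun i _ => by rw [hx0]; linear_combination (pattern (κ i)).1 * (pattern (κ i)).1 * hs i),
    hsum (fun k => (pattern k).1 * (pattern k).1)] at e00
  rw [Finset.sum_congr rfl (g := fun i => (pattern (κ i)).2.1 * (pattern (κ i)).2.1)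
      (fun i _ => by rw [hx1]; linear_combination (pattern (κ i)).2.1 * (pattern (κ i)).2.1 * hs i),
    hsum (fun k => (pattern k).2.1 * (pattern k).2.1)] at e11
  rw [Finset.sum_congr rfl (g := fun i => (pattern (κ i)).2.2 * (pattern (κ i)).2.2)
      (fun i _ => by rw [hx2]; linear_combination (pattern (κ i)).2.2 * (pattern (κ i)).2.2 * hs i),
    hsum (fun k => (pattern k).2.2 * (pattern k).2.2)] at e22
  rw [Finset.sum_congr rfl (g := fun i => (pattern (κ i)).1 * (pattern (κ i)).2.1)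
      (fun i _ => by rw [hx0, hx1]; linear_combination (pattern (κ i)).1 * (pattern (κ i)).2.1 * hs i),
    hsum (fun k => (pattern k).1 * (pattern k).2.1)] at e01
  rw [Finset.sum_congr rfl (g := fun i => (pattern (κ i)).1 * (pattern (κ i)).2.2)
      (fun i _ => by rw [hx0, hx2]; linear_combination (pattern (κ i)).1 * (pattern (κ i)).2.2 * hs i),
    hsum (fun k => (pattern k).1 * (pattern k).2.2)] at e02
  rw [Finset.sum_congr rfl (g := fun i => (pattern (κ i)).2.1 * (pattern (κ i)).2.2)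
      (fun i _ => by rw [hx1, hx2]; linear_combination (pattern (κ i)).2.1 * (pattern (κ i)).2.2 * hs i),
    hsum (fun k => (pattern k).2.1 * (pattern k).2.2)] at e12
  rw [Finset.sum_congr rfl (fun i _ => he i), hsum supp] at eee
  simp only [Fin.sum_univ_seven, pattern, supp, Matrix.cons_val, mul_one, mul_zero, add_zero,
    zero_add] at e00 e11 e22 e01 e02 e12 eee
  have hone : ∀ k, n k = 1 := by
    intro k
    fin_cases k <;> simp only [Fin.isValue, Fin.zero_eta, Fin.mk_one, Fin.reduceFinMk] <;> omega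
  have hbij : Function.Bijective κ := by
    have hc : ∀ k, (Finset.univ.filter fun i => κ i = k).card = 1 := fun k => by
      have := hone k; simp only [hn] at this; exact_mod_cast this
    refine ⟨fun i j hij => ?_, fun k => ?_⟩
    · obtain ⟨u, hu⟩ := Finset.card_eq_one.1 (hc (κ i))
      have hi : i ∈ Finset.univ.filter (fun l => κ l = κ i) := by simp
      have hj : j ∈ Finset.univ.filter (fun l => κ l = κ i) := by simp [hij]
      rw [hu, Finset.mem_singleton] at hi hj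
      rw [hi, hj]
    · obtain ⟨u, hu⟩ := Finset.card_eq_one.1 (hc k)
      exact ⟨u, (Finset.mem_filter.1 (hu ▸ Finset.mem_singleton_self u :
        u ∈ Finset.univ.filter fun i => κ i = k)).2⟩
  let E := Equiv.ofBijective κ hbij
  refine ⟨(Fintype.card_congr E).trans (Fintype.card_fin 7), ?_⟩
  set r : Fin 7 → ι := fun k => E.symm k with hr
  have hκr : ∀ k, κ (r k) = k := fun k => E.apply_symm_apply k
  have hp : κ p = 0 ∧ s p = 1 := by
    have u0 := hx0 p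
    have u1 := hx1 p
    have u2 := hx2 p
    rw [h.p_x₀] at u0
    rw [h.p_x₁] at u1
    rw [h.p_x₂] at u2
    rcases mul_self_eq_one_iff.1 (hs p) with hsp | hsp <;> rw [hsp] at u0 u1 u2 <;>
      rw [hsp] <;> revert u0 u1 u2 <;> generalize κ p = k <;> revert k <;> decide
  have hr0 : r 0 = p := hbij.1 (by rw [hκr, hp.1])
  -- signed values
  have hz : ∀ k, supp k = 0 → e (r k) = 0 := fun k hk =>
    mul_self_eq_zero.1 (by rw [he, hκr, hk])
  have hre : ∀ F : ι → ℚ, ∑ i, F i = ∑ k, F (r k) := fun F => (Equiv.sum_comp E.symm F).symm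
  set ω : Fin 7 → ℚ := fun k => (s (r k) : ℚ) * e (r k) with hω
  have hX : ∀ (G : ι → ℚ) (k : Fin 7),
      G (r k) * x₀ (r k) = (s (r k) : ℚ) * G (r k) * (pattern k).1 ∧
      G (r k) * x₁ (r k) = (s (r k) : ℚ) * G (r k) * (pattern k).2.1 ∧
      G (r k) * x₂ (r k) = (s (r k) : ℚ) * G (r k) * (pattern k).2.2 := by
    intro G k
    rw [hx0, hx1, hx2, hκr]
    push_cast
    exact ⟨by ring, by ring, by ring⟩
  have hcol : ∀ G : ι → ℚ, ∑ i, G i * x₀ i = 0 → ∑ i, G i * x₁ i = 0 → ∑ i, G i * x₂ i = 0 →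
      G p + s (r 3) * G (r 3) + s (r 4) * G (r 4) + s (r 5) * G (r 5) = 0 ∧
      s (r 1) * G (r 1) + s (r 3) * G (r 3) + s (r 4) * G (r 4) + s (r 6) * G (r 6) = 0 ∧
      s (r 2) * G (r 2) + s (r 3) * G (r 3) + s (r 5) * G (r 5) + s (r 6) * G (r 6) = 0 := by
    intro G g0 g1 g2
    rw [hre, Finset.sum_congr rfl (fun k _ => (hX G k).1)] at g0
    rw [hre, Finset.sum_congr rfl (fun k _ => (hX G k).2.1)] at g1
    rw [hre, Finset.sum_congr rfl (fun k _ => (hX G k).2.2)] at g2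
    simp only [Fin.sum_univ_seven, pattern, Matrix.cons_val] at g0 g1 g2
    rw [hr0, hp.2] at g0
    push_cast at g0 g1 g2
    exact ⟨by linear_combination g0, by linear_combination g1, by linear_combination g2⟩
  have he0 : ∀ k : Fin 7, supp k = 0 → (e (r k) : ℚ) = 0 := fun k hk => by rw [hz k hk]; simp
  obtain ⟨c0, c1, c2⟩ := hcol (fun i => (e i : ℚ)) (by exact_mod_cast h.e0)
    (by exact_mod_cast h.e1) (by exact_mod_cast h.e2)
  simp only [h.p_e, he0 4 rfl, he0 5 rfl, he0 6 rfl, mul_zero, add_zero, Int.cast_one] at c0 c1 c2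
  have hsR : ∀ k, (s (r k) : ℚ) * s (r k) = 1 := fun k => by exact_mod_cast hs (r k)
  have hE : ∀ G : ι → ℚ, ∑ i, G i * e i = 0 →
      G p + s (r 1) * G (r 1) + s (r 2) * G (r 2) - s (r 3) * G (r 3) = 0 := by
    intro G g
    rw [hre, Fin.sum_univ_seven, he0 4 rfl, he0 5 rfl, he0 6 rfl, hr0, h.p_e] at g
    push_cast at g
    linear_combination g - (G (r 1) * s (r 1)) * (c1 - c0) - (G (r 2) * s (r 2)) * (c2 - c0)
      - (G (r 3) * s (r 3)) * c0 + G (r 1) * (e (r 1) : ℚ) * (hsR 1)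
      + G (r 2) * (e (r 2) : ℚ) * (hsR 2) + G (r 3) * (e (r 3) : ℚ) * (hsR 3)
  -- the two vectors
  obtain ⟨A0, A1, A2⟩ := hcol (fun i => (a i : ℚ)) (by exact_mod_cast h.a0)
    (by exact_mod_cast h.a1) (by exact_mod_cast h.a2)
  have A3 := hE (fun i => (a i : ℚ)) (by exact_mod_cast h.ae)
  obtain ⟨R0, R1, R2⟩ := hcol (fun i => (b i : ℚ) * b i / a i) h.r0 h.r1 h.r2
  have R3 := hE (fun i => (b i : ℚ) * b i / a i) h.re
  have hAp : (a p : ℚ) = 1 := by rw [h.p_a, Int.cast_one]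
  have hbp : (b p : ℚ) = 1 := by rw [h.value p, h.p_x₀, h.p_x₁, h.p_x₂]; simp
  rw [hAp] at A0 A3
  rw [hAp, hbp, one_mul, div_one] at R0 R3
  set A := (s (r 1) : ℚ) * a (r 1) with hA
  have hA4 : (s (r 4) : ℚ) * a (r 4) = -(1 + A) := by
    linear_combination (1 / 2) * A0 + (1 / 2) * A1 - (1 / 2) * A2 + (1 / 2) * A3
  have hR4 : (s (r 4) : ℚ) * ((b (r 4) : ℚ) * b (r 4) / a (r 4)) =
      -(1 + (s (r 1) : ℚ) * ((b (r 1) : ℚ) * b (r 1) / a (r 1))) := by
    linear_combination (1 / 2) * R0 + (1 / 2) * R1 - (1 / 2) * R2 + (1 / 2) * R3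
  have ha1 : (a (r 1) : ℚ) ≠ 0 := by exact_mod_cast (h.pos (r 1)).ne'
  have ha4 : (a (r 4) : ℚ) ≠ 0 := by exact_mod_cast (h.pos (r 4)).ne'
  have hb1 : (b (r 1) : ℚ) = s (r 1) * d₁ := by
    rw [h.value, hx0, hx1, hx2, hκr]
    simp [pattern]
  have hb4 : (b (r 4) : ℚ) = s (r 4) * (1 + d₁) := by
    rw [h.value, hx0, hx1, hx2, hκr]
    simp [pattern]
    ring
  have hA0' : A ≠ 0 := mul_ne_zero (fun hz => by have := hsR 1; rw [hz, zero_mul] at this; exact zero_ne_one this) ha1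
  have hRA : ∀ k, (s (r k) : ℚ) * ((b (r k) : ℚ) * b (r k) / a (r k)) * ((s (r k) : ℚ) * a (r k)) =
      (b (r k) : ℚ) * b (r k) := fun k => by
    have hak : (a (r k) : ℚ) ≠ 0 := by exact_mod_cast (h.pos (r k)).ne'
    field_simp
    linear_combination (b (r k) : ℚ) ^ 2 * hsR k
  have k1 := hRA 1
  set R := (s (r 1) : ℚ) * ((b (r 1) : ℚ) * b (r 1) / a (r 1)) with hR
  clear_value R
  rw [← hA, hb1] at k1
  have k4 := hRA 4
  rw [hR4, hA4, hb4] at k4
  have hsq : (A - (d₁ : ℚ)) * (A - d₁) = 0 := by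
    linear_combination A * k4 - (1 + A) * k1 + A * (1 + (d₁ : ℚ)) ^ 2 * hsR 4
      - (1 + A) * (d₁ : ℚ) ^ 2 * hsR 1
  have hfin : A = (d₁ : ℚ) := sub_eq_zero.1 (mul_self_eq_zero.1 hsq)
  refine ⟨r 1, fun hh => ?_, ?_⟩
  · have := hκr 1
    rw [hh, hp.1] at this
    exact absurd this (by decide)
  · have hq : (b (r 1) : ℚ) = a (r 1) := by
      rw [hb1, ← hfin, hA, ← mul_assoc, hsR, one_mul]
    exact_mod_cast hq

end CfsgLib.Invol.Q8Count
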