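import Cfsg.Agent.Lib.Invol.QuaternionEightFacts
import Cfsg.Agent.Lib.Invol.QuaternionEightCount
import Cfsg.Agent.Lib.Invol.KleinPrincipal
import Cfsg.Agent.Lib.Invol.CentralTwoQuotient
import Cfsg.Agent.Lib.Invol.BrauerSuzukiLarge
import Cfsg.Agent.Lib.BlockReg.Integral

/-!
# The principal 2-block of a group with quaternion Sylow 2-subgroups of order eight
-/

set_option autoImplicit false

open scoped ComplexConjugate

namespace CfsgLib.Invol.Q8Blocks

universe u

variable {G : Type u} [Group G] [Finite G] {M : Ideal Cfsg.AlgInt}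

/-- The block idempotent trick for two involution classes: the class sum of the involutions. -/
theorem sum_sq_div_eq_zero [Fintype G] (hM : Cfsg.IsPModular 2 M) (S : Sylow 2 G)
    (huniq : ∀ u v : G, u ∈ S → v ∈ S → orderOf u = 2 → orderOf v = 2 → u = v)
    {z : G} (hz : orderOf z = 2) {h : G} (hh : 2 ∣ orderOf h) :
    ∑ χ ∈ BlockCol.pBlock M G,
      (χ : G → ℂ) z * (χ : G → ℂ) z / (χ : G → ℂ) 1 * conj ((χ : G → ℂ) h) = 0 := by
  classical
  have : Fact (Nat.Prime 2) := ⟨Nat.prime_two⟩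
  set I := Finset.univ.filter fun g : G => orderOf g = 2 with hI
  have hmI : ∀ g : G, g ∈ I ↔ orderOf g = 2 := fun g => by simp [hI]
  have hval : ∀ χ : Cfsg.IrrCharacter G,
      ∑ p ∈ I, (χ : G → ℂ) p = (I.card : ℂ) * (χ : G → ℂ) z := by
    intro χ
    rw [← nsmul_eq_mul, ← Finset.sum_const]
    exact Finset.sum_congr rfl fun p hp => CfsgLib.BlockReg.char_conj_invariant χ p z
      (QuatSylow.isConj_involutions S huniq ((hmI p).1 hp) hz)
  have hzero : ∀ p ∈ I, ∀ q ∈ I,
      ∑ χ ∈ BlockCol.pBlock M G, (χ : G → ℂ) (p * q) * conj ((χ : G → ℂ) h) = 0 := by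
    intro p hp q hq
    have hodd := QuatSylow.odd_orderOf_mul S huniq ((hmI p).1 hp) ((hmI q).1 hq)
    have h0 := CfsgLib.BlockReg.block_orthogonality hM CfsgLib.Blocks.isPBlock_principalBlock
      (p * q) h (fun hd => Nat.not_even_iff_odd.2 hodd (even_iff_two_dvd.2 hd)) hh
    rwa [BlockCol.finsum_principal] at h0
  have hn : (I.card : ℂ) ≠ 0 :=
    Nat.cast_ne_zero.2 (Finset.card_ne_zero.2 ⟨z, (hmI z).2 hz⟩)
  have key : ∀ χ : Cfsg.IrrCharacter G, ∑ p ∈ I, ∑ q ∈ I, (χ : G → ℂ) (p * q) =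
      (I.card : ℂ) * I.card * ((χ : G → ℂ) z * (χ : G → ℂ) z / (χ : G → ℂ) 1) := by
    intro χ
    have h1 := BSLarge.apply_one_mul_sum_sum χ I hmI
    rw [hval] at h1
    rw [mul_div_assoc', eq_div_iff (CfsgLib.Char.IsIrrCharacter.apply_one_ne_zero χ.2)]
    linear_combination h1
  have htot : ∑ χ ∈ BlockCol.pBlock M G,
      (∑ p ∈ I, ∑ q ∈ I, (χ : G → ℂ) (p * q)) * conj ((χ : G → ℂ) h) = 0 := by
    simp only [Finset.sum_mul]
    rw [Finset.sum_comm]
    refine Finset.sum_eq_zero fun p hp => ?_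
    rw [Finset.sum_comm]
    exact Finset.sum_eq_zero fun q hq => hzero p hp q hq
  simp only [key, mul_assoc, ← Finset.mul_sum] at htot
  rw [mul_eq_zero, mul_eq_zero] at htot
  rcases htot with h1 | h1 | h1
  · exact absurd h1 hn
  · exact absurd h1 hn
  · exact h1

/-- **The principal block for quaternion Sylow 2-subgroups of order eight.** -/
theorem principal_block (hM : Cfsg.IsPModular 2 M) (S : Sylow 2 G)
    (e : (S : Subgroup G) ≃* QuaternionGroup 2)
    (hnc : ∀ N : Subgroup G, N.Normal → ¬ Subgroup.IsComplement' N (S : Subgroup G))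
    {z : G} (hz : z ∈ S) (hz2 : orderOf z = 2) :
    (BlockCol.pBlock M G).card = 7 ∧
      ∃ χ ∈ BlockCol.pBlock M G, χ ≠ CfsgLib.Char.principalIrr ∧
        (χ : G → ℂ) z = (χ : G → ℂ) 1 := by
  classical
  have : Fact (Nat.Prime 2) := ⟨Nat.prime_two⟩
  haveI := hM.2.1
  cases nonempty_fintype G
  obtain ⟨hsq, hcz, -, hinvert, u, huS, hu4, huu⟩ := Q8Facts.sylow_facts S e hz hz2
  obtain ⟨-, huniq⟩ := QuatSylow.exists_unique_of_quaternion S e
  set C := Subgroup.centralizer ({z} : Set G) with hC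
  have hzC : z ∈ C := Subgroup.mem_centralizer_singleton_iff.2 rfl
  set zc : C := ⟨z, hzC⟩ with hzc
  have hzc2 : orderOf zc = 2 := by rw [Subgroup.orderOf_mk, hz2]
  have hzcc : zc ∈ Subgroup.center C := Subgroup.mem_center_iff.2 fun c =>
    Subtype.ext (Subgroup.mem_centralizer_singleton_iff.1 c.2)
  haveI := CentralTwo.zpowers_normal hzcc
  obtain ⟨P, hP, hone⟩ := Q8Facts.quotient_facts S e hz hz2 hnc zc rfl
  obtain ⟨ρ, s, hinj, hρ0, hmem, hs0, hs2, -, hdeg, horth, hindep⟩ :=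
    KleinBlock.exists_four P hP hone hM
  -- the functions `η`
  set η : Fin 4 → C → ℂ := fun j y =>
    (s j : ℂ) * (ρ j : C ⧸ Subgroup.zpowers zc → ℂ) (QuotientGroup.mk y) with hη
  obtain ⟨L, hL1, hL2, hL3, -, -⟩ := CentralTwo.exists_lift hzcc hzc2
  have hη3 : ∀ y : C, ¬ 2 ∣ orderOf y → η 0 y + η 1 y + η 2 y + η 3 y = 0 := by
    intro y hy
    have h := horth (QuotientGroup.mk y)
      (fun hd => hy (hd.trans (orderOf_map_dvd (QuotientGroup.mk' _) y)))
    rw [Fin.sum_univ_four] at h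
    exact h
  have hη0 : ∀ y : C, η 0 y = 1 := fun y => by
    simp [hη, hs0, hρ0, CfsgLib.Char.principalIrr_apply]
  have hind : ∀ c0 c1 c2 : ℂ,
      (∀ y : C, ¬ 2 ∣ orderOf y → c0 * η 0 y + c1 * η 1 y + c2 * η 2 y = 0) →
        c0 = 0 ∧ c1 = 0 ∧ c2 = 0 := by
    intro c0 c1 c2 h
    have h' := hindep ![c0 * s 0, c1 * s 1, c2 * s 2, 0] (fun q hq => by
      have h1 := h (L q) (hL1 q)
      simp only [hη, hL2 q hq] at h1
      rw [Fin.sum_univ_four]
      simp only [Matrix.cons_val]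
      linear_combination h1)
    have h3 := h' 3
    have h1 := h' 1
    have h2 := h' 2
    simp only [Matrix.cons_val, hs0, Int.cast_one, mul_one] at h1 h2 h3
    have hsne : ∀ j, (s j : ℂ) ≠ 0 := fun j h => by
      have hh := hs2 j
      rw [Int.cast_eq_zero] at h
      rw [h] at hh
      norm_num at hh
    have hc0 : c0 = 0 := (mul_eq_zero.1 h3.symm).resolve_right (hsne 3)
    rw [hc0, zero_mul] at h1 h2
    exact ⟨hc0, (mul_eq_zero.1 h1).resolve_right (hsne 1), (mul_eq_zero.1 h2).resolve_right (hsne 2)⟩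
  have hind' : ∀ c0 c1 c2 : ℂ,
      (∀ y : C, ¬ 2 ∣ orderOf y → c0 * conj (η 0 y) + c1 * conj (η 1 y) + c2 * conj (η 2 y) = 0) →
        c0 = 0 ∧ c1 = 0 ∧ c2 = 0 := by
    intro c0 c1 c2 h
    obtain ⟨a, b, c⟩ := hind (conj c0) (conj c1) (conj c2) (fun y hy => by
      have h1 := congrArg conj (h y hy)
      simp only [map_add, map_mul, Complex.conj_conj, map_zero] at h1
      exact h1)
    exact ⟨by simpa using a, by simpa using b, by simpa using c⟩
  -- the data
  let ι := {χ : Cfsg.IrrCharacter G // χ ∈ BlockCol.pBlock M G}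
  have hiota : ∀ F : Cfsg.IrrCharacter G → ℂ,
      ∑ χ ∈ BlockCol.pBlock M G, F χ = ∑ i : ι, F i.1 := fun F => by
    rw [Finset.univ_eq_attach, Finset.sum_attach]
  have hureal : IsConj u u⁻¹ := by
    obtain ⟨t, -, ht⟩ := hinvert u huS
    exact isConj_iff.2 ⟨t, ht⟩
  choose b hb hbpar using fun i : ι => Cfsg.Agent.S0944.result i.1 z hz2
  choose ev he hepar using fun i : ι => Q8Facts.exists_int_four i.1 (by rw [hu4]) hureal
  have hcol : ∀ i : ι, ∃ x0 x1 x2 : ℤ, ∀ y : C, ¬ 2 ∣ orderOf y →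
      ((i.1 : G → ℂ) (z * (y : G))) = x0 * η 0 y + x1 * η 1 y + x2 * η 2 y := by
    intro i
    cases nonempty_fintype C
    have hθ : Cfsg.IsGeneralizedCharacter C (fun c : C => (i.1 : G → ℂ) c) :=
      CfsgLib.Char.IsGeneralizedCharacter.restrict
        (CfsgLib.Char.IsIrrCharacter.isGeneralizedCharacter i.1.2) C
    obtain ⟨c, hc⟩ := CentralTwo.exists_int_combination hzcc hzc2 hM hθ
      (fun ψ => Cfsg.classInner (fun c : C => (i.1 : G → ℂ) (z * (c : G))) (ψ : C → ℂ))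
      (fun y hy => by
        have h := BlockCol.blockPart_translate hM ⟨1, by rw [pow_one, hz2]⟩ i.1 y hy
        rw [if_pos i.2] at h
        rw [show ((zc * y : C) : G) = z * (y : G) from rfl, ← h]
        unfold Cfsg.blockPart
        rw [BlockCol.finsum_principal]
        congr!)
    refine ⟨c (ρ 0) * s 0 - c (ρ 3) * s 3, c (ρ 1) * s 1 - c (ρ 3) * s 3,
      c (ρ 2) * s 2 - c (ρ 3) * s 3, fun y hy => ?_⟩
    have h := hc y hy
    have hB : BlockCol.pBlock M (C ⧸ Subgroup.zpowers zc) = Finset.univ.image ρ := by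
      ext χ
      simp only [Finset.mem_image, Finset.mem_univ, true_and]
      exact hmem χ
    rw [hB, Finset.sum_image (fun a _ b _ hab => hinj hab), Fin.sum_univ_four] at h
    rw [show (i.1 : G → ℂ) (z * (y : G)) = _ from h]
    have h4 := hη3 y hy
    simp only [hη] at h4 ⊢
    have hsC : ∀ j, (s j : ℂ) * (s j : ℂ) = 1 := fun j => by exact_mod_cast hs2 j
    push_cast
    linear_combination (c (ρ 3) : ℂ) * (s 3 : ℂ) * h4
      - (c (ρ 0) : ℂ) * (ρ 0 : C ⧸ Subgroup.zpowers zc → ℂ) (QuotientGroup.mk y) * hsC 0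
      - (c (ρ 1) : ℂ) * (ρ 1 : C ⧸ Subgroup.zpowers zc → ℂ) (QuotientGroup.mk y) * hsC 1
      - (c (ρ 2) : ℂ) * (ρ 2 : C ⧸ Subgroup.zpowers zc → ℂ) (QuotientGroup.mk y) * hsC 2
      - (c (ρ 3) : ℂ) * (ρ 3 : C ⧸ Subgroup.zpowers zc → ℂ) (QuotientGroup.mk y) * hsC 3
  choose x0 x1 x2 hx using hcol
  set p : ι := ⟨CfsgLib.Char.principalIrr,
    BlockCol.mem_pBlock.2 CfsgLib.Blocks.principalIrr_mem_principalBlock⟩ with hp
  -- the value at `z` and the degrees of `η`
  set D : Fin 4 → ℤ := fun j => s j * (Cfsg.charDegree (ρ j : C ⧸ Subgroup.zpowers zc → ℂ) : ℤ) with hD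
  have hη1 : ∀ j, η j 1 = (D j : ℂ) := fun j => by
    simp only [hη, hD, QuotientGroup.mk_one]
    push_cast
    rw [CfsgLib.BlockReg.deg_cast]
  have hD0 : D 0 = 1 := by
    have h := (hη1 0).symm.trans (hη0 1)
    exact_mod_cast h
  have h1reg : ¬ 2 ∣ orderOf (1 : C) := by rw [orderOf_one]; norm_num
  have hval : ∀ i, b i = x0 i + x1 i * D 1 + x2 i * D 2 := fun i => by
    have h := hx i 1 h1reg
    rw [OneMemClass.coe_one, mul_one, hb, hη0, hη1, hη1, mul_one] at h
    exact_mod_cast h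
  -- principal row
  have hpx : x0 p = 1 ∧ x1 p = 0 ∧ x2 p = 0 := by
    obtain ⟨a, b', c⟩ := hind ((x0 p : ℂ) - 1) (x1 p) (x2 p) (fun y hy => by
      have h := hx p y hy
      rw [hp, CfsgLib.Char.principalIrr_apply] at h
      rw [hη0] at h ⊢
      linear_combination -h)
    exact ⟨by exact_mod_cast sub_eq_zero.1 a, by exact_mod_cast b', by exact_mod_cast c⟩
  -- linear relations
  have hlin : ∀ f : ι → ℂ,
      (∀ y : C, ¬ 2 ∣ orderOf y → ∑ i, f i * conj ((i.1 : G → ℂ) (z * (y : G))) = 0) →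
      ∑ i, f i * (x0 i : ℂ) = 0 ∧ ∑ i, f i * (x1 i : ℂ) = 0 ∧ ∑ i, f i * (x2 i : ℂ) = 0 := by
    intro f hf
    refine hind' _ _ _ fun y hy => ?_
    rw [← hf y hy, Finset.sum_mul, Finset.sum_mul, Finset.sum_mul, ← Finset.sum_add_distrib,
      ← Finset.sum_add_distrib]
    refine Finset.sum_congr rfl fun i _ => ?_
    rw [hx i y hy]
    simp only [map_add, map_mul, map_intCast]
    ring
  -- the Gram matrix
  have hgram : ∀ y y' : C, ¬ 2 ∣ orderOf y → ¬ 2 ∣ orderOf y' →
      ∑ i : ι, (i.1 : G → ℂ) (z * (y : G)) * conj ((i.1 : G → ℂ) (z * (y' : G))) =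
        2 * (η 0 y * conj (η 0 y') + η 1 y * conj (η 1 y') + η 2 y * conj (η 2 y')
          + η 3 y * conj (η 3 y')) := by
    intro y y' hy hy'
    rw [← hiota fun χ => (χ : G → ℂ) (z * (y : G)) * conj ((χ : G → ℂ) (z * (y' : G))),
      BlockCol.sum_section hM ⟨1, by rw [pow_one, hz2]⟩ y y' hy hy',
      CentralTwo.sum_mul_conj_regular hzcc hzc2 hM y y' hy hy']
    have hB : BlockCol.pBlock M (C ⧸ Subgroup.zpowers zc) = Finset.univ.image ρ := by
      ext χ
      simp only [Finset.mem_image, Finset.mem_univ, true_and]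
      exact hmem χ
    rw [hB, Finset.sum_image (fun a _ b _ hab => hinj hab), Fin.sum_univ_four]
    have hsC : ∀ j, (s j : ℂ) * (s j : ℂ) = 1 := fun j => by exact_mod_cast hs2 j
    simp only [hη, map_mul, map_intCast]
    linear_combination
      -2 * ((ρ 0 : C ⧸ Subgroup.zpowers zc → ℂ) (QuotientGroup.mk y) *
        conj ((ρ 0 : C ⧸ Subgroup.zpowers zc → ℂ) (QuotientGroup.mk y'))) * hsC 0
      - 2 * ((ρ 1 : C ⧸ Subgroup.zpowers zc → ℂ) (QuotientGroup.mk y) *
        conj ((ρ 1 : C ⧸ Subgroup.zpowers zc → ℂ) (QuotientGroup.mk y'))) * hsC 1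
      - 2 * ((ρ 2 : C ⧸ Subgroup.zpowers zc → ℂ) (QuotientGroup.mk y) *
        conj ((ρ 2 : C ⧸ Subgroup.zpowers zc → ℂ) (QuotientGroup.mk y'))) * hsC 2
      - 2 * ((ρ 3 : C ⧸ Subgroup.zpowers zc → ℂ) (QuotientGroup.mk y) *
        conj ((ρ 3 : C ⧸ Subgroup.zpowers zc → ℂ) (QuotientGroup.mk y'))) * hsC 3
  have hT : ∀ y : C, ¬ 2 ∣ orderOf y →
      ∑ i : ι, (i.1 : G → ℂ) (z * (y : G)) * (x0 i : ℂ) = 4 * η 0 y + 2 * η 1 y + 2 * η 2 y ∧
      ∑ i : ι, (i.1 : G → ℂ) (z * (y : G)) * (x1 i : ℂ) = 2 * η 0 y + 4 * η 1 y + 2 * η 2 y ∧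
      ∑ i : ι, (i.1 : G → ℂ) (z * (y : G)) * (x2 i : ℂ) = 2 * η 0 y + 2 * η 1 y + 4 * η 2 y := by
    intro y hy
    obtain ⟨a, b', c⟩ := hind'
      (∑ i : ι, (i.1 : G → ℂ) (z * (y : G)) * (x0 i : ℂ) - (4 * η 0 y + 2 * η 1 y + 2 * η 2 y))
      (∑ i : ι, (i.1 : G → ℂ) (z * (y : G)) * (x1 i : ℂ) - (2 * η 0 y + 4 * η 1 y + 2 * η 2 y))
      (∑ i : ι, (i.1 : G → ℂ) (z * (y : G)) * (x2 i : ℂ) - (2 * η 0 y + 2 * η 1 y + 4 * η 2 y))
      (fun y' hy' => by
        have h := hgram y y' hy hy'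
        have h3 := hη3 y hy
        have h3' := congrArg conj (hη3 y' hy')
        simp only [map_add, map_zero] at h3'
        have hsum : ∑ i : ι, (i.1 : G → ℂ) (z * (y : G)) * conj ((i.1 : G → ℂ) (z * (y' : G))) =
            (∑ i : ι, (i.1 : G → ℂ) (z * (y : G)) * (x0 i : ℂ)) * conj (η 0 y') +
            (∑ i : ι, (i.1 : G → ℂ) (z * (y : G)) * (x1 i : ℂ)) * conj (η 1 y') +
            (∑ i : ι, (i.1 : G → ℂ) (z * (y : G)) * (x2 i : ℂ)) * conj (η 2 y') := by
          rw [Finset.sum_mul, Finset.sum_mul, Finset.sum_mul, ← Finset.sum_add_distrib,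
            ← Finset.sum_add_distrib]
          refine Finset.sum_congr rfl fun i _ => ?_
          rw [hx i y' hy']
          simp only [map_add, map_mul, map_intCast]
          ring
        rw [hsum] at h
        linear_combination h + 2 * (η 3 y) * h3'
          - 2 * (conj (η 0 y') + conj (η 1 y') + conj (η 2 y')) * h3)
    exact ⟨sub_eq_zero.1 a, sub_eq_zero.1 b', sub_eq_zero.1 c⟩
  have hG : ∀ (v : ι → ℤ) (t0 t1 t2 : ℤ),
      (∀ y : C, ¬ 2 ∣ orderOf y → ∑ i : ι, (i.1 : G → ℂ) (z * (y : G)) * (v i : ℂ) =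
        t0 * η 0 y + t1 * η 1 y + t2 * η 2 y) →
      ∑ i, x0 i * v i = t0 ∧ ∑ i, x1 i * v i = t1 ∧ ∑ i, x2 i * v i = t2 := by
    intro v t0 t1 t2 h
    obtain ⟨a, b', c⟩ := hind (((∑ i, x0 i * v i : ℤ) : ℂ) - t0) (((∑ i, x1 i * v i : ℤ) : ℂ) - t1)
      (((∑ i, x2 i * v i : ℤ) : ℂ) - t2) (fun y hy => by
      have h' := h y hy
      have hsum : ∑ i : ι, (i.1 : G → ℂ) (z * (y : G)) * (v i : ℂ) =
          ((∑ i, x0 i * v i : ℤ) : ℂ) * η 0 y + ((∑ i, x1 i * v i : ℤ) : ℂ) * η 1 y +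
          ((∑ i, x2 i * v i : ℤ) : ℂ) * η 2 y := by
        push_cast
        rw [Finset.sum_mul, Finset.sum_mul, Finset.sum_mul, ← Finset.sum_add_distrib,
          ← Finset.sum_add_distrib]
        refine Finset.sum_congr rfl fun i _ => ?_
        rw [hx i y hy]
        ring
      rw [hsum] at h'
      linear_combination h')
    exact ⟨by exact_mod_cast sub_eq_zero.1 a, by exact_mod_cast sub_eq_zero.1 b',
      by exact_mod_cast sub_eq_zero.1 c⟩
  obtain ⟨g00, g10, g20⟩ := hG x0 4 2 2 (fun y hy => by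
    rw [(hT y hy).1]; push_cast; ring)
  obtain ⟨g01, g11, g21⟩ := hG x1 2 4 2 (fun y hy => by
    rw [(hT y hy).2.1]; push_cast; ring)
  obtain ⟨g02, g12, g22⟩ := hG x2 2 2 4 (fun y hy => by
    rw [(hT y hy).2.2]; push_cast; ring)
  -- the other columns
  have hzpart : ∀ y : C, ¬ 2 ∣ orderOf y → Cfsg.IsPPart 2 (z * (y : G)) z := fun y hy =>
    CfsgLib.Blocks.isPPart_of_commute (k := 1)
      (Subgroup.mem_centralizer_singleton_iff.1 y.2).symm (by rw [pow_one, hz2])
      (by rwa [Subgroup.orderOf_coe])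
  have hzsing : ∀ y : C, ¬ 2 ∣ orderOf y → 2 ∣ orderOf (z * (y : G)) := fun y hy => by
    by_contra hd
    exact ne_one_of_invol hz2 ((CfsgLib.Blocks.not_dvd_orderOf_iff Nat.prime_two (hzpart y hy)).1 hd)
  obtain ⟨e0, e1, e2⟩ := hlin (fun i => (ev i : ℂ)) (fun y hy => by
    have hu' : Cfsg.IsPPart 2 u u := by
      simpa using CfsgLib.Blocks.isPPart_of_commute (p := 2) (k := 2) (x := u) (y := 1)
        (Commute.one_right u) (by rw [hu4]; rfl) (by rw [orderOf_one]; norm_num)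
    have h := CfsgLib.Blocks.block_orthogonality_section Nat.prime_two hM.2.2
      CfsgLib.Blocks.isPBlock_principalBlock hu' (hzpart y hy) (fun hc => by
        obtain ⟨c, hc⟩ := isConj_iff.1 hc
        have := congrArg orderOf hc
        rw [orderOf_conj, hu4, hz2] at this
        omega)
    rw [BlockCol.finsum_principal, hiota] at h
    rw [← h]
    refine Finset.sum_congr rfl fun i _ => ?_
    rw [← he, CfsgLib.Char.IsIrrCharacter.apply_inv i.1.2])
  set adeg : ι → ℤ := fun i => (Cfsg.charDegree (i.1 : G → ℂ) : ℤ) with hadeg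
  have ha : ∀ i, (i.1 : G → ℂ) 1 = (adeg i : ℂ) := fun i => by
    simp only [hadeg]
    push_cast
    rw [CfsgLib.BlockReg.deg_cast]
  obtain ⟨a0, a1, a2⟩ := hlin (fun i => (adeg i : ℂ)) (fun y hy => by
    have h := CfsgLib.BlockReg.block_orthogonality hM CfsgLib.Blocks.isPBlock_principalBlock 1
      (z * (y : G)) (by rw [orderOf_one]; norm_num) (hzsing y hy)
    rw [BlockCol.finsum_principal, hiota] at h
    simpa only [ha] using h)
  obtain ⟨r0, r1, r2⟩ := hlin (fun i => (b i : ℂ) * (b i : ℂ) / (adeg i : ℂ)) (fun y hy => by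
    have h := sum_sq_div_eq_zero hM S huniq hz2 (hzsing y hy)
    rw [hiota] at h
    simpa only [← hb, ← ha] using h)
  have hu2 : 2 ∣ orderOf u := by rw [hu4]; norm_num
  have hae : ∑ i : ι, (adeg i : ℂ) * (ev i : ℂ) = 0 := by
    have h := CfsgLib.BlockReg.block_orthogonality hM CfsgLib.Blocks.isPBlock_principalBlock 1 u
      (by rw [orderOf_one]; norm_num) hu2
    rw [BlockCol.finsum_principal, hiota] at h
    simpa only [ha, he, map_intCast] using h
  have hre : ∑ i : ι, (b i : ℂ) * (b i : ℂ) / (adeg i : ℂ) * (ev i : ℂ) = 0 := by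
    have h := sum_sq_div_eq_zero hM S huniq hz2 hu2
    rw [hiota] at h
    simpa only [← hb, ← ha, he, map_intCast] using h
  have hee : ∑ i : ι, (ev i : ℂ) * (ev i : ℂ) = 4 := by
    obtain ⟨N, hN, hodd, hidx⟩ := Q8Facts.exists_complement_four S e hz hz2 huS hu4
    have h := BlockCol.sum_sq_of_complement hM ⟨2, by rw [hu4]; rfl⟩ N hodd hidx
    rw [hiota, hidx] at h
    simp only [he, map_intCast] at h
    rw [h]; norm_num
  -- the value at the involution does not vanish
  have hbne : ∀ i, b i ≠ 0 := by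
    intro i h0
    have h := (BlockCol.mem_pBlock.1 i.2) z
    have h1 : Cfsg.centralChar (i.1 : G → ℂ) z = 0 := by
      rw [CfsgLib.BlockReg.centralChar_eq, hb, h0, Int.cast_zero, mul_zero, zero_div]
    have h2 : Cfsg.centralChar (fun _ : G => (1 : ℂ)) z = (CfsgLib.BlockReg.csize z : ℂ) := by
      rw [Cfsg.centralChar, mul_one, div_one]
      rfl
    rw [h1, h2, sub_zero] at h
    refine CfsgLib.BlockReg.not_memIdeal_natCast hM (fun hd => ?_) h
    exact S.not_dvd_index (hd.trans (Subgroup.index_dvd_of_le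
      (fun s hs => Subgroup.mem_centralizer_singleton_iff.2 (hcz s hs))))
  have hpa : adeg p = 1 := by
    have h := ha p
    rw [hp, CfsgLib.Char.principalIrr_apply] at h
    exact_mod_cast h.symm
  have hpe : ev p = 1 := by
    have h := he p
    rw [hp, CfsgLib.Char.principalIrr_apply] at h
    exact_mod_cast h.symm
  have hrel : Q8Count.Rel p adeg b ev x0 x1 x2 (D 1) (D 2) :=
    { pos := fun i => by simp only [hadeg]; exact_mod_cast CfsgLib.BlockReg.deg_pos i.1
      value := hval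
      value_ne := hbne
      odd₁ := fun hd => by
        simp only [hD] at hd
        rcases mul_self_eq_one_iff.1 (hs2 1) with h | h <;> rw [h] at hd <;>
          exact hdeg 1 (by omega)
      odd₂ := fun hd => by
        simp only [hD] at hd
        rcases mul_self_eq_one_iff.1 (hs2 2) with h | h <;> rw [h] at hd <;>
          exact hdeg 2 (by omega)
      parity := fun i => by
        have h1 := hbpar i
        have h2 := hepar i
        omega
      p_a := hpa
      p_e := hpe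
      p_x₀ := hpx.1
      p_x₁ := hpx.2.1
      p_x₂ := hpx.2.2
      g00 := g00
      g11 := g11
      g22 := g22
      g01 := g01
      g02 := g02
      g12 := g12
      ee := by exact_mod_cast hee
      e0 := by exact_mod_cast e0
      e1 := by exact_mod_cast e1
      e2 := by exact_mod_cast e2
      a0 := by exact_mod_cast a0
      a1 := by exact_mod_cast a1
      a2 := by exact_mod_cast a2
      ae := by exact_mod_cast hae
      r0 := (Rat.cast_injective (α := ℂ)) (by push_cast; exact r0)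
      r1 := (Rat.cast_injective (α := ℂ)) (by push_cast; exact r1)
      r2 := (Rat.cast_injective (α := ℂ)) (by push_cast; exact r2)
      re := (Rat.cast_injective (α := ℂ)) (by push_cast; exact hre) }
  obtain ⟨hcard, i, hip, hib⟩ := Q8Count.card_and_kernel hrel
  refine ⟨by simpa [ι] using hcard, i.1, i.2, fun h => hip (Subtype.ext h), ?_⟩
  rw [hb, ha, hib]

end CfsgLib.Invol.Q8Blocks
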