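import Cfsg.Agent.Lib.Invol.BrauerSuzuki
import Cfsg.Agent.Lib.Invol.QuaternionEightBlocks
import Cfsg.Agent.S0942

/-!
# The theorems of Brauer–Suzuki and Glauberman (Z*)
-/

set_option autoImplicit false

universe u

namespace CfsgLib.Invol

/-- With trivial core a normal 2-complement is trivial. -/
theorem not_isComplement_of_core_eq_bot {G : Type u} [Group G] [Finite G] (S : Sylow 2 G)
    (hO : Cfsg.pPrimeCore 2 G = ⊥) (hS : (S : Subgroup G) ≠ ⊤) (N : Subgroup G) (hN : N.Normal) :
    ¬ Subgroup.IsComplement' N (S : Subgroup G) := by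
  intro hc
  have : Fact (Nat.Prime 2) := ⟨Nat.prime_two⟩
  have hcop : (Nat.card N).Coprime 2 := by
    rw [← hc.index_eq_card]
    exact (Nat.prime_two.coprime_iff_not_dvd.2 S.not_dvd_index).symm
  have hbot : N = ⊥ := le_bot_iff.1 (hO ▸ CfsgLib.Solvable.le_pPrimeCore hN hcop)
  rw [hbot] at hc
  exact hS (Subgroup.isComplement'_bot_left.1 hc)

/-- The input for quaternion groups of order eight. -/
theorem quaternionEightKernelChar : QuaternionEightKernelChar.{u} := by
  intro G _ _ S he hO z hz hzc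
  obtain ⟨e⟩ := he
  have : Fact (Nat.Prime 2) := ⟨Nat.prime_two⟩
  obtain ⟨⟨z₀, hz₀S, hz₀⟩, huniq⟩ := QuatSylow.exists_unique_of_quaternion S e
  obtain ⟨-, hcz, -⟩ := Q8Facts.sylow_facts S e hz₀S hz₀
  obtain ⟨g, hg⟩ := isConj_iff.1 (QuatSylow.isConj_involutions S huniq hz₀ hz)
  obtain ⟨M, hM⟩ := CfsgLib.BlockReg.exists_isPModular Nat.prime_two
  have hS : (S : Subgroup G) ≠ ⊤ := fun h => hzc (by
    have hc : z₀ ∈ Subgroup.center G :=
      Subgroup.mem_center_iff.2 fun x => hcz x (h ▸ Subgroup.mem_top x : x ∈ (S : Subgroup G))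
    rwa [← hg, Subgroup.mem_center_iff.1 hc g, mul_inv_cancel_right])
  obtain ⟨-, χ, -, hχ, hχz⟩ :=
    Q8Blocks.principal_block hM S e (not_isComplement_of_core_eq_bot S hO hS) hz₀S hz₀
  exact ⟨χ, hχ, by rw [CfsgLib.BlockReg.char_conj_invariant χ z z₀
    (QuatSylow.isConj_involutions S huniq hz hz₀), hχz]⟩

/-- **The theorem of Brauer and Suzuki.** -/
theorem brauerSuzukiCenter : BrauerSuzukiCenter.{u} :=
  brauerSuzukiCenter_of quaternionEightKernelChar

/-- Principal block characters are constant on `x O(C(x))`. -/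
theorem principalBlockCoreConstant : PrincipalBlockCoreConstant.{u} := by
  intro G _ _ M hM x v hx hv χ hχ
  have : Fact (Nat.Prime 2) := ⟨Nat.prime_two⟩
  exact Cfsg.Agent.S0942.result 2 M hM x ⟨1, by rw [pow_one, hx]⟩ v hv χ hχ

/-- **Glauberman's Z*-theorem**: an isolated involution is central modulo the core. -/
theorem zStar {G : Type u} [Group G] [Finite G] {x : G} (hiso : Cfsg.IsIsolatedInvolution x)
    (g : G) : x * g * x⁻¹ * g⁻¹ ∈ Cfsg.pPrimeCore 2 G :=
  zStar_of principalBlockCoreConstant brauerSuzukiCenter G x hiso g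

/-- **Glauberman's Z*-theorem** in Sylow form. -/
theorem zStar_sylow {G : Type u} [Group G] [Finite G] (P : Sylow 2 G) (x : G) (hx : orderOf x = 2)
    (hiso : ∀ g : G, g * x * g⁻¹ ∈ P → g * x * g⁻¹ = x) :
    ∃ N : Subgroup G, N.Normal ∧ Odd (Nat.card N) ∧ ∀ g : G, x * g * x⁻¹ * g⁻¹ ∈ N :=
  zStar_sylow_of principalBlockCoreConstant brauerSuzukiCenter P x hx hiso

/-- Groups of 2-rank one have an involution central modulo the core. -/
theorem exists_central_mod_core {G : Type u} [Group G] [Finite G] (heven : Even (Nat.card G))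
    (hrank : ∀ E : Subgroup G, ¬ IsKleinFour E) :
    ∃ z : G, orderOf z = 2 ∧ ∃ N : Subgroup G, N.Normal ∧ Odd (Nat.card N) ∧
      ∀ g : G, z * g * z⁻¹ * g⁻¹ ∈ N :=
  exists_central_mod_core_of principalBlockCoreConstant brauerSuzukiCenter heven hrank

/-- A group without nontrivial normal subgroups of odd order has trivial core. -/
theorem pPrimeCore_two_eq_bot {G : Type u} [Group G] [Finite G]
    (hO : ∀ N : Subgroup G, N.Normal → Odd (Nat.card N) → N = ⊥) : Cfsg.pPrimeCore 2 G = ⊥ :=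
  hO _ (CfsgLib.Solvable.pPrimeCore_normal 2 G)
    (Nat.coprime_two_right.1 (CfsgLib.Solvable.pPrimeCore_card_coprime 2 G))

end CfsgLib.Invol
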