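import Cfsg.Agent.Lib.Invol.Counting
import Mathlib.GroupTheory.Subgroup.Simple
import Mathlib.GroupTheory.GroupAction.Quotient
import Mathlib.Data.Fintype.Perm
import Mathlib.GroupTheory.SpecificGroups.Alternating.Simple
import Mathlib.GroupTheory.Perm.ViaEmbedding
import Mathlib.GroupTheory.SchurZassenhaus

/-!
# Consequences of the Brauer-Fowler inequality
-/

set_option autoImplicit false

universe u

namespace CfsgLib.Invol

variable {G : Type*} [Group G]

theorem exists_involution_of_even [Finite G] (heven : Even (Nat.card G)) :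
    ∃ t : G, orderOf t = 2 :=
  haveI : Fact (Nat.Prime 2) := ⟨Nat.prime_two⟩
  exists_prime_orderOf_dvd_card' 2 (even_iff_two_dvd.1 heven)

/-- The action of a simple group on the cosets of a proper subgroup is faithful. -/
theorem toPermHom_injective [IsSimpleGroup G] {H : Subgroup G} (hH : H ≠ ⊤) :
    Function.Injective (MulAction.toPermHom G (G ⧸ H)) := by
  rw [← MonoidHom.ker_eq_bot_iff, ← Subgroup.normalCore_eq_ker]
  rcases (H.normalCore_normal).eq_bot_or_eq_top with h | h
  · exact h
  · exact absurd (top_le_iff.1 (h ▸ H.normalCore_le)) hH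

theorem card_dvd_factorial_index [Finite G] [IsSimpleGroup G] {H : Subgroup G} (hH : H ≠ ⊤) :
    Nat.card G ∣ Nat.factorial H.index := by
  have h := Subgroup.card_dvd_of_injective _ (toPermHom_injective hH)
  rwa [Nat.card_perm] at h

theorem center_eq_bot_of_two_lt_card [Finite G] [IsSimpleGroup G] (heven : Even (Nat.card G))
    (hgt : 2 < Nat.card G) : Subgroup.center G = ⊥ := by
  rcases (inferInstance : (Subgroup.center G).Normal).eq_bot_or_eq_top with h | h
  · exact h
  · obtain ⟨t, ht⟩ := exists_involution_of_even heven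
    have hN : (Subgroup.zpowers t).Normal := ⟨fun n hn g => by
      have hc : n ∈ Subgroup.center G := h ▸ Subgroup.mem_top n
      rw [Subgroup.mem_center_iff.1 hc g, mul_inv_cancel_right]
      exact hn⟩
    rcases hN.eq_bot_or_eq_top with h' | h'
    · rw [Subgroup.zpowers_eq_bot] at h'
      exact absurd h' (ne_one_of_invol ht)
    · have := Nat.card_zpowers t
      rw [h', Subgroup.card_top, ht] at this
      omega

theorem index_ne_two_of_two_lt_card [Finite G] [IsSimpleGroup G] (hgt : 2 < Nat.card G)
    (H : Subgroup G) : H.index ≠ 2 := by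
  intro h
  rcases (Subgroup.normal_of_index_eq_two h).eq_bot_or_eq_top with h' | h'
  · rw [h', Subgroup.index_bot] at h; omega
  · rw [h', Subgroup.index_top] at h; omega

/-- Brauer-Fowler: a proper subgroup of index less than `c * c`, `c` the order of an involution
centraliser. -/
theorem exists_subgroup_index_lt_sq [Finite G] (heven : Even (Nat.card G))
    (hZ : Odd (Nat.card (Subgroup.center G))) {t : G} (ht : orderOf t = 2) :
    ∃ H : Subgroup G, H ≠ ⊤ ∧
      (H.index = 2 ∨ H.index < Nat.card (Subgroup.centralizer ({t} : Set G)) ^ 2) := by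
  obtain ⟨H, hH, h | h⟩ := exists_subgroup_index_bound heven hZ
  · exact ⟨H, hH, Or.inl h⟩
  refine ⟨H, hH, Or.inr ?_⟩
  have h1 := card_le_involutions_mul_centralizer ht
  set n := Nat.card {t : G // orderOf t = 2}
  set c := Nat.card (Subgroup.centralizer ({t} : Set G))
  have hc : 0 < c := Nat.card_pos
  have h2 : Nat.card G * (Nat.card G + n) ≤ n * c * (n * c + n) :=
    Nat.mul_le_mul h1 (Nat.add_le_add_right h1 n)
  have h3 : n * c * (n * c + n) = n ^ 2 * (c * (c + 1)) := by ring
  have h4 : n ^ 2 * (2 * H.index) < n ^ 2 * (c * (c + 1)) := by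
    calc n ^ 2 * (2 * H.index) = 2 * H.index * n ^ 2 := by ring
      _ < Nat.card G * (Nat.card G + n) := h
      _ ≤ n * c * (n * c + n) := h2
      _ = _ := h3
  have h5 := Nat.lt_of_mul_lt_mul_left h4
  have h6 : c * (c + 1) ≤ 2 * c ^ 2 := by
    rw [pow_two, Nat.mul_add, mul_one, two_mul]
    exact Nat.add_le_add_left (Nat.le_mul_of_pos_left c hc) _
  omega

theorem exists_large_subgroup {G : Type u} [Group G] [Finite G] (heven : Even (Nat.card G))
    (hgt : 2 < Nat.card G) : ∃ H : Subgroup G, H ≠ ⊤ ∧ Nat.card G < Nat.card H ^ 3 := by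
  induction hm : Nat.card G using Nat.strong_induction_on generalizing G with
  | _ m ih =>
  subst hm
  by_cases hZ : Odd (Nat.card (Subgroup.center G))
  · obtain ⟨t, ht⟩ := exists_involution_of_even heven
    obtain ⟨H, hH, h | h⟩ := exists_subgroup_index_lt_sq heven hZ ht
    · refine ⟨H, hH, ?_⟩
      have h1 := Subgroup.card_mul_index H
      rw [h] at h1
      have h2 : 2 ≤ Nat.card H := by omega
      nlinarith [Nat.mul_le_mul h2 h2]
    · have hC : Subgroup.centralizer ({t} : Set G) ≠ ⊤ := by
        intro htop
        have hc : t ∈ Subgroup.center G := Subgroup.mem_center_iff.2 fun g =>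
          Subgroup.mem_centralizer_singleton_iff.1 (htop ▸ Subgroup.mem_top g)
        have h' := orderOf_dvd_natCard (⟨t, hc⟩ : Subgroup.center G)
        rw [Subgroup.orderOf_mk, ht] at h'
        exact (Nat.not_even_iff_odd.2 hZ) (even_iff_two_dvd.2 h')
      have h1 := Subgroup.card_mul_index H
      have hpos : 0 < Nat.card H := Nat.card_pos
      set c := Nat.card (Subgroup.centralizer ({t} : Set G)) with hcdef
      set k := Nat.card H
      rcases le_total c k with hle | hle
      · refine ⟨H, hH, ?_⟩
        calc Nat.card G = k * H.index := h1.symm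
          _ < k * c ^ 2 := Nat.mul_lt_mul_of_pos_left h hpos
          _ ≤ k * k ^ 2 := Nat.mul_le_mul_left _ (Nat.pow_le_pow_left hle 2)
          _ = k ^ 3 := by ring
      · refine ⟨_, hC, ?_⟩
        calc Nat.card G = k * H.index := h1.symm
          _ < k * c ^ 2 := Nat.mul_lt_mul_of_pos_left h hpos
          _ ≤ c * c ^ 2 := Nat.mul_le_mul_right _ hle
          _ = c ^ 3 := by ring
  · obtain ⟨z, hz⟩ := exists_involution_of_even (Nat.not_odd_iff_even.1 hZ)
    set N := Subgroup.zpowers (z : G) with hNdef
    have hN : N.Normal := ⟨fun n hn g => by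
      have hc : n ∈ Subgroup.center G := (Subgroup.zpowers_le.2 z.2) hn
      rw [Subgroup.mem_center_iff.1 hc g, mul_inv_cancel_right]
      exact hn⟩
    have hcard : Nat.card N = 2 := by
      rw [hNdef, Nat.card_zpowers, Subgroup.orderOf_coe, hz]
    have hq : Nat.card G = Nat.card (G ⧸ N) * 2 := by
      rw [Subgroup.card_eq_card_quotient_mul_card_subgroup N, hcard]
    rcases Nat.even_or_odd (Nat.card (G ⧸ N)) with hev | hodd
    · by_cases h2 : Nat.card (G ⧸ N) = 2
      · refine ⟨N, fun h => ?_, by rw [hcard, hq, h2]; norm_num⟩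
        rw [h, Subgroup.card_top] at hcard
        omega
      · obtain ⟨K, hK, hlt⟩ := ih (Nat.card (G ⧸ N)) (by omega) hev (by
          have : 0 < Nat.card (G ⧸ N) := Nat.card_pos
          obtain ⟨k, hk⟩ := hev
          omega) rfl
        refine ⟨K.comap (QuotientGroup.mk' N), fun h => hK ?_, ?_⟩
        · rw [← Subgroup.map_comap_eq_self_of_surjective (QuotientGroup.mk'_surjective N) K, h,
            Subgroup.map_top_of_surjective _ (QuotientGroup.mk'_surjective N)]
        · have h3 : Nat.card (K.comap (QuotientGroup.mk' N)) = Nat.card K * 2 := by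
            have e := Subgroup.card_mul_index (K.comap (QuotientGroup.mk' N))
            rw [Subgroup.index_comap_of_surjective _ (QuotientGroup.mk'_surjective N), hq,
              ← Subgroup.card_mul_index K] at e
            have hpos : 0 < K.index := Nat.pos_of_ne_zero Subgroup.index_ne_zero_of_finite
            apply Nat.eq_of_mul_eq_mul_right hpos
            rw [e]; ring
          rw [h3, hq, mul_pow]
          omega
    · have hcop : Nat.Coprime (Nat.card N) N.index := by
        rw [hcard, Subgroup.index]
        exact Nat.coprime_two_left.2 hodd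
      obtain ⟨H, hH⟩ := Subgroup.exists_right_complement'_of_coprime hcop
      have h1 := hH.card_mul
      rw [hcard] at h1
      refine ⟨H, fun h => ?_, ?_⟩
      · rw [h, Subgroup.card_top] at h1
        have := Nat.card_pos (α := G)
        omega
      · have h2 : 2 ≤ Nat.card H := by omega
        nlinarith [Nat.mul_le_mul h2 h2]

theorem card_le_factorial [Finite G] [IsSimpleGroup G] {t : G} (ht : orderOf t = 2) :
    Nat.card G ≤ Nat.factorial (2 * Nat.card (Subgroup.centralizer ({t} : Set G)) ^ 2) := by
  have heven : Even (Nat.card G) := even_iff_two_dvd.2 (ht ▸ orderOf_dvd_natCard t)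
  set c := Nat.card (Subgroup.centralizer ({t} : Set G)) with hc
  have hcpos : 0 < c := Nat.card_pos
  rcases Nat.lt_or_ge 2 (Nat.card G) with hgt | hle
  · obtain ⟨H, hH, h | h⟩ := exists_subgroup_index_lt_sq heven
      (by rw [center_eq_bot_of_two_lt_card heven hgt, Subgroup.card_bot]; decide) ht
    · exact absurd h (index_ne_two_of_two_lt_card hgt H)
    · refine (Nat.le_of_dvd (Nat.factorial_pos _) (card_dvd_factorial_index hH)).trans
        (Nat.factorial_le ?_)
      rw [← hc] at h
      omega
  · refine hle.trans (le_trans (le_of_eq Nat.factorial_two.symm) (Nat.factorial_le ?_))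
    have : 1 ≤ c ^ 2 := Nat.one_le_pow _ _ hcpos
    omega

theorem alternatingGroup_five_involutions :
    Nat.card {g : alternatingGroup (Fin 5) // orderOf g = 2} = 15 := by
  have h : ∀ g : alternatingGroup (Fin 5), orderOf g = 2 ↔ g ≠ 1 ∧ g * g = 1 := fun g =>
    ⟨fun h => ⟨ne_one_of_invol h, mul_self_eq_one h⟩, fun h => orderOf_eq_two h.1 h.2⟩
  rw [Nat.card_congr (Equiv.subtypeEquivRight h), Nat.card_eq_fintype_card]
  decide +kernel

theorem three_mul_involutions_lt_card [Finite G] [IsSimpleGroup G] (heven : Even (Nat.card G))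
    (hgt : 2 < Nat.card G) : 3 * Nat.card {t : G // orderOf t = 2} < Nat.card G := by
  by_contra hcon
  push Not at hcon
  obtain ⟨H, hH, h | h⟩ := exists_subgroup_index_bound heven
    (by rw [center_eq_bot_of_two_lt_card heven hgt, Subgroup.card_bot]; decide)
  · exact index_ne_two_of_two_lt_card hgt H h
  set n := Nat.card {t : G // orderOf t = 2}
  have h5 : H.index ≤ 5 := by
    have h4 : n ^ 2 * (2 * H.index) < n ^ 2 * 12 := by
      calc n ^ 2 * (2 * H.index) = 2 * H.index * n ^ 2 := by ring
        _ < Nat.card G * (Nat.card G + n) := h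
        _ ≤ 3 * n * (3 * n + n) := Nat.mul_le_mul hcon (Nat.add_le_add_right hcon n)
        _ = n ^ 2 * 12 := by ring
    have := Nat.lt_of_mul_lt_mul_left h4
    omega
  obtain ⟨f, hf⟩ : ∃ f : G →* Equiv.Perm (Fin 5), Function.Injective f := by
    have := Fintype.ofFinite (G ⧸ H)
    let e : G ⧸ H ↪ Fin 5 :=
      (Fintype.equivFinOfCardEq (Nat.card_eq_fintype_card.symm : Fintype.card (G ⧸ H) = H.index)
        ).toEmbedding.trans (Fin.castLEEmb h5)
    exact ⟨(Equiv.Perm.viaEmbeddingHom e).comp (MulAction.toPermHom G (G ⧸ H)),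
      (Equiv.Perm.viaEmbeddingHom_injective e).comp (toPermHom_injective hH)⟩
  have hsign : ∀ g, f g ∈ alternatingGroup (Fin 5) := by
    intro g
    rw [Equiv.Perm.mem_alternatingGroup]
    rcases (inferInstance : (Equiv.Perm.sign.comp f).ker.Normal).eq_bot_or_eq_top with hk | hk
    · exfalso
      have := Nat.card_le_card_of_injective _ ((MonoidHom.ker_eq_bot_iff _).1 hk)
      rw [Nat.card_eq_fintype_card (α := ℤˣ), Fintype.card_units_int] at this
      omega
    · have hg : g ∈ (Equiv.Perm.sign.comp f).ker := hk ▸ Subgroup.mem_top g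
      exact hg
  let φ : G →* alternatingGroup (Fin 5) := f.codRestrict _ hsign
  have hφ : Function.Injective φ := fun a b hab => hf (congrArg Subtype.val hab)
  have hA : Nat.card (alternatingGroup (Fin 5)) = 60 := by
    rw [Nat.card_eq_fintype_card]; decide +kernel
  have hA' : IsSimpleGroup (alternatingGroup (Fin 5)) := alternatingGroup.isSimpleGroup_five
  have hR : Nat.card φ.range = Nat.card G := Nat.card_congr (MonoidHom.ofInjective hφ).toEquiv.symm
  by_cases htop : φ.range = ⊤
  · have e : G ≃* alternatingGroup (Fin 5) :=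
      MulEquiv.ofBijective φ ⟨hφ, MonoidHom.range_eq_top.1 htop⟩
    have h1 : n = 15 := by
      rw [← alternatingGroup_five_involutions]
      exact Nat.card_congr (e.toEquiv.subtypeEquiv fun g => by simp [e.orderOf_eq])
    rw [h1, Nat.card_congr e.toEquiv, hA] at hcon
    omega
  · have h60 := card_dvd_factorial_index (G := alternatingGroup (Fin 5)) htop
    rw [hA] at h60
    have hmul := Subgroup.card_mul_index φ.range
    rw [hR, hA] at hmul
    have hk : 5 ≤ φ.range.index := by
      by_contra hlt
      push Not at hlt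
      have := Nat.le_of_dvd (Nat.factorial_pos _) h60
      have := Nat.factorial_le (show φ.range.index ≤ 4 by omega)
      have e4 : Nat.factorial 4 = 24 := by decide
      omega
    have hle12 : Nat.card G ≤ 12 := by
      have := Nat.mul_le_mul_left (Nat.card G) hk
      omega
    have hdvd : Nat.card G ∣ 60 := ⟨_, hmul.symm⟩
    have hcases : Nat.card G = 4 ∨ Nat.card G = 6 ∨ Nat.card G = 10 ∨ Nat.card G = 12 := by
      obtain ⟨k, hk'⟩ := heven
      have : Nat.card G ∈ Nat.divisors 60 := Nat.mem_divisors.2 ⟨hdvd, by norm_num⟩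
      have h60' : Nat.divisors 60 = {1, 2, 3, 4, 5, 6, 10, 12, 15, 20, 30, 60} := by decide
      rw [h60'] at this
      simp only [Finset.mem_insert, Finset.mem_singleton] at this
      omega
    have hprime : ∀ p : ℕ, p.Prime → Nat.card G = p * 2 → False := by
      intro p hp hi
      have := Fact.mk hp
      obtain ⟨x, hx⟩ := exists_prime_orderOf_dvd_card' p (G := G) (hi ▸ dvd_mul_right p 2)
      have h1 := Subgroup.card_mul_index (Subgroup.zpowers x)
      rw [Nat.card_zpowers, hx, hi] at h1
      exact index_ne_two_of_two_lt_card hgt _ (Nat.eq_of_mul_eq_mul_left hp.pos h1)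
    rcases hcases with hc | hc | hc | hc
    · exact hprime 2 Nat.prime_two hc
    · exact hprime 3 Nat.prime_three hc
    · exact hprime 5 Nat.prime_five hc
    · have : Fact (Nat.Prime 2) := ⟨Nat.prime_two⟩
      obtain ⟨K, hK⟩ := Sylow.exists_subgroup_card_pow_prime 2 (G := G) (n := 2) (by omega)
      have hne : K ≠ ⊤ := fun hT => by rw [hT, Subgroup.card_top] at hK; omega
      have h1 := Subgroup.card_mul_index K
      rw [hK, hc] at h1
      have hd := Nat.le_of_dvd (Nat.factorial_pos _) (card_dvd_factorial_index hne)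
      rw [show K.index = 3 by omega, hc] at hd
      exact absurd hd (by decide)

end CfsgLib.Invol
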