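import Cfsg.Agent.Lib.Invol.Dihedral
import Mathlib.GroupTheory.Sylow
import Mathlib.GroupTheory.Nilpotent
import Mathlib.Data.SetLike.Fintype
import Mathlib.Data.Set.Card
import Mathlib.Data.Nat.Factorization.Basic

/-!
# The Baer-Suzuki theorem

The proof of Alperin and Lyons.
-/

set_option autoImplicit false

namespace CfsgLib.Invol

/-- In a finite nilpotent group, a conjugation invariant set `E` not inside `D = E ∩ K` has an
element outside `D` normalising `D`. -/
theorem exists_normalizing_mem_sdiff {P : Type*} [Group P] [Finite P] [Group.IsNilpotent P]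
    (E : Set P) (hE : ∀ g : P, ∀ e ∈ E, g * e * g⁻¹ ∈ E) (D : Set P) :
    ∀ K : Subgroup P, E ∩ K = D → ¬ E ⊆ D → ∃ a ∈ E, a ∉ D ∧ ∀ d ∈ D, a * d * a⁻¹ ∈ D := by
  intro K
  induction K using WellFoundedGT.induction with
  | _ K ih =>
    intro hK hne
    have hKtop : K < ⊤ := by
      refine lt_top_iff_ne_top.2 fun h => hne ?_
      rw [← hK, h]
      simp
    have hlt : K < Subgroup.normalizer (K : Set P) :=
      Group.normalizerCondition_of_isNilpotent K hKtop
    by_cases h : E ∩ (Subgroup.normalizer (K : Set P) : Set P) = D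
    · exact ih _ hlt h hne
    · obtain ⟨a, haN, haD⟩ : ∃ a, a ∈ E ∩ (Subgroup.normalizer (K : Set P) : Set P) ∧ a ∉ D := by
        by_contra hcon
        push Not at hcon
        exact h (Set.Subset.antisymm hcon fun d hd => by
          rw [← hK] at hd
          exact ⟨hd.1, Subgroup.le_normalizer hd.2⟩)
      refine ⟨a, haN.1, haD, fun d hd => ?_⟩
      rw [← hK] at hd ⊢
      exact ⟨hE a d hd.1, (Subgroup.mem_normalizer_iff.1 haN.2 d).1 hd.2⟩

variable {G : Type*} [Group G] {p : ℕ}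

theorem sylow_exists_normalizing [Finite G] [Fact p.Prime] (P : Sylow p G) (C D : Set G)
    (hC : ∀ g : G, ∀ c ∈ C, g * c * g⁻¹ ∈ C) (Q : Subgroup G)
    (hD : C ∩ (P : Set G) ∩ (Q : Set G) = D) (hne : ¬ C ∩ (P : Set G) ⊆ D) :
    ∃ a ∈ C ∩ (P : Set G), a ∉ D ∧ ∀ d ∈ D, a * d * a⁻¹ ∈ D := by
  have : Group.IsNilpotent (P : Subgroup G) := P.isPGroup'.isNilpotent
  let ι : (P : Subgroup G) →* G := (P : Subgroup G).subtype
  obtain ⟨a, haE, haD, hn⟩ := exists_normalizing_mem_sdiff (ι ⁻¹' C)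
    (fun g e he => hC (g : G) _ he) (ι ⁻¹' D) (Q.comap ι)
    (by
      ext e
      rw [← hD]
      exact ⟨fun h => ⟨⟨h.1, e.2⟩, h.2⟩, fun h => ⟨h.1.1, h.2⟩⟩)
    (by
      intro h
      exact hne fun c hc => h (a := (⟨c, hc.2⟩ : (P : Subgroup G))) hc.1)
  refine ⟨ι a, ⟨haE, a.2⟩, haD, fun d hd => ?_⟩
  have hdP : d ∈ (P : Subgroup G) := by rw [← hD] at hd; exact hd.1.2
  exact hn ⟨d, hdP⟩ hd

theorem inter_sylow_ncard_eq [Finite G] [Fact p.Prime] (C : Set G)
    (hC : ∀ g : G, ∀ c ∈ C, g * c * g⁻¹ ∈ C) (P Q : Sylow p G) :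
    (C ∩ (P : Set G)).ncard = (C ∩ (Q : Set G)).ncard := by
  have key : ∀ P Q : Sylow p G, (C ∩ (P : Set G)).ncard ≤ (C ∩ (Q : Set G)).ncard := by
    intro P Q
    obtain ⟨g, hg⟩ := MulAction.exists_smul_eq G P Q
    refine Set.ncard_le_ncard_of_injOn (MulAut.conj g) (fun c hc => ⟨hC g c hc.1, ?_⟩)
      ((MulAut.conj g).injective.injOn) (Set.toFinite _)
    rw [← hg, SetLike.mem_coe]
    exact (Subgroup.smul_mem_pointwise_smul_iff (a := MulAut.conj g)).2 hc.2
  exact le_antisymm (key P Q) (key Q P)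

/-- Baer-Suzuki for a conjugation invariant set: if any two of its elements generate a `p`-group,
then the set generates a `p`-group. -/
theorem isPGroup_closure_of_pairs [Finite G] [hp : Fact p.Prime] (C : Set G)
    (hC : ∀ g : G, ∀ c ∈ C, g * c * g⁻¹ ∈ C)
    (h2 : ∀ a ∈ C, ∀ b ∈ C, IsPGroup p (Subgroup.closure ({a, b} : Set G))) :
    IsPGroup p (Subgroup.closure C) := by
  classical
  by_contra hcon
  let S : Set (Sylow p G × Sylow p G) := {PQ | C ∩ (PQ.1 : Set G) ≠ C ∩ (PQ.2 : Set G)}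
  have hSne : S.Nonempty := by
    by_contra hS
    rw [Set.not_nonempty_iff_eq_empty] at hS
    obtain ⟨P⟩ : Nonempty (Sylow p G) := inferInstance
    apply hcon
    refine P.isPGroup'.to_le ((Subgroup.closure_le _).2 fun c hc => ?_)
    obtain ⟨Q, hQ⟩ := (h2 c hc c hc).exists_le_sylow
    have hPQ : C ∩ (Q : Set G) = C ∩ (P : Set G) := by
      by_contra hne
      exact (Set.eq_empty_iff_forall_notMem.1 hS (Q, P)) hne
    have : c ∈ C ∩ (Q : Set G) := ⟨hc, hQ (Subgroup.subset_closure (by simp))⟩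
    rw [hPQ] at this
    exact this.2
  obtain ⟨⟨P, Q⟩, hPQ, hmax⟩ := (Set.toFinite S).exists_maximalFor
    (fun PQ : Sylow p G × Sylow p G => (C ∩ (PQ.1 : Set G) ∩ (PQ.2 : Set G)).ncard) S hSne
  set D := C ∩ (P : Set G) ∩ (Q : Set G) with hD
  have hne : C ∩ (P : Set G) ≠ C ∩ (Q : Set G) := hPQ
  have hncard := inter_sylow_ncard_eq C hC P Q
  have hDP : ¬ C ∩ (P : Set G) ⊆ D := fun h => hne (Set.eq_of_subset_of_ncard_le
    (fun c hc => ⟨hc.1, (h hc).2⟩) hncard.ge (Set.toFinite _))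
  have hDQ : ¬ C ∩ (Q : Set G) ⊆ D := fun h => hne (Eq.symm (Set.eq_of_subset_of_ncard_le
    (fun c hc => ⟨hc.1, (h hc).1.2⟩) hncard.le (Set.toFinite _)))
  obtain ⟨a, ha, haD, han⟩ := sylow_exists_normalizing P C D hC Q rfl hDP
  obtain ⟨b, hb, hbD, hbn⟩ := sylow_exists_normalizing Q C D hC P
    (by rw [hD, Set.inter_right_comm (C) (P : Set G)]; rfl) hDQ
  have hle : Subgroup.closure ({a, b} : Set G) ≤
      Subgroup.normalizer (Subgroup.closure D : Set G) := by
    rw [Subgroup.closure_le]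
    have key : ∀ c : G, (∀ d ∈ D, c * d * c⁻¹ ∈ D) →
        c ∈ Subgroup.normalizer (Subgroup.closure D : Set G) := by
      intro c hc
      rw [Subgroup.mem_normalizer_iff_conj_image_eq]
      have himg : (MulAut.conj c).toMonoidHom '' D = D :=
        Set.eq_of_subset_of_ncard_le (Set.image_subset_iff.2 hc)
          (Set.ncard_image_of_injective _ (MulAut.conj c).injective).ge (Set.toFinite _)
      show (Subgroup.map (MulAut.conj c).toMonoidHom (Subgroup.closure D) : Set G) = _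
      rw [MonoidHom.map_closure, himg]
    intro c hc
    simp only [Set.mem_insert_iff, Set.mem_singleton_iff] at hc
    rcases hc with rfl | rfl
    exacts [key _ han, key _ hbn]
  have hD0 : IsPGroup p (Subgroup.closure D) :=
    P.isPGroup'.to_le ((Subgroup.closure_le _).2 fun d hd => hd.1.2)
  obtain ⟨R, hR⟩ := ((h2 a ha.1 b hb.1).to_sup_of_normal_right' hD0 hle).exists_le_sylow
  have haR : a ∈ (R : Set G) := hR (Subgroup.mem_sup_left (Subgroup.subset_closure (by simp)))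
  have hbR : b ∈ (R : Set G) := hR (Subgroup.mem_sup_left (Subgroup.subset_closure (by simp)))
  have hDR : D ⊆ (R : Set G) := fun d hd => hR (Subgroup.mem_sup_right (Subgroup.subset_closure hd))
  have hkey : ∀ (T : Sylow p G) (c : G), c ∈ C ∩ (T : Set G) → c ∉ D → D ⊆ (T : Set G) →
      c ∈ (R : Set G) → C ∩ (T : Set G) = C ∩ (R : Set G) := by
    intro T c hcT hcD hDT hcR
    by_contra hne'
    have hlt : D.ncard < (C ∩ (T : Set G) ∩ (R : Set G)).ncard := by
      refine Set.ncard_lt_ncard (Set.ssubset_iff_exists.2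
        ⟨fun d hd => ⟨⟨hd.1.1, hDT hd⟩, hDR hd⟩, c, ⟨hcT, hcR⟩, hcD⟩) (Set.toFinite _)
    have := hmax (show (T, R) ∈ S from hne') hlt.le
    exact (lt_irrefl _) (lt_of_lt_of_le hlt this)
  exact hne ((hkey P a ha haD (fun d hd => hd.1.2) haR).trans
    (hkey Q b hb hbD (fun d hd => hd.2) hbR).symm)

/-- Baer-Suzuki for elements. -/
theorem exists_normal_pGroup_of_pairs [Finite G] [Fact p.Prime] (x : G)
    (h : ∀ g : G, IsPGroup p (Subgroup.closure ({x, g * x * g⁻¹} : Set G))) :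
    ∃ N : Subgroup G, N.Normal ∧ IsPGroup p N ∧ x ∈ N := by
  have hC : ∀ g : G, ∀ c ∈ {c : G | ∃ a : G, a * x * a⁻¹ = c},
      g * c * g⁻¹ ∈ {c : G | ∃ a : G, a * x * a⁻¹ = c} := by
    rintro g _ ⟨a, rfl⟩
    exact ⟨g * a, by group⟩
  refine ⟨Subgroup.closure {c : G | ∃ a : G, a * x * a⁻¹ = c}, ?_, ?_,
    Subgroup.subset_closure ⟨1, by simp⟩⟩
  · refine ⟨fun n hn g => ?_⟩
    induction hn using Subgroup.closure_induction with
    | mem c hc => exact Subgroup.subset_closure (hC g c hc)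
    | one => simp
    | mul a b _ _ iha ihb =>
      rw [show g * (a * b) * g⁻¹ = g * a * g⁻¹ * (g * b * g⁻¹) by group]
      exact mul_mem iha ihb
    | inv a _ iha =>
      rw [show g * a⁻¹ * g⁻¹ = (g * a * g⁻¹)⁻¹ by group]
      exact inv_mem iha
  · refine isPGroup_closure_of_pairs _ hC ?_
    rintro _ ⟨a, rfl⟩ _ ⟨b, rfl⟩
    refine (((h (a⁻¹ * b)).map (MulAut.conj a).toMonoidHom)).to_le ((Subgroup.closure_le _).2 ?_)
    intro c hc
    simp only [Set.mem_insert_iff, Set.mem_singleton_iff] at hc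
    rcases hc with rfl | rfl
    · exact ⟨x, Subgroup.subset_closure (by simp), by simp⟩
    · exact ⟨(a⁻¹ * b) * x * (a⁻¹ * b)⁻¹, Subgroup.subset_closure (by simp), by simp; group⟩

/-- Baer-Suzuki for subgroups. -/
theorem baer_suzuki [Finite G] [Fact p.Prime] (X : Subgroup G)
    (h : ∀ g : G, IsPGroup p ↥(X ⊔ X.map (MulAut.conj g).toMonoidHom)) :
    ∃ N : Subgroup G, N.Normal ∧ IsPGroup p N ∧ X ≤ N := by
  obtain ⟨P⟩ : Nonempty (Sylow p G) := inferInstance
  refine ⟨(P : Subgroup G).normalCore, Subgroup.normalCore_normal _,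
    P.isPGroup'.to_le (Subgroup.normalCore_le _), fun x hx => ?_⟩
  obtain ⟨N, hN, hNp, hxN⟩ := exists_normal_pGroup_of_pairs (p := p) x (fun g => by
    refine (h g).to_le ((Subgroup.closure_le _).2 ?_)
    intro c hc
    simp only [Set.mem_insert_iff, Set.mem_singleton_iff] at hc
    rcases hc with rfl | rfl
    · exact Subgroup.mem_sup_left hx
    · exact Subgroup.mem_sup_right ⟨x, hx, rfl⟩)
  refine (Subgroup.normal_le_normalCore (hN := hN)).2 ?_ hxN
  obtain ⟨Q, hQ⟩ := hNp.exists_le_sylow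
  obtain ⟨g, rfl⟩ := MulAction.exists_smul_eq G P Q
  intro n hn
  have hn' := hQ (hN.conj_mem n hn g)
  have := (Subgroup.smul_mem_pointwise_smul_iff (a := MulAut.conj g) (x := n)
    (S := (P : Subgroup G))).1 hn'
  exact this

theorem isPGroup_two_closure_pair [Finite G] {x y : G} (hx : orderOf x = 2) (hy : orderOf y = 2)
    {k : ℕ} (hk : orderOf (x * y) = 2 ^ k) : IsPGroup 2 (Subgroup.closure ({x, y} : Set G)) := by
  rintro ⟨d, hd⟩
  by_cases hz : d ∈ Subgroup.zpowers (x * y)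
  · refine ⟨k, Subtype.ext ?_⟩
    obtain ⟨i, rfl⟩ := Subgroup.mem_zpowers_iff.1 hz
    show ((x * y) ^ i) ^ 2 ^ k = 1
    rw [← zpow_natCast, ← zpow_mul, mul_comm, zpow_mul, zpow_natCast, ← hk, pow_orderOf_eq_one,
      one_zpow]
  · rcases eq_or_ne x y with rfl | hxy
    · obtain ⟨i, h | h⟩ := (mem_closure_pair_iff (mul_self_eq_one hx) (mul_self_eq_one hx)).1 hd
      · exact absurd (h ▸ Subgroup.zpow_mem_zpowers _ _) hz
      · refine ⟨1, Subtype.ext ?_⟩
        show d ^ 2 ^ 1 = 1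
        rw [h, mul_self_eq_one hx, one_zpow, mul_one, pow_one, pow_two, mul_self_eq_one hx]
    · refine ⟨1, Subtype.ext ?_⟩
      show d ^ 2 ^ 1 = 1
      rw [pow_one, ← orderOf_eq_two_of_notMem_zpowers hx hy hxy hd hz]
      exact pow_orderOf_eq_one d

/-- An involution outside every normal 2-subgroup inverts a nontrivial element of odd order. -/
theorem exists_odd_inverted_of_notMem_normal_two [Finite G] {t : G} (ht : orderOf t = 2)
    (hO : ∀ N : Subgroup G, N.Normal → IsPGroup 2 N → t ∉ N) :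
    ∃ h : G, h ≠ 1 ∧ Odd (orderOf h) ∧ t * h * t⁻¹ = h⁻¹ := by
  obtain ⟨g, hg⟩ : ∃ g : G, ¬ IsPGroup 2 (Subgroup.closure ({t, g * t * g⁻¹} : Set G)) := by
    by_contra hcon
    push Not at hcon
    haveI : Fact (Nat.Prime 2) := ⟨Nat.prime_two⟩
    obtain ⟨N, hN, hNp, htN⟩ := exists_normal_pGroup_of_pairs t hcon
    exact hO N hN hNp htN
  set y := g * t * g⁻¹
  have hy : orderOf y = 2 := by rw [orderOf_conj, ht]
  obtain ⟨k, m, hm, hkm⟩ := Nat.exists_eq_two_pow_mul_odd (orderOf_pos (t * y)).ne'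
  refine ⟨(t * y) ^ 2 ^ k, ?_, ?_, ?_⟩
  · intro h
    obtain ⟨i, -, hi⟩ := (Nat.dvd_prime_pow Nat.prime_two).1 (orderOf_dvd_of_pow_eq_one h)
    exact hg (isPGroup_two_closure_pair ht hy hi)
  · rw [orderOf_pow, hkm, Nat.gcd_mul_right_left, Nat.mul_div_cancel_left _ (Nat.two_pow_pos k)]
    exact hm
  · have h := conj_zpow_of_inverts (conj_prod (mul_self_eq_one ht) (mul_self_eq_one hy)) (2 ^ k : ℕ)
    rwa [zpow_neg, zpow_natCast] at h

end CfsgLib.Invol
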