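import Mathlib.Algebra.BigOperators.Group.Finset.Basic
import Mathlib.Algebra.Order.BigOperators.Ring.Finset
import Mathlib.Data.Finset.Card
import Mathlib.Tactic

/-!
# The integral vectors of the principal block for a dihedral Sylow 2-subgroup

Vectors of norm `3` (and one of norm `4`) with mutual products `2`, all having entry `1` at the
principal character, form a star.
-/

set_option autoImplicit false

namespace CfsgLib.Invol.DihLattice

universe u

variable {B : Type u}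

/-- The configuration is a star with centre `A`, an extra pair `C`, `D` and leaves `Bk`. -/
theorem classify [DecidableEq B] (s : Finset B) (p : B) (hp : p ∈ s) (h : ℕ) (hh : h = 2 ∨ 4 ≤ h)
    (a : B → ℕ → ℤ) (hap : ∀ j ∈ Finset.Icc 1 h, a p j = 1)
    (hinner : ∀ j ∈ Finset.Icc 1 h, ∀ k ∈ Finset.Icc 1 h, ∑ χ ∈ s, a χ j * a χ k =
      2 + (if j = k then 1 else 0) + (if j = h ∧ k = h then 1 else 0))
    (hcover : ∀ χ ∈ s, ∃ j ∈ Finset.Icc 1 h, a χ j ≠ 0)
    (x : B → ℤ) (hxp : x p = 1) (hdeg : ∀ j ∈ Finset.Icc 1 h, ∑ χ ∈ s, a χ j * x χ = 0) :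
    ∃ (A C D : B) (Bk : ℕ → B) (e f g : ℤ) (eb : ℕ → ℤ),
      (A ≠ p ∧ C ≠ p ∧ D ≠ p ∧ A ≠ C ∧ A ≠ D ∧ C ≠ D) ∧
      (∀ k ∈ Finset.Ico 1 h, Bk k ≠ p ∧ Bk k ≠ A ∧ Bk k ≠ C ∧ Bk k ≠ D) ∧
      Set.InjOn Bk (Finset.Ico 1 h : Set ℕ) ∧
      s = insert p (insert A (insert C (insert D ((Finset.Ico 1 h).image Bk)))) ∧
      ((e = 1 ∨ e = -1) ∧ (f = 1 ∨ f = -1) ∧ (g = 1 ∨ g = -1) ∧
        ∀ k ∈ Finset.Ico 1 h, eb k = 1 ∨ eb k = -1) ∧
      (∀ j ∈ Finset.Icc 1 h, a A j = e ∧ a C j = (if j = h then f else 0) ∧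
        a D j = (if j = h then g else 0) ∧
        ∀ k ∈ Finset.Ico 1 h, a (Bk k) j = if j = k then eb k else 0) ∧
      (∀ k ∈ Finset.Ico 1 h, 1 + e * x A + eb k * x (Bk k) = 0) := by
  haveI : Nonempty B := ⟨p⟩
  set V : ℕ → Finset B := fun j => (s.erase p).filter fun χ => a χ j ≠ 0 with hV
  have hmV : ∀ χ j, χ ∈ V j ↔ χ ∈ s.erase p ∧ a χ j ≠ 0 := fun χ j => by simp [hV]
  have hIco : ∀ j, j ∈ Finset.Ico 1 h → j ∈ Finset.Icc 1 h := fun j hj => by
    simp only [Finset.mem_Ico] at hj; simp only [Finset.mem_Icc]; omega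
  have hhI : h ∈ Finset.Icc 1 h := by simp only [Finset.mem_Icc]; omega
  -- products away from `p`
  have hprod : ∀ j ∈ Finset.Icc 1 h, ∀ k ∈ Finset.Icc 1 h, ∑ χ ∈ s.erase p, a χ j * a χ k =
      1 + (if j = k then 1 else 0) + (if j = h ∧ k = h then 1 else 0) := by
    intro j hj k hk
    rw [Finset.sum_erase_eq_sub hp, hinner j hj k hk, hap j hj, hap k hk]
    ring
  have hentry : ∀ j ∈ Finset.Icc 1 h, ∀ χ ∈ V j, a χ j * a χ j = 1 := by
    intro j hj χ hχ
    obtain ⟨hs, hne⟩ := (hmV χ j).1 hχ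
    have h3 : a χ j * a χ j ≤ 3 := by
      refine (Finset.single_le_sum (fun ψ _ => mul_self_nonneg (a ψ j)) hs).trans ?_
      rw [hprod j hj j hj]
      split_ifs <;> norm_num
    have h4 : a χ j < 2 := by nlinarith
    have h5 : -2 < a χ j := by nlinarith
    interval_cases (a χ j) <;> simp_all
  have hsign : ∀ j ∈ Finset.Icc 1 h, ∀ χ ∈ V j, a χ j = 1 ∨ a χ j = -1 := fun j hj χ hχ =>
    mul_self_eq_one_iff.1 (hentry j hj χ hχ)
  have hcard : ∀ j ∈ Finset.Icc 1 h, ((V j).card : ℤ) = if j = h then 3 else 2 := by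
    intro j hj
    have h1 := hprod j hj j hj
    rw [← Finset.sum_filter_of_ne (p := fun χ => a χ j ≠ 0) (fun χ _ hne h0 => hne (by rw [h0]; simp))] at h1
    rw [show (s.erase p).filter (fun χ => a χ j ≠ 0) = V j from rfl,
      Finset.sum_congr rfl (hentry j hj), Finset.sum_const, nsmul_eq_mul, mul_one] at h1
    rw [h1]
    by_cases hjh : j = h <;> simp [hjh]
  have hcard2 : ∀ j ∈ Finset.Ico 1 h, (V j).card = 2 := fun j hj => by
    have := hcard j (hIco j hj)
    rw [if_neg (by simp only [Finset.mem_Ico] at hj; omega)] at this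
    exact_mod_cast this
  -- two supports meet exactly once, with equal signs
  have hmeet : ∀ j ∈ Finset.Ico 1 h, ∀ k ∈ Finset.Icc 1 h, j ≠ k → ∀ u v : B, V j = {u, v} → u ≠ v →
      (u ∈ V k ∧ v ∉ V k ∧ a u j = a u k) ∨ (u ∉ V k ∧ v ∈ V k ∧ a v j = a v k) := by
    intro j hj k hk hjk u v huv hne
    have h1 := hprod j (hIco j hj) k hk
    rw [if_neg hjk, if_neg (fun h => hjk (h.1.trans h.2.symm)), add_zero, add_zero,
      ← Finset.sum_filter_of_ne (p := fun χ => a χ j ≠ 0) (fun χ _ hne h0 => hne (by rw [h0]; simp)),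
      show (s.erase p).filter (fun χ => a χ j ≠ 0) = V j from rfl, huv, Finset.sum_pair hne] at h1
    have hu : u ∈ V j := by simp [huv]
    have hv : v ∈ V j := by simp [huv]
    have hu0 : u ∉ V k → a u k = 0 := fun hn => by
      by_contra h0; exact hn ((hmV u k).2 ⟨((hmV u j).1 hu).1, h0⟩)
    have hv0 : v ∉ V k → a v k = 0 := fun hn => by
      by_contra h0; exact hn ((hmV v k).2 ⟨((hmV v j).1 hv).1, h0⟩)
    by_cases huk : u ∈ V k <;> by_cases hvk : v ∈ V k
    · exfalso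
      rcases hsign j (hIco j hj) u hu with e1 | e1 <;> rcases hsign k hk u huk with e2 | e2 <;>
        rcases hsign j (hIco j hj) v hv with e3 | e3 <;> rcases hsign k hk v hvk with e4 | e4 <;>
        rw [e1, e2, e3, e4] at h1 <;> norm_num at h1
    · refine Or.inl ⟨huk, hvk, ?_⟩
      rw [hv0 hvk] at h1
      rcases hsign j (hIco j hj) u hu with e1 | e1 <;> rcases hsign k hk u huk with e2 | e2 <;>
        rw [e1, e2] at h1 ⊢ <;> norm_num at h1
    · refine Or.inr ⟨huk, hvk, ?_⟩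
      rw [hu0 huk] at h1
      rcases hsign j (hIco j hj) v hv with e1 | e1 <;> rcases hsign k hk v hvk with e2 | e2 <;>
        rw [e1, e2] at h1 ⊢ <;> norm_num at h1
    · rw [hu0 huk, hv0 hvk] at h1; norm_num at h1
  have hdegV : ∀ j ∈ Finset.Icc 1 h, ∑ χ ∈ V j, a χ j * x χ = -1 := by
    intro j hj
    have h1 := hdeg j hj
    rw [← Finset.sum_erase_add _ _ hp, hap j hj, hxp,
      ← Finset.sum_filter_of_ne (p := fun χ => a χ j ≠ 0) (fun χ _ hne h0 => hne (by rw [h0]; simp))] at h1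
    simp only [hV]
    linarith
  -- the centre
  have h1I : 1 ∈ Finset.Ico 1 h := by simp only [Finset.mem_Ico]; omega
  have h2I : 2 ∈ Finset.Icc 1 h := by simp only [Finset.mem_Icc]; omega
  obtain ⟨A, hA1, hA2⟩ : ∃ A, A ∈ V 1 ∧ A ∈ V 2 := by
    obtain ⟨u, v, hne, huv⟩ := Finset.card_eq_two.1 (hcard2 1 h1I)
    rcases hmeet 1 h1I 2 h2I (by norm_num) u v huv hne with ⟨h, -, -⟩ | ⟨-, h, -⟩
    · exact ⟨u, by simp [huv], h⟩
    · exact ⟨v, by simp [huv], h⟩
  have hpair : ∀ j ∈ Finset.Ico 1 h, ∀ u ∈ V j, ∃ v, v ≠ u ∧ V j = {u, v} := by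
    intro j hj u hu
    obtain ⟨y, z, hne, hyz⟩ := Finset.card_eq_two.1 (hcard2 j hj)
    rw [hyz] at hu ⊢
    simp only [Finset.mem_insert, Finset.mem_singleton] at hu
    rcases hu with rfl | rfl
    · exact ⟨z, hne.symm, rfl⟩
    · exact ⟨y, hne, Finset.pair_comm _ _⟩
  have hAall : ∀ j ∈ Finset.Icc 1 h, A ∈ V j := by
    rcases hh with rfl | hh4
    · intro j hj
      simp only [Finset.mem_Icc] at hj
      obtain rfl | rfl : j = 1 ∨ j = 2 := by omega
      · exact hA1
      · exact hA2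
    have h2I' : 2 ∈ Finset.Ico 1 h := by simp only [Finset.mem_Ico]; omega
    obtain ⟨b₁, hb1, hV1⟩ := hpair 1 h1I A hA1
    obtain ⟨b₂, hb2, hV2⟩ := hpair 2 h2I' A hA2
    have h12 : b₁ ≠ b₂ := by
      intro e
      rcases hmeet 1 h1I 2 h2I (by norm_num) A b₁ hV1 hb1.symm with ⟨-, h', -⟩ | ⟨h', -, -⟩
      · exact h' (by rw [hV2, e]; simp)
      · exact h' hA2
    have hlow : ∀ j ∈ Finset.Ico 1 h, A ∈ V j := by
      intro k hk
      by_contra hAk
      have hk1 : k ≠ 1 := fun e => hAk (e ▸ hA1)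
      have hk2 : k ≠ 2 := fun e => hAk (e ▸ hA2)
      have hb1k : b₁ ∈ V k := by
        rcases hmeet 1 h1I k (hIco k hk) (Ne.symm hk1) A b₁ hV1 hb1.symm with ⟨h', -, -⟩ | ⟨-, h', -⟩
        · exact absurd h' hAk
        · exact h'
      have hb2k : b₂ ∈ V k := by
        rcases hmeet 2 h2I' k (hIco k hk) (Ne.symm hk2) A b₂ hV2 hb2.symm with ⟨h', -, -⟩ | ⟨-, h', -⟩
        · exact absurd h' hAk
        · exact h'
      obtain ⟨w, hw, hVk⟩ := hpair k hk b₁ hb1k
      have hw2 : w = b₂ := by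
        rw [hVk] at hb2k
        simp only [Finset.mem_insert, Finset.mem_singleton] at hb2k
        exact (hb2k.resolve_left h12.symm).symm
      subst hw2
      have hne1 : (1 : ℕ) ≠ h := by omega
      have hne2 : (2 : ℕ) ≠ h := by omega
      have hne3 : k ≠ h := by simp only [Finset.mem_Ico] at hk; omega
      have e1 := hmeet 1 h1I h hhI hne1 A b₁ hV1 hb1.symm
      have e2 := hmeet 2 h2I' h hhI hne2 A w hV2 hb2.symm
      have e3 := hmeet k hk h hhI hne3 b₁ w hVk h12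
      tauto
    intro j hj
    by_cases hjh : j = h
    swap
    · refine hlow j ?_
      simp only [Finset.mem_Icc] at hj; simp only [Finset.mem_Ico]; omega
    subst hjh
    by_contra hAh
    have hleaf : ∀ k ∈ Finset.Ico 1 j, ∃ b, b ≠ A ∧ V k = {A, b} ∧ b ∈ V j ∧ a b k = a b j := by
      intro k hk
      obtain ⟨b, hb, hVb⟩ := hpair k hk A (hlow k hk)
      rcases hmeet k hk j hhI (by simp only [Finset.mem_Ico] at hk; omega) A b hVb hb.symm with
        ⟨h', -, -⟩ | ⟨-, h', h''⟩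
      · exact absurd h' hAh
      · exact ⟨b, hb, hVb, h', h''⟩
    choose! bf hbne hbV hbmem hbsign using hleaf
    have hinj : Set.InjOn bf (Finset.Ico 1 j : Set ℕ) := by
      intro k hk k' hk' e
      rw [Finset.mem_coe] at hk hk'
      by_contra hne
      rcases hmeet k hk k' (hIco k' hk') hne A (bf k) (hbV k hk) (hbne k hk).symm with
        ⟨-, h', -⟩ | ⟨h', -, -⟩
      · exact h' (by rw [hbV k' hk', e]; simp)
      · exact h' (hlow k' hk')
    have hsub : (Finset.Ico 1 j).image bf ⊆ V j := Finset.image_subset_iff.2 hbmem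
    have hc := hcard j hhI
    rw [if_pos rfl] at hc
    have hc' : (V j).card = 3 := by exact_mod_cast hc
    have hle := Finset.card_le_card hsub
    rw [Finset.card_image_of_injOn hinj, Nat.card_Ico, hc'] at hle
    obtain rfl : j = 4 := by omega
    have heq : (Finset.Ico 1 4).image bf = V 4 := Finset.eq_of_subset_of_card_le hsub
      (by rw [Finset.card_image_of_injOn hinj, Nat.card_Ico, hc'])
    have hd4 := hdegV 4 hhI
    rw [← heq, Finset.sum_image (fun k hk k' hk' e => hinj hk hk' e)] at hd4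
    have hdk : ∀ k ∈ Finset.Ico 1 4, a A k * x A + a (bf k) 4 * x (bf k) = -1 := fun k hk => by
      rw [← hdegV k (hIco k hk), hbV k hk, Finset.sum_pair (hbne k hk).symm, hbsign k hk]
    have hAsign : ∀ k ∈ Finset.Ico 1 4, a A k = a A 1 := fun k hk => by
      by_cases hk1 : k = 1
      · rw [hk1]
      rcases hmeet 1 h1I k (hIco k hk) (Ne.symm hk1) A (bf 1) (hbV 1 h1I) (hbne 1 h1I).symm with
        ⟨-, -, h'⟩ | ⟨h', -, -⟩
      · exact h'.symm
      · exact absurd (hlow k hk) h'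
    rw [Finset.sum_congr rfl (g := fun _ => -1 - a A 1 * x A) (fun k hk => by
      have := hdk k hk; rw [hAsign k hk] at this; linarith), Finset.sum_const, Nat.card_Ico] at hd4
    simp at hd4
    omega
  -- read off the star
  have hleaf : ∀ k ∈ Finset.Ico 1 h, ∃ b, b ≠ A ∧ V k = {A, b} := fun k hk =>
    hpair k hk A (hAall k (hIco k hk))
  choose! Bk hBne hBV using hleaf
  have hBmem : ∀ k ∈ Finset.Ico 1 h, ∀ j ∈ Finset.Icc 1 h, j ≠ k → Bk k ∉ V j := by
    intro k hk j hj hjk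
    rcases hmeet k hk j hj (Ne.symm hjk) A (Bk k) (hBV k hk) (hBne k hk).symm with
      ⟨-, h', -⟩ | ⟨h', -, -⟩
    · exact h'
    · exact absurd (hAall j hj) h'
  have hAe : ∀ j ∈ Finset.Icc 1 h, a A j = a A 1 := by
    intro j hj
    by_cases hj1 : j = 1
    · rw [hj1]
    rcases hmeet 1 h1I j hj (Ne.symm hj1) A (Bk 1) (hBV 1 h1I) (hBne 1 h1I).symm with
      ⟨-, -, h'⟩ | ⟨h', -, -⟩
    · exact h'.symm
    · exact absurd (hAall j hj) h'
  obtain ⟨C, D, hCD, hCDe⟩ : ∃ C D, C ≠ D ∧ (V h).erase A = {C, D} := by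
    refine Finset.card_eq_two.1 ?_
    have hc := hcard h hhI
    rw [if_pos rfl] at hc
    have hc' : (V h).card = 3 := by exact_mod_cast hc
    rw [Finset.card_erase_of_mem (hAall h hhI), hc']
  have hmemh : ∀ X, X ∈ ({C, D} : Finset B) ↔ X ≠ A ∧ X ∈ V h := fun X => by
    rw [← hCDe, Finset.mem_erase]
  obtain ⟨hCA, hCh⟩ := (hmemh C).1 (by simp)
  obtain ⟨hDA, hDh⟩ := (hmemh D).1 (by simp)
  have hnotlow : ∀ X ∈ V h, X ≠ A → ∀ j ∈ Finset.Ico 1 h, X ∉ V j := by
    intro X hX hXA j hj hXj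
    have : X = Bk j := by
      rw [hBV j hj] at hXj
      simp only [Finset.mem_insert, Finset.mem_singleton] at hXj
      exact hXj.resolve_left hXA
    exact hBmem j hj h hhI (by simp only [Finset.mem_Ico] at hj; omega) (this ▸ hX)
  have hzero : ∀ X ∈ s.erase p, ∀ j, X ∉ V j → a X j = 0 := fun X hX j hn => by
    by_contra h0; exact hn ((hmV X j).2 ⟨hX, h0⟩)
  have hVs : ∀ X j, X ∈ V j → X ≠ p ∧ X ∈ s := fun X j hX => Finset.mem_erase.1 ((hmV X j).1 hX).1
  have hBself : ∀ k ∈ Finset.Ico 1 h, Bk k ∈ V k := fun k hk => by simp [hBV k hk]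
  refine ⟨A, C, D, Bk, a A 1, a C h, a D h, fun k => a (Bk k) k,
    ⟨(hVs A h (hAall h hhI)).1, (hVs C h hCh).1, (hVs D h hDh).1, hCA.symm, hDA.symm, hCD⟩,
    fun k hk => ⟨(hVs _ k (hBself k hk)).1, hBne k hk,
      fun e => hnotlow C hCh hCA k hk (e ▸ hBself k hk),
      fun e => hnotlow D hDh hDA k hk (e ▸ hBself k hk)⟩, ?_, ?_,
    ⟨hsign 1 (hIco 1 h1I) A hA1, hsign h hhI C hCh, hsign h hhI D hDh,
      fun k hk => hsign k (hIco k hk) _ (hBself k hk)⟩, ?_, ?_⟩
  · intro k hk k' hk' e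
    rw [Finset.mem_coe] at hk hk'
    by_contra hne
    exact hBmem k hk k' (hIco k' hk') (Ne.symm hne) (e ▸ hBself k' hk')
  · ext χ
    simp only [Finset.mem_insert, Finset.mem_image]
    constructor
    · intro hχ
      by_cases hχp : χ = p
      · exact Or.inl hχp
      obtain ⟨j, hj, hne⟩ := hcover χ hχ
      have hχV : χ ∈ V j := (hmV χ j).2 ⟨Finset.mem_erase.2 ⟨hχp, hχ⟩, hne⟩
      by_cases hjh : j = h
      · subst hjh
        by_cases hχA : χ = A
        · exact Or.inr (Or.inl hχA)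
        have : χ ∈ ({C, D} : Finset B) := (hmemh χ).2 ⟨hχA, hχV⟩
        simp only [Finset.mem_insert, Finset.mem_singleton] at this
        tauto
      · have hj' : j ∈ Finset.Ico 1 h := by
          simp only [Finset.mem_Icc] at hj; simp only [Finset.mem_Ico]; omega
        rw [hBV j hj'] at hχV
        simp only [Finset.mem_insert, Finset.mem_singleton] at hχV
        rcases hχV with e | e
        · exact Or.inr (Or.inl e)
        · exact Or.inr (Or.inr (Or.inr (Or.inr ⟨j, hj', e.symm⟩)))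
    · rintro (rfl | rfl | rfl | rfl | ⟨k, hk, rfl⟩)
      · exact hp
      · exact (hVs _ 1 hA1).2
      · exact (hVs _ h hCh).2
      · exact (hVs _ h hDh).2
      · exact (hVs _ k (hBself k hk)).2
  · intro j hj
    refine ⟨hAe j hj, ?_, ?_, fun k hk => ?_⟩
    · split_ifs with hjh
      · rw [hjh]
      · exact hzero C ((hmV C h).1 hCh).1 j (hnotlow C hCh hCA j
          (by simp only [Finset.mem_Icc] at hj; simp only [Finset.mem_Ico]; omega))
    · split_ifs with hjh
      · rw [hjh]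
      · exact hzero D ((hmV D h).1 hDh).1 j (hnotlow D hDh hDA j
          (by simp only [Finset.mem_Icc] at hj; simp only [Finset.mem_Ico]; omega))
    · split_ifs with hjk
      · rw [hjk]
      · exact hzero _ ((hmV _ k).1 (hBself k hk)).1 j (hBmem k hk j hj hjk)
  · intro k hk
    have := hdegV k (hIco k hk)
    rw [hBV k hk, Finset.sum_pair (hBne k hk).symm, hAe k (hIco k hk)] at this
    linarith

end CfsgLib.Invol.DihLattice
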