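import Cfsg.Agent.Lib.Invol.DihedralColumns
import Cfsg.Agent.Lib.Invol.DihedralLattice
import Mathlib.RingTheory.RootsOfUnity.PrimitiveRoots
import Mathlib.Algebra.Ring.GeomSum

/-!
# The principal 2-block of a group with dihedral Sylow 2-subgroups
-/

set_option autoImplicit false

open scoped ComplexConjugate

namespace CfsgLib.Invol.DihBlock

universe u

/-- The sum of the powers of a root of unity. -/
theorem sum_pow_root {w : ℂ} {q : ℕ} (hw : w ^ q = 1) [Decidable (w = 1)] :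
    ∑ l ∈ Finset.range q, w ^ l = if w = 1 then (q : ℂ) else 0 := by
  split_ifs with h
  · simp [h]
  · rw [geom_sum_eq h, hw, sub_self, zero_div]

theorem sum_prim {ζ : ℂ} {q : ℕ} (hζ : IsPrimitiveRoot ζ q) (n : ℕ) :
    ∑ l ∈ Finset.range q, ζ ^ (n * l) = if q ∣ n then (q : ℂ) else 0 := by
  classical
  simp only [pow_mul]
  rw [sum_pow_root (by rw [← pow_mul, mul_comm, pow_mul, hζ.pow_eq_one, one_pow])]
  exact if_congr (hζ.pow_eq_one_iff_dvd n) rfl rfl

/-- Folding a sum over `range (2 h)`. -/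
theorem sum_fold {R : Type*} [AddCommMonoid R] (F : ℕ → R) {h : ℕ} (hh : 0 < h) :
    ∑ j ∈ Finset.range (2 * h), F j =
      F 0 + ∑ j ∈ Finset.Ico 1 h, (F j + F (2 * h - j)) + F h := by
  classical
  have hset : Finset.range (2 * h) =
      insert 0 (insert h (Finset.Ico 1 h ∪ (Finset.Ico 1 h).image fun j => 2 * h - j)) := by
    ext x
    simp only [Finset.mem_range, Finset.mem_insert, Finset.mem_union, Finset.mem_Ico, Finset.mem_image]
    constructor
    · intro hx
      rcases Nat.lt_trichotomy x h with h1 | h1 | h1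
      · rcases Nat.eq_zero_or_pos x with h0 | h0
        · exact Or.inl h0
        · exact Or.inr (Or.inr (Or.inl ⟨h0, h1⟩))
      · exact Or.inr (Or.inl h1)
      · exact Or.inr (Or.inr (Or.inr ⟨2 * h - x, ⟨by omega, by omega⟩, by omega⟩))
    · rintro (h1 | h1 | h1 | ⟨j, h1, h2⟩) <;> omega
  rw [hset, Finset.sum_insert, Finset.sum_insert, Finset.sum_union, Finset.sum_image,
    Finset.sum_add_distrib]
  · abel
  · intro a ha b hb e
    simp only [Finset.coe_Ico, Set.mem_Ico] at ha hb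
    simp only at e
    omega
  · rw [Finset.disjoint_left]
    intro x hx hx'
    simp only [Finset.mem_image, Finset.mem_Ico] at hx hx'
    obtain ⟨j, hj, rfl⟩ := hx'
    omega
  · simp only [Finset.mem_union, Finset.mem_Ico, Finset.mem_image, not_or, not_exists]
    exact ⟨by omega, fun j hj => by omega⟩
  · simp only [Finset.mem_insert, Finset.mem_union, Finset.mem_Ico, Finset.mem_image, not_or,
      not_exists]
    exact ⟨by omega, by omega, fun j hj => by omega⟩

open DihPairs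

variable {G : Type u} [Group G] [Finite G] {P : Sylow 2 G} {σ τ : G} {h : ℕ}

theorem exists_coeff (d : DihData P σ τ h) {ζ : ℂ} (hζ : IsPrimitiveRoot ζ (2 * h))
    (χ : Cfsg.IrrCharacter G) (j : ℕ) :
    ∃ n : ℤ, ∑ l ∈ Finset.range (2 * h), (χ : G → ℂ) (σ ^ l) * (1 - ζ ^ (j * l)) =
      (2 * h : ℂ) * n := by
  classical
  cases nonempty_fintype G
  obtain ⟨k, ρ, hρ, hχ⟩ := χ.2
  obtain ⟨μ, hμ, -, -, hpow⟩ := CfsgLib.Char.exists_eigenvalues ρ σ
  rw [d.ord] at hμ
  refine ⟨∑ i, ((if μ i = 1 then 1 else 0) - if μ i * ζ ^ j = 1 then 1 else 0), ?_⟩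
  have hw : ∀ i, (μ i * ζ ^ j) ^ (2 * h) = 1 := fun i => by
    rw [mul_pow, hμ, one_mul, ← pow_mul, mul_comm, pow_mul, hζ.pow_eq_one, one_pow]
  rw [← hχ]
  simp only [hpow, Finset.sum_mul]
  rw [Finset.sum_comm]
  simp only [mul_sub, mul_one, pow_mul, ← mul_pow, Finset.sum_sub_distrib, sum_pow_root (hμ _),
    sum_pow_root (hw _)]
  push_cast
  simp only [mul_sub, Finset.mul_sum, mul_ite, mul_one, mul_zero]

variable {M : Ideal Cfsg.AlgInt}

/-- **The structure of the principal block.** -/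
theorem block_structure (hM : Cfsg.IsPModular 2 M) (d : DihData P σ τ h) {b : ℕ}
    (hb : h = 2 ^ b) (h2 : 2 ≤ h) {ζ : ℂ} (hζ : IsPrimitiveRoot ζ (2 * h)) :
    ∃ (A C D : Cfsg.IrrCharacter G) (Bk : ℕ → Cfsg.IrrCharacter G) (e f g : ℤ),
      ((e = 1 ∨ e = -1) ∧ (f = 1 ∨ f = -1) ∧ (g = 1 ∨ g = -1)) ∧
      (A ≠ CfsgLib.Char.principalIrr ∧ C ≠ CfsgLib.Char.principalIrr ∧
        D ≠ CfsgLib.Char.principalIrr ∧ A ≠ C ∧ A ≠ D ∧ C ≠ D) ∧
      (∀ k ∈ Finset.Ico 1 h, Bk k ≠ CfsgLib.Char.principalIrr ∧ Bk k ≠ A ∧ Bk k ≠ C ∧ Bk k ≠ D) ∧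
      Set.InjOn Bk (Finset.Ico 1 h : Set ℕ) ∧
      (∀ χ, χ ∈ Cfsg.principalBlock M G ↔ χ = CfsgLib.Char.principalIrr ∨ χ = A ∨ χ = C ∨ χ = D ∨
        ∃ k ∈ Finset.Ico 1 h, Bk k = χ) ∧
      (∀ F : Cfsg.IrrCharacter G → ℂ, ∑ χ ∈ BlockCol.pBlock M G, F χ =
        F CfsgLib.Char.principalIrr + F A + F C + F D + ∑ k ∈ Finset.Ico 1 h, F (Bk k)) ∧
      (∀ l, 0 < l → l < 2 * h → (A : G → ℂ) (σ ^ l) = e ∧
        (C : G → ℂ) (σ ^ l) = f * (-1) ^ (l + 1) ∧ (D : G → ℂ) (σ ^ l) = g * (-1) ^ (l + 1) ∧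
        ∀ k ∈ Finset.Ico 1 h,
          (Bk k : G → ℂ) (σ ^ l) = e * (ζ ^ (k * l) + (ζ ^ (k * l))⁻¹)) ∧
      ∀ ρ : G, ¬ 2 ∣ orderOf ρ →
        1 + e * (A : G → ℂ) ρ = -f * (C : G → ℂ) ρ - g * (D : G → ℂ) ρ ∧
        ∀ k ∈ Finset.Ico 1 h, 1 + e * (A : G → ℂ) ρ = e * (Bk k : G → ℂ) ρ := by
  classical
  have : Fact (Nat.Prime 2) := ⟨Nat.prime_two⟩
  cases nonempty_fintype G
  haveI := hM.2.1
  set s := BlockCol.pBlock M G with hs
  have hp : CfsgLib.Char.principalIrr ∈ s :=
    BlockCol.mem_pBlock.2 CfsgLib.Blocks.principalIrr_mem_principalBlock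
  choose a ha using exists_coeff d hζ
  have hq : (2 * (h : ℂ)) ≠ 0 := mul_ne_zero two_ne_zero (Nat.cast_ne_zero.2 (by omega))
  have hS : ∀ n, ∑ l ∈ Finset.range (2 * h), ζ ^ (n * l) =
      if 2 * h ∣ n then (2 * h : ℂ) else 0 := fun n => by
    rw [sum_prim hζ]; push_cast; rfl
  have hndvd : ∀ n, 0 < n → n < 2 * h → ¬ 2 * h ∣ n := fun n h0 h1 hd => by
    have := Nat.le_of_dvd h0 hd; omega
  have hone : ∀ n, ζ ^ (n * (2 * h)) = 1 := fun n => by
    rw [mul_comm, pow_mul, hζ.pow_eq_one, one_pow]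
  have hneg : ∀ k l, k ≤ 2 * h → ζ ^ ((2 * h - k) * l) = (ζ ^ (k * l))⁻¹ := fun k l hk => by
    refine eq_inv_of_mul_eq_one_left ?_
    rw [← pow_add, ← Nat.add_mul, Nat.sub_add_cancel hk, mul_comm, hone]
  have hneg' : ∀ k l, l ≤ 2 * h → ζ ^ (k * (2 * h - l)) = (ζ ^ (k * l))⁻¹ := fun k l hl => by
    refine eq_inv_of_mul_eq_one_left ?_
    rw [← pow_add, ← Nat.mul_add, Nat.sub_add_cancel hl, hone]
  have hhalf : ζ ^ h = -1 :=
    ((hζ.pow (by omega) (mul_comm 2 h : 2 * h = h * 2)).eq_neg_one_of_two_right)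
  -- the principal character
  have hap : ∀ j ∈ Finset.Icc 1 h, a CfsgLib.Char.principalIrr j = 1 := fun j hj => by
    have h1 := ha CfsgLib.Char.principalIrr j
    simp only [CfsgLib.Char.principalIrr_apply, one_mul, Finset.sum_sub_distrib, hS,
      Finset.sum_const, Finset.card_range, nsmul_eq_mul, mul_one] at h1
    simp only [Finset.mem_Icc] at hj
    rw [if_neg (hndvd j (by omega) (by omega)), sub_zero] at h1
    push_cast at h1
    have h2 : ((a CfsgLib.Char.principalIrr j : ℤ) : ℂ) = ((1 : ℤ) : ℂ) :=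
      mul_left_cancel₀ hq (by rw [← h1, Int.cast_one, mul_one])
    exact_mod_cast h2
  -- products
  have hinner : ∀ j ∈ Finset.Icc 1 h, ∀ k ∈ Finset.Icc 1 h, ∑ χ ∈ s, a χ j * a χ k =
      2 + (if j = k then 1 else 0) + (if j = h ∧ k = h then 1 else 0) := by
    intro j hj k hk
    simp only [Finset.mem_Icc] at hj hk
    have e1 : ((∑ χ ∈ s, a χ j * a χ k : ℤ) : ℂ) * (2 * h * (2 * h)) =
        ∑ l ∈ Finset.range (2 * h), (1 - ζ ^ (j * l)) *
          ∑ m ∈ Finset.range (2 * h), (1 - ζ ^ (k * m)) *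
            ∑ χ ∈ s, (χ : G → ℂ) (σ ^ l) * (χ : G → ℂ) (σ ^ m) := by
      rw [Int.cast_sum, Finset.sum_mul]
      rw [Finset.sum_congr rfl fun χ _ => show ((a χ j * a χ k : ℤ) : ℂ) * (2 * h * (2 * h)) =
          (∑ l ∈ Finset.range (2 * h), (χ : G → ℂ) (σ ^ l) * (1 - ζ ^ (j * l))) *
            ∑ m ∈ Finset.range (2 * h), (χ : G → ℂ) (σ ^ m) * (1 - ζ ^ (k * m)) by
        rw [ha, ha]; push_cast; ring]
      simp only [Finset.sum_mul, Finset.mul_sum]
      rw [Finset.sum_comm]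
      conv_rhs => rw [Finset.sum_comm]
      refine Finset.sum_congr rfl fun l _ => ?_
      rw [Finset.sum_comm]
      exact Finset.sum_congr rfl fun m _ => Finset.sum_congr rfl fun χ _ => by ring
    have e2 : ∀ l ∈ Finset.range (2 * h), (1 - ζ ^ (j * l)) *
        ∑ m ∈ Finset.range (2 * h), (1 - ζ ^ (k * m)) *
          ∑ χ ∈ s, (χ : G → ℂ) (σ ^ l) * (χ : G → ℂ) (σ ^ m) =
        (2 * h) * (2 - ζ ^ (k * l) - ζ ^ ((2 * h - k) * l) - 2 * ζ ^ (j * l) +
          ζ ^ ((j + k) * l) + ζ ^ ((j + (2 * h - k)) * l)) := by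
      intro l hl
      rw [Finset.mem_range] at hl
      rcases Nat.eq_zero_or_pos l with rfl | hl0
      · simp only [mul_zero, pow_zero, sub_self, zero_mul]; ring
      rw [Finset.sum_congr rfl (g := fun m => (2 * h : ℂ) * ((if m = l then 1 - ζ ^ (k * m) else 0) +
        (if m + l = 2 * h then 1 - ζ ^ (k * m) else 0))) (fun m hm => ?_)]
      · rw [← Finset.mul_sum, Finset.sum_add_distrib, Finset.sum_ite_eq' (Finset.range (2 * h)) l,
          if_pos (Finset.mem_range.2 hl),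
          Finset.sum_congr rfl (g := fun m => if m = 2 * h - l then 1 - ζ ^ (k * m) else 0)
            (fun m _ => if_congr (by omega) rfl rfl),
          Finset.sum_ite_eq' (Finset.range (2 * h)) (2 * h - l),
          if_pos (Finset.mem_range.2 (by omega)), hneg' k l hl.le, hneg k l (by omega), Nat.add_mul,
          Nat.add_mul, pow_add, pow_add, hneg k l (by omega)]
        ring
      · rw [Finset.mem_range] at hm
        rcases Nat.eq_zero_or_pos m with rfl | hm0
        · rw [if_neg (by omega), if_neg (by omega), mul_zero, pow_zero, sub_self, zero_mul,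
            add_zero, mul_zero]
        rw [column_mul hM d h2 hb hl0 hl hm0 hm]
        split_ifs <;> ring
    rw [Finset.sum_congr rfl e2, ← Finset.mul_sum] at e1
    simp only [Finset.sum_add_distrib, Finset.sum_sub_distrib, ← Finset.mul_sum, hS,
      Finset.sum_const, Finset.card_range, nsmul_eq_mul] at e1
    rw [if_neg (hndvd k (by omega) (by omega)), if_neg (hndvd (2 * h - k) (by omega) (by omega)),
      if_neg (hndvd j (by omega) (by omega))] at e1
    have hd1 : (2 * h ∣ j + k) ↔ (j = h ∧ k = h) := by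
      refine ⟨fun hd => ?_, fun ⟨e1, e2⟩ => by rw [e1, e2]; exact ⟨1, by ring⟩⟩
      have := Nat.le_of_dvd (by omega) hd
      omega
    have hd2 : (2 * h ∣ j + (2 * h - k)) ↔ j = k := by
      refine ⟨fun hd => ?_, fun e => ⟨1, by omega⟩⟩
      obtain ⟨q, hq⟩ := hd
      have : q < 2 := by
        by_contra hc
        have : 2 * h * 2 ≤ 2 * h * q := Nat.mul_le_mul_left _ (by omega)
        omega
      interval_cases q <;> omega
    simp only [hd1, hd2] at e1
    have e3 : ((∑ χ ∈ s, a χ j * a χ k : ℤ) : ℂ) = ((2 + (if j = k then 1 else 0) +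
        (if j = h ∧ k = h then 1 else 0) : ℤ) : ℂ) := by
      refine mul_right_cancel₀ (mul_ne_zero hq hq) ?_
      rw [e1]
      split_ifs <;> push_cast <;> ring
    exact_mod_cast e3
  -- values from coefficients
  have hsymm : ∀ χ : Cfsg.IrrCharacter G, ∀ j, j ≤ 2 * h → a χ (2 * h - j) = a χ j := by
    intro χ j hj
    have e : ((a χ (2 * h - j) : ℤ) : ℂ) = ((a χ j : ℤ) : ℂ) := by
      refine mul_left_cancel₀ hq ?_
      rw [← ha, ← ha, sum_fold _ (by omega : 0 < h), sum_fold _ (by omega : 0 < h)]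
      have e0 : (χ : G → ℂ) (σ ^ h) * (1 - ζ ^ ((2 * h - j) * h)) =
          (χ : G → ℂ) (σ ^ h) * (1 - ζ ^ (j * h)) := by
        rw [hneg j h hj, mul_comm j h, pow_mul, hhalf]
        rcases neg_one_pow_eq_or ℂ j with e | e <;> rw [e] <;> norm_num
      rw [e0]
      simp only [mul_zero, pow_zero, sub_self, zero_add]
      congr 1
      refine Finset.sum_congr rfl fun l hl => ?_
      rw [Finset.mem_Ico] at hl
      rw [apply_neg d χ (by omega : l ≤ 2 * h), hneg j l hj, hneg j (2 * h - l) hj,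
        hneg' j l (by omega), inv_inv]
      ring
    exact_mod_cast e
  have hval : ∀ (χ : Cfsg.IrrCharacter G) (l : ℕ), 0 < l → l < 2 * h → (χ : G → ℂ) (σ ^ l) =
      -(∑ k ∈ Finset.Ico 1 h, (a χ k : ℂ) * (ζ ^ (k * l) + (ζ ^ (k * l))⁻¹) +
        (a χ h : ℂ) * (-1) ^ l) := by
    intro χ l hl0 hl
    have hfull : ∑ j ∈ Finset.range (2 * h), (a χ j : ℂ) * ζ ^ (j * l) = -(χ : G → ℂ) (σ ^ l) := by
      refine mul_left_cancel₀ hq ?_
      rw [Finset.mul_sum]
      rw [Finset.sum_congr rfl fun j _ => show (2 * h : ℂ) * ((a χ j : ℂ) * ζ ^ (j * l)) =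
          ∑ m ∈ Finset.range (2 * h), (χ : G → ℂ) (σ ^ m) * (ζ ^ (j * l) - ζ ^ (j * (m + l))) by
        rw [← mul_assoc, ← ha, Finset.sum_mul]
        exact Finset.sum_congr rfl fun m _ => by rw [Nat.mul_add, pow_add]; ring]
      rw [Finset.sum_comm]
      simp only [← Finset.mul_sum, Finset.sum_sub_distrib, fun n : ℕ => show
          ∑ j ∈ Finset.range (2 * h), ζ ^ (j * n) = if 2 * h ∣ n then (2 * h : ℂ) else 0 by
        rw [← hS n]; exact Finset.sum_congr rfl fun j _ => by rw [mul_comm]]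
      rw [if_neg (hndvd l hl0 hl), Finset.sum_eq_single (2 * h - l)]
      · rw [if_pos ⟨1, by omega⟩, apply_neg d χ hl.le]; ring
      · intro m hm hne
        rw [Finset.mem_range] at hm
        rw [if_neg, sub_zero, mul_zero]
        rintro ⟨q, hq⟩
        have : q < 2 := by
          by_contra hc
          have : 2 * h * 2 ≤ 2 * h * q := Nat.mul_le_mul_left _ (by omega)
          omega
        interval_cases q <;> omega
      · intro hn; rw [Finset.mem_range] at hn; omega
    have h0 : (a χ 0 : ℂ) = 0 := by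
      have h1 := ha χ 0
      simp only [zero_mul, pow_zero, sub_self, mul_zero, Finset.sum_const_zero] at h1
      exact (mul_eq_zero.1 h1.symm).resolve_left hq
    rw [sum_fold _ (by omega : 0 < h), h0, zero_mul, zero_add, mul_comm h l, pow_mul,
      ← pow_mul, mul_comm l h, pow_mul, hhalf] at hfull
    rw [← neg_eq_iff_eq_neg, ← hfull]
    congr 1
    refine Finset.sum_congr rfl fun k hk => ?_
    rw [Finset.mem_Ico] at hk
    rw [hsymm χ k (by omega), hneg k l (by omega)]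
    ring
  -- orthogonality to the regular columns
  have hreg : ∀ ρ : G, ¬ 2 ∣ orderOf ρ → ∀ j, ∑ χ ∈ s, (a χ j : ℂ) * (χ : G → ℂ) ρ = 0 := by
    intro ρ hρ j
    refine mul_left_cancel₀ hq ?_
    rw [mul_zero, Finset.mul_sum, Finset.sum_congr rfl fun χ _ => show
      (2 * h : ℂ) * ((a χ j : ℂ) * (χ : G → ℂ) ρ) = ∑ l ∈ Finset.range (2 * h),
        (1 - ζ ^ (j * l)) * ((χ : G → ℂ) ρ * (χ : G → ℂ) (σ ^ l)) by
      rw [← mul_assoc, ← ha, Finset.sum_mul]
      exact Finset.sum_congr rfl fun l _ => by ring]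
    rw [Finset.sum_comm]
    refine Finset.sum_eq_zero fun l hl => ?_
    rw [← Finset.mul_sum]
    rcases Nat.eq_zero_or_pos l with rfl | hl0
    · rw [mul_zero, pow_zero, sub_self, zero_mul]
    · rw [column_regular hM d hb hl0 (Finset.mem_range.1 hl) hρ, mul_zero]
  have h1reg : ¬ 2 ∣ orderOf (1 : G) := by rw [orderOf_one]; norm_num
  set x : Cfsg.IrrCharacter G → ℤ := fun χ => (Cfsg.charDegree (χ : G → ℂ) : ℤ) with hx
  have hxp : x CfsgLib.Char.principalIrr = 1 := by
    simp [hx, Cfsg.charDegree, CfsgLib.Char.principalIrr_apply]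
  have hdeg : ∀ j ∈ Finset.Icc 1 h, ∑ χ ∈ s, a χ j * x χ = 0 := fun j _ => by
    have h0 := hreg 1 h1reg j
    simp only [CfsgLib.Blk83.one_eq] at h0
    have : ((∑ χ ∈ s, a χ j * x χ : ℤ) : ℂ) = 0 := by
      rw [← h0]; push_cast [hx]; rfl
    exact_mod_cast this
  have hcover : ∀ χ ∈ s, ∃ j ∈ Finset.Icc 1 h, a χ j ≠ 0 := by
    intro χ hχ
    by_contra! hc
    refine apply_J_ne_zero hM d hχ ?_
    rw [hval χ h (by omega) (by omega), Finset.sum_eq_zero (fun k hk => ?_),
      hc h (by simp only [Finset.mem_Icc]; omega)]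
    · simp
    · rw [Finset.mem_Ico] at hk
      rw [hc k (by simp only [Finset.mem_Icc]; omega), Int.cast_zero, zero_mul]
  have hh : h = 2 ∨ 4 ≤ h := by
    rcases b with _ | _ | b
    · rw [pow_zero] at hb; omega
    · left; rw [hb]; norm_num
    · right
      rw [hb, pow_succ, pow_succ]
      have : 1 ≤ 2 ^ b := Nat.one_le_two_pow
      omega
  obtain ⟨A, C, D, Bk, e, f, g, eb, hdist, hBdist, hinj, hset, ⟨he, hf, hg, heb⟩, hav, hrel⟩ :=
    DihLattice.classify s _ hp h hh a hap hinner hcover x hxp hdeg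
  have hIco : ∀ k, k ∈ Finset.Ico 1 h → k ∈ Finset.Icc 1 h := fun k hk => by
    simp only [Finset.mem_Ico] at hk; simp only [Finset.mem_Icc]; omega
  have hhI : h ∈ Finset.Icc 1 h := by simp only [Finset.mem_Icc]; omega
  have hebe : ∀ k ∈ Finset.Ico 1 h, eb k = -e := fun k hk => by
    have h1 := hrel k hk
    have hA : 0 < x A := Int.natCast_pos.2 (CfsgLib.Blk83.deg_pos A)
    have hB : 0 < x (Bk k) := Int.natCast_pos.2 (CfsgLib.Blk83.deg_pos (Bk k))
    rcases he with rfl | rfl <;> rcases heb k hk with h3 | h3 <;> rw [h3] at h1 ⊢ <;> omega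
  have hsum : ∀ F : Cfsg.IrrCharacter G → ℂ, ∑ χ ∈ s, F χ =
      F CfsgLib.Char.principalIrr + F A + F C + F D + ∑ k ∈ Finset.Ico 1 h, F (Bk k) := by
    intro F
    obtain ⟨hAp, hCp, hDp, hAC, hAD, hCD⟩ := hdist
    rw [hset, Finset.sum_insert, Finset.sum_insert, Finset.sum_insert, Finset.sum_insert,
      Finset.sum_image hinj]
    · ring
    · simp only [Finset.mem_image, not_exists]
      exact fun k hk => (hBdist k hk.1).2.2.2 hk.2
    · simp only [Finset.mem_insert, Finset.mem_image, not_or, not_exists]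
      exact ⟨hCD, fun k hk => (hBdist k hk.1).2.2.1 hk.2⟩
    · simp only [Finset.mem_insert, Finset.mem_image, not_or, not_exists]
      exact ⟨hAC, hAD, fun k hk => (hBdist k hk.1).2.1 hk.2⟩
    · simp only [Finset.mem_insert, Finset.mem_image, not_or, not_exists]
      exact ⟨hAp.symm, hCp.symm, hDp.symm, fun k hk => (hBdist k hk.1).1 hk.2⟩
  refine ⟨A, C, D, Bk, e, f, g, ⟨he, hf, hg⟩, hdist, hBdist, hinj, fun χ => ?_, hsum, ?_, ?_⟩
  · rw [← BlockCol.mem_pBlock, ← hs, hset]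
    simp only [Finset.mem_insert, Finset.mem_image]
  · intro l hl0 hl
    have hfull : ∑ k ∈ Finset.Ico 1 h, (ζ ^ (k * l) + (ζ ^ (k * l))⁻¹) = -1 - (-1) ^ l := by
      have h0 := hS l
      rw [if_neg (hndvd l hl0 hl), sum_fold _ (by omega : 0 < h), mul_zero, pow_zero,
        mul_comm l h, pow_mul, hhalf] at h0
      rw [Finset.sum_congr rfl fun k hk => show ζ ^ (k * l) + (ζ ^ (k * l))⁻¹ =
          ζ ^ (l * k) + ζ ^ (l * (2 * h - k)) by
        rw [Finset.mem_Ico] at hk
        rw [mul_comm l k, mul_comm l (2 * h - k), hneg k l (by omega)]]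
      linear_combination h0
    refine ⟨?_, ?_, ?_, fun k hk => ?_⟩
    · rw [hval A l hl0 hl, (hav h hhI).1,
        Finset.sum_congr rfl fun k hk => by rw [(hav k (hIco k hk)).1], ← Finset.mul_sum, hfull]
      ring
    · rw [hval C l hl0 hl, (hav h hhI).2.1, if_pos rfl, Finset.sum_eq_zero fun k hk => ?_]
      · ring
      · rw [(hav k (hIco k hk)).2.1, if_neg (by simp only [Finset.mem_Ico] at hk; omega),
          Int.cast_zero, zero_mul]
    · rw [hval D l hl0 hl, (hav h hhI).2.2.1, if_pos rfl, Finset.sum_eq_zero fun k hk => ?_]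
      · ring
      · rw [(hav k (hIco k hk)).2.2.1, if_neg (by simp only [Finset.mem_Ico] at hk; omega),
          Int.cast_zero, zero_mul]
    · rw [hval (Bk k) l hl0 hl, (hav h hhI).2.2.2 k hk,
        if_neg (by simp only [Finset.mem_Ico] at hk; omega), Finset.sum_eq_single k]
      · rw [(hav k (hIco k hk)).2.2.2 k hk, if_pos rfl, hebe k hk]
        push_cast; ring
      · intro j hj hne
        rw [(hav j (hIco j hj)).2.2.2 k hk, if_neg hne, Int.cast_zero, zero_mul]
      · intro hn; exact absurd hk hn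
  · intro ρ hρ
    refine ⟨?_, fun k hk => ?_⟩
    · have h0 := hreg ρ hρ h
      rw [hsum, Finset.sum_eq_zero fun k hk => ?_, hap h hhI, (hav h hhI).1, (hav h hhI).2.1,
        (hav h hhI).2.2.1, if_pos rfl, if_pos rfl, CfsgLib.Char.principalIrr_apply] at h0
      swap
      · rw [(hav h hhI).2.2.2 k hk, if_neg (by simp only [Finset.mem_Ico] at hk; omega),
          Int.cast_zero, zero_mul]
      push_cast at h0
      linear_combination h0
    · have hkh : k ≠ h := by simp only [Finset.mem_Ico] at hk; omega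
      have h0 := hreg ρ hρ k
      rw [hsum, Finset.sum_eq_single k (fun j hj hne => by
          rw [(hav k (hIco k hk)).2.2.2 j hj, if_neg (Ne.symm hne), Int.cast_zero, zero_mul])
          (fun hn => absurd hk hn),
        hap k (hIco k hk), (hav k (hIco k hk)).1, (hav k (hIco k hk)).2.1,
        (hav k (hIco k hk)).2.2.1, (hav k (hIco k hk)).2.2.2 k hk, if_neg hkh, if_neg hkh,
        if_pos rfl, hebe k hk, CfsgLib.Char.principalIrr_apply] at h0
      push_cast at h0
      linear_combination h0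

end CfsgLib.Invol.DihBlock
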