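import Cfsg.Agent.Lib.Invol.DihedralCount

/-!
# The principal block equation for involution pairs
-/

set_option autoImplicit false

open scoped ComplexConjugate

namespace CfsgLib.Invol.DihPairs

universe u

variable {G : Type u} [Group G] [Finite G] {P : Sylow 2 G} {σ τ : G} {h : ℕ}

/-- Summing a character over `x O` projects onto the principal block. -/
theorem sum_core_coset {M : Ideal Cfsg.AlgInt} (hM : Cfsg.IsPModular 2 M) (d : DihData P σ τ h)
    {x : G} {e : ℕ} (he : x ^ e = σ ^ h) (hx : ∃ k : ℕ, orderOf x = 2 ^ k)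
    (K : Subgroup (Subgroup.centralizer ({x} : Set G))) [K.Normal] (hK : ¬ 2 ∣ Nat.card K)
    {k : ℕ} (hidx : K.index = 2 ^ k) [Fintype (core (σ ^ h))] (χ : Cfsg.IrrCharacter G)
    [Decidable (χ ∈ BlockCol.pBlock M G)] :
    ∑ o : core (σ ^ h), (χ : G → ℂ) (x * o) =
      if χ ∈ BlockCol.pBlock M G then (Nat.card (core (σ ^ h)) : ℂ) * (χ : G → ℂ) x else 0 := by
  classical
  have : Fact (Nat.Prime 2) := ⟨Nat.prime_two⟩
  cases nonempty_fintype G
  have hxC : x * σ ^ h = σ ^ h * x := by rw [← he]; exact (Commute.self_pow x e).eq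
  have hCcore : ∀ n : Subgroup.centralizer ({x} : Set G), ¬ 2 ∣ orderOf n → (n : G) ∈ (core (σ ^ h)) := by
    intro n hn
    have hnx : Commute x (n : G) := (Subgroup.mem_centralizer_singleton_iff.1 n.2).symm
    have hnJ : (n : G) * σ ^ h = σ ^ h * n := by
      rw [← he]; exact (hnx.symm.pow_right e).eq
    haveI := CfsgLib.Solvable.pPrimeCore_normal 2 (Subgroup.centralizer ({σ ^ h} : Set G))
    obtain ⟨m, hm⟩ := P.2.exists_card_eq
    refine ⟨⟨n, Subgroup.mem_centralizer_singleton_iff.2 hnJ⟩,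
      (BlockCol.regular_iff_mem _ (index_core d).2 (k := m)
        (by rw [(index_core d).1, ← d.card, hm]) _).1 ?_, rfl⟩
    rwa [Subgroup.orderOf_mk, Subgroup.orderOf_coe]
  have hKO : ∀ n : K, ((n : Subgroup.centralizer ({x} : Set G)) : G) ∈ (core (σ ^ h)) := fun n =>
    hCcore _ ((BlockCol.regular_iff_mem K hK hidx _).2 n.2)
  have hmap : ∀ q : (core (σ ^ h)) × K,
      x⁻¹ * ((q.1 : G) * (x * ((q.2 : Subgroup.centralizer ({x} : Set G)) : G)) * (q.1 : G)⁻¹) ∈ (core (σ ^ h)) := by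
    intro q
    have e1 : x⁻¹ * ((q.1 : G) * (x * ((q.2 : Subgroup.centralizer ({x} : Set G)) : G)) * (q.1 : G)⁻¹) =
        x⁻¹ * (q.1 : G) * x⁻¹⁻¹ * ((q.2 : Subgroup.centralizer ({x} : Set G)) : G) * (q.1 : G)⁻¹ := by
      group
    rw [e1]
    exact mul_mem (mul_mem (core_conj_mem ((Commute.inv_left hxC).eq) q.1.2) (hKO q.2)) (inv_mem q.1.2)
  let f : (core (σ ^ h)) × K → (core (σ ^ h)) := fun q => ⟨_, hmap q⟩
  -- a fibre has at most `|K|` points
  have hle : ∀ y : (core (σ ^ h)), (Finset.univ.filter fun q => f q = y).card ≤ Fintype.card K := by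
    intro y
    by_cases hne : (Finset.univ.filter fun q => f q = y).Nonempty
    swap
    · simp [Finset.not_nonempty_iff_eq_empty.1 hne]
    obtain ⟨q₀, hq₀⟩ := hne
    have hy₀ : f q₀ = y := (Finset.mem_filter.1 hq₀).2
    have key : ∀ q, f q = y → ∃ z : K,
        (q.1 : G) = (q₀.1 : G) * ((z : Subgroup.centralizer ({x} : Set G)) : G) ∧
        (q.2 : Subgroup.centralizer ({x} : Set G)) = z⁻¹ * q₀.2 * z := by
      intro q hq
      obtain ⟨w, hw⟩ : ∃ w, w = (q₀.1 : G)⁻¹ * q.1 := ⟨_, rfl⟩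
      set n := ((q.2 : Subgroup.centralizer ({x} : Set G)) : G) with hn
      set n₀ := ((q₀.2 : Subgroup.centralizer ({x} : Set G)) : G) with hn₀
      have e1 : (q.1 : G) * (x * n) * (q.1 : G)⁻¹ = (q₀.1 : G) * (x * n₀) * (q₀.1 : G)⁻¹ :=
        mul_left_cancel (congrArg Subtype.val (hq.trans hy₀.symm))
      have e2 : w * (x * n) * w⁻¹ = x * n₀ := by
        calc w * (x * n) * w⁻¹ = (q₀.1 : G)⁻¹ * ((q.1 : G) * (x * n) * (q.1 : G)⁻¹) * q₀.1 := by
              rw [hw]; group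
          _ = _ := by rw [e1]; group
      -- the 2-parts agree
      obtain ⟨r, hr⟩ := hx
      have hc : Commute x n := (Subgroup.mem_centralizer_singleton_iff.1 q.2.1.2).symm
      have hc₀ : Commute x n₀ := (Subgroup.mem_centralizer_singleton_iff.1 q₀.2.1.2).symm
      have hcop : (Nat.card (core (σ ^ h))).Coprime (2 ^ r) := by
        refine ((Nat.prime_two.coprime_iff_not_dvd.2 ?_).pow_left r).symm
        rw [core, Subgroup.card_map_of_injective (Subgroup.subtype_injective _)]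
        exact (index_core d).2
      obtain ⟨a, ha⟩ := exists_pow_eq_self_of_coprime (x := x) (n := Nat.card (core (σ ^ h))) (hr ▸ hcop)
      have hkill : ∀ m, m ∈ (core (σ ^ h)) → m ^ (Nat.card (core (σ ^ h)) * a) = 1 := fun m hm => by
        have h1 : m ^ Nat.card (core (σ ^ h)) = 1 := congrArg Subtype.val (pow_card_eq_one' (x := (⟨m, hm⟩ : (core (σ ^ h)))))
        rw [pow_mul, h1, one_pow]
      have hxa : x ^ (Nat.card (core (σ ^ h)) * a) = x := by rw [pow_mul, ha]
      have e3 : w * x * w⁻¹ = x := by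
        have h := congrArg (fun z : G => z ^ (Nat.card (core (σ ^ h)) * a)) e2
        simp only [conj_pow, hc.mul_pow, hc₀.mul_pow, hkill n (hKO q.2), hkill n₀ (hKO q₀.2), hxa,
          mul_one] at h
        exact h
      have hwC : w ∈ Subgroup.centralizer ({x} : Set G) :=
        Subgroup.mem_centralizer_singleton_iff.2 (mul_inv_eq_iff_eq_mul.1 e3)
      have hwO : w ∈ (core (σ ^ h)) := hw ▸ mul_mem (inv_mem q₀.1.2) q.1.2
      have hwK : (⟨w, hwC⟩ : Subgroup.centralizer ({x} : Set G)) ∈ K := by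
        refine (BlockCol.regular_iff_mem K hK hidx _).1 ?_
        rw [Subgroup.orderOf_mk]
        exact core_odd d hwO
      refine ⟨⟨_, hwK⟩, by
        show (q.1 : G) = (q₀.1 : G) * w
        rw [hw, mul_inv_cancel_left], Subtype.ext ?_⟩
      show n = w⁻¹ * n₀ * w
      have e4 : x * (w * n * w⁻¹) = x * n₀ := by
        rw [← e2, show w * (x * n) * w⁻¹ = (w * x * w⁻¹) * (w * n * w⁻¹) by group, e3]
      rw [← mul_left_cancel e4]; group
    rw [← Fintype.card_coe]
    choose z hz1 hz2 using fun q : {q // q ∈ Finset.univ.filter fun q => f q = y} =>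
      key q.1 (Finset.mem_filter.1 q.2).2
    refine Fintype.card_le_of_injective z fun q q' e => Subtype.ext (Prod.ext (Subtype.ext ?_) ?_)
    · rw [hz1, hz1, e]
    · exact Subtype.ext (by rw [hz2, hz2, e])
  have hfib : ∀ y : (core (σ ^ h)), (Finset.univ.filter fun q => f q = y).card = Fintype.card K := by
    have hsum : ∑ y : (core (σ ^ h)), (Finset.univ.filter fun q => f q = y).card = ∑ _y : (core (σ ^ h)), Fintype.card K := by
      rw [← Finset.card_eq_sum_card_fiberwise (fun q _ => Finset.mem_univ (f q)), Finset.card_univ,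
        Fintype.card_prod, Finset.sum_const, smul_eq_mul, Finset.card_univ]
    exact fun y => (Finset.sum_eq_sum_iff_of_le fun y _ => hle y).1 hsum y (Finset.mem_univ y)
  have h1 : ∑ q : (core (σ ^ h)) × K, (χ : G → ℂ) (x * (f q : G)) =
      (Fintype.card K : ℂ) * ∑ o : (core (σ ^ h)), (χ : G → ℂ) (x * o) := by
    rw [← Finset.sum_fiberwise Finset.univ f, Finset.mul_sum]
    refine Finset.sum_congr rfl fun y _ => ?_
    rw [Finset.sum_congr rfl (g := fun _ => (χ : G → ℂ) (x * (y : G)))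
      (fun q hq => by rw [(Finset.mem_filter.1 hq).2]), Finset.sum_const, hfib, nsmul_eq_mul]
  have h2 : ∑ q : (core (σ ^ h)) × K, (χ : G → ℂ) (x * (f q : G)) =
      (Fintype.card (core (σ ^ h)) : ℂ) * ∑ n : K, (χ : G → ℂ) (x * ((n : Subgroup.centralizer ({x} : Set G)) : G)) := by
    rw [Fintype.sum_prod_type, Finset.sum_congr rfl (g := fun _ : (core (σ ^ h)) =>
      ∑ n : K, (χ : G → ℂ) (x * ((n : Subgroup.centralizer ({x} : Set G)) : G))) (fun o _ => ?_),
      Finset.sum_const, Finset.card_univ, nsmul_eq_mul]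
    refine Finset.sum_congr rfl fun n _ => ?_
    simp only [f, mul_inv_cancel_left]
    exact (CfsgLib.BlockReg.char_conj_invariant χ _ _ (isConj_iff.2 ⟨(o : G), rfl⟩)).symm
  have hK0 : (Fintype.card K : ℂ) ≠ 0 := Nat.cast_ne_zero.2 Fintype.card_ne_zero
  refine mul_left_cancel₀ hK0 ?_
  refine h1.symm.trans (h2.trans ?_)
  rw [SectionAverage.sum_section_coset hM hx K hK hidx χ]
  simp only [Nat.card_eq_fintype_card]
  split_ifs <;> ring

/-- **The block equation.** -/
theorem block_equation [Fintype G] [DecidableEq G] [DecidablePred (· ∈ core (σ ^ h))]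
    {M : Ideal Cfsg.AlgInt} (hM : Cfsg.IsPModular 2 M) (d : DihData P σ τ h)
    (hone : ∀ s : G, orderOf s = 2 → IsConj (σ ^ h) s)
    {l e : ℕ} (hl : l < 2 * h) (hl0 : 0 < l) (he : σ ^ (l * e) = σ ^ h)
    (hx : ∃ k : ℕ, orderOf (σ ^ l) = 2 ^ k)
    (K : Subgroup (Subgroup.centralizer ({σ ^ l} : Set G))) [K.Normal] (hK : ¬ 2 ∣ Nat.card K)
    {k : ℕ} (hidx : K.index = 2 ^ k) :
    (Nat.card G : ℂ) * ((Nat.card (core (σ ^ h)) : ℂ) * ∑ χ ∈ BlockCol.pBlock M G,
        (χ : G → ℂ) (σ ^ h) * (χ : G → ℂ) (σ ^ h) * (χ : G → ℂ) (σ ^ l) / (χ : G → ℂ) 1) =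
      (Nat.card (Subgroup.centralizer ({σ ^ h} : Set G)) : ℂ) ^ 2 *
        ((∑ i ∈ Finset.range (2 * h), fib σ τ h (i % 2) * fib σ τ h ((i + l) % 2) : ℕ) : ℂ) := by
  classical
  rw [← card_pairs d hl hl0 he]
  set J := σ ^ h with hJ
  have hJi : J⁻¹ = J := inv_eq_self (orderOf_J d)
  haveI : Fintype (core J) := Fintype.ofFinite _
  have hsum : (Nat.card (core J) : ℂ) * ∑ χ ∈ BlockCol.pBlock M G,
      (χ : G → ℂ) J * (χ : G → ℂ) J * (χ : G → ℂ) (σ ^ l) / (χ : G → ℂ) 1 =
      ∑ o : core J, ∑ χ : Cfsg.IrrCharacter G,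
        (χ : G → ℂ) J * (χ : G → ℂ) J * (χ : G → ℂ) (σ ^ l * o) / (χ : G → ℂ) 1 := by
    rw [Finset.sum_comm]
    simp only [mul_div_right_comm, ← Finset.mul_sum]
    have hproj : ∀ χ : Cfsg.IrrCharacter G, ∑ o : core J, (χ : G → ℂ) (σ ^ l * o) =
        if χ ∈ BlockCol.pBlock M G then (Nat.card (core J) : ℂ) * (χ : G → ℂ) (σ ^ l) else 0 :=
      fun χ => sum_core_coset hM d ((pow_mul σ l e).symm.trans he) hx K hK hidx χ
    simp only [hproj]
    simp only [mul_ite, mul_zero, Finset.sum_ite_mem, Finset.univ_inter]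
    rw [Finset.mul_sum]
    exact Finset.sum_congr rfl fun χ _ => by ring
  rw [hsum, Finset.mul_sum]
  rw [Finset.sum_congr rfl fun o _ => by
    rw [Nat.card_eq_fintype_card, SectionAverage.sum_sq_mul_div hJi (σ ^ l * (o : G))]]
  -- from pairs of conjugators to pairs of involutions
  set c := Nat.card (Subgroup.centralizer ({J} : Set G)) with hc
  let U : G × G → G := fun su => (σ ^ l)⁻¹ * (su.1 * su.2)
  let F : G × G → G × G := fun ab => (ab.1 * J * ab.1⁻¹, ab.2 * J * ab.2⁻¹)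
  set S := Finset.univ.filter fun su : G × G => su.1 * su.1 = 1 ∧ su.1 ≠ 1 ∧ su.2 * su.2 = 1 ∧
    su.2 ≠ 1 ∧ U su ∈ core J with hS
  set A := Finset.univ.filter fun ab : G × G => U (F ab) ∈ core J with hA
  have hinv : ∀ a : G, a * J * a⁻¹ * (a * J * a⁻¹) = 1 ∧ a * J * a⁻¹ ≠ 1 := fun a => by
    refine ⟨mul_self_eq_one ((orderOf_conj a J).trans (orderOf_J d)), ?_⟩
    exact ne_one_of_invol ((orderOf_conj a J).trans (orderOf_J d))
  have hFS : ∀ ab ∈ A, F ab ∈ S := fun ab hab => Finset.mem_filter.2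
    ⟨Finset.mem_univ _, (hinv _).1, (hinv _).2, (hinv _).1, (hinv _).2, (Finset.mem_filter.1 hab).2⟩
  have hfibre : ∀ s : G, orderOf s = 2 →
      (Finset.univ.filter fun a : G => a * J * a⁻¹ = s).card = c := by
    intro s hs
    obtain ⟨a₀, ha₀⟩ := isConj_iff.1 (hone s hs)
    rw [← Fintype.card_subtype, ← Nat.card_eq_fintype_card, hc]
    refine Nat.card_congr (Equiv.subtypeEquiv (Equiv.mulLeft a₀⁻¹) fun a => ?_)
    rw [Equiv.coe_mulLeft, mem_centralizer_singleton_iff', ← ha₀]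
    constructor
    · intro h1
      rw [show a₀⁻¹ * a * J * (a₀⁻¹ * a)⁻¹ = a₀⁻¹ * (a * J * a⁻¹) * a₀ by group, h1]; group
    · intro h1
      conv_rhs => rw [← h1]
      group
  have hcard : A.card = c ^ 2 * S.card := by
    rw [Finset.card_eq_sum_card_fiberwise hFS, mul_comm, ← smul_eq_mul, ← Finset.sum_const]
    refine Finset.sum_congr rfl fun su hsu => ?_
    obtain ⟨-, h1, h1', h2, h2', h3⟩ := Finset.mem_filter.1 hsu
    rw [sq, ← hfibre su.1 (orderOf_eq_two h1' h1)]
    conv_rhs => arg 2; rw [hfibre su.1 (orderOf_eq_two h1' h1), ← hfibre su.2 (orderOf_eq_two h2' h2)]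
    rw [← Finset.card_product]
    congr 1
    ext ab
    simp only [hA, Finset.mem_filter, Finset.mem_univ, true_and, Finset.mem_product, F]
    constructor
    · rintro ⟨-, e⟩
      exact ⟨congrArg Prod.fst e, congrArg Prod.snd e⟩
    · rintro ⟨e1, e2⟩
      have e : (ab.1 * J * ab.1⁻¹, ab.2 * J * ab.2⁻¹) = su := Prod.ext e1 e2
      exact ⟨e ▸ h3, e⟩
  have hA' : A.card = ∑ o : core J, (Finset.univ.filter fun ab : G × G =>
      ab.1 * J * ab.1⁻¹ * (ab.2 * J * ab.2⁻¹) = σ ^ l * (o : G)).card := by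
    rw [← Finset.card_sigma]
    refine Finset.card_bij (fun ab hab => ⟨⟨U (F ab), (Finset.mem_filter.1 hab).2⟩, ab⟩) ?_ ?_ ?_
    · intro ab hab
      simp only [Finset.mem_sigma, Finset.mem_univ, true_and, Finset.mem_filter, U, F,
        mul_inv_cancel_left]
    · intro a _ b _ e
      exact (Sigma.mk.inj_iff.1 e).2.eq
    · rintro ⟨o, ab⟩ hq
      simp only [Finset.mem_sigma, Finset.mem_univ, true_and, Finset.mem_filter] at hq
      have e : U (F ab) = (o : G) := by
        simp only [U, F, hq, inv_mul_cancel_left]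
      exact ⟨ab, Finset.mem_filter.2 ⟨Finset.mem_univ _, e ▸ o.2⟩,
        Sigma.ext (Subtype.ext e) HEq.rfl⟩
  rw [← Nat.cast_sum, ← hA', hcard, Nat.cast_mul, Nat.cast_pow]
  congr!

end CfsgLib.Invol.DihPairs
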