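import Mathlib.GroupTheory.PGroup
import Mathlib.GroupTheory.GroupAction.ConjAct
import Mathlib.GroupTheory.SpecificGroups.Cyclic
import Mathlib.Data.SetLike.Fintype
import Mathlib.Data.Set.Card
import Mathlib.Tactic.Group
import Mathlib.RingTheory.Coprime.Lemmas
import Cfsg.Agent.Lib.Invol.Dihedral

/-!
# Normal four-groups in 2-groups of rank at least three
-/

set_option autoImplicit false

namespace CfsgLib.Invol

variable {S : Type*} [Group S] [Finite S]

theorem exists_mem_center_ne_one {p : ℕ} [hp : Fact p.Prime] (hS : IsPGroup p S) (N : Subgroup S)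
    [N.Normal] (hN : N ≠ ⊥) : ∃ z ∈ N, z ∈ Subgroup.center S ∧ z ≠ 1 := by
  have hdvd : p ∣ Nat.card N := by
    obtain ⟨k, hk⟩ := (hS.to_subgroup N).exists_card_eq
    have h1 : 1 < Nat.card N := N.one_lt_card_iff_ne_bot.2 hN
    rw [hk] at h1 ⊢
    rcases Nat.eq_zero_or_pos k with rfl | hpos
    · simp at h1
    · exact dvd_pow_self p hpos.ne'
  obtain ⟨b, hb, hb1⟩ := (hS.of_equiv ConjAct.toConjAct).exists_fixed_point_of_prime_dvd_card_of_fixed_point
    N hdvd (a := 1) (fun g => smul_one g)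
  refine ⟨b, b.2, Subgroup.mem_center_iff.2 fun g => ?_,
    fun h => hb1 (Subtype.ext h.symm)⟩
  have h := congrArg Subtype.val (hb (ConjAct.toConjAct g))
  change g * (b : S) * g⁻¹ = b at h
  rw [mul_inv_eq_iff_eq_mul] at h
  exact h

/-- Central elements of a quotient give elements commuting modulo the normal subgroup. -/
theorem exists_mem_commutator_le {p : ℕ} [Fact p.Prime] (hS : IsPGroup p S) (M V : Subgroup S)
    [M.Normal] [V.Normal] (hVM : ¬ V ≤ M) :
    ∃ w ∈ V, w ∉ M ∧ ∀ g : S, g * w * g⁻¹ * w⁻¹ ∈ M := by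
  have hn : (V.map (QuotientGroup.mk' M)).Normal :=
    Subgroup.Normal.map inferInstance _ (QuotientGroup.mk'_surjective M)
  obtain ⟨q, hqV, hqZ, hq1⟩ := exists_mem_center_ne_one (hS.to_quotient M)
    (V.map (QuotientGroup.mk' M)) (by
      rw [Ne, Subgroup.map_eq_bot_iff, QuotientGroup.ker_mk']
      exact hVM)
  obtain ⟨w, hwV, rfl⟩ := hqV
  refine ⟨w, hwV, fun h => hq1 ((QuotientGroup.eq_one_iff w).2 h), fun g => ?_⟩
  rw [← QuotientGroup.eq_one_iff]
  simp only [QuotientGroup.mk_mul, QuotientGroup.mk_inv]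
  have h := Subgroup.mem_center_iff.1 hqZ (g : S ⧸ M)
  simp only [QuotientGroup.mk'_apply] at h
  rw [h, mul_inv_cancel_right, mul_inv_cancel]

/-- A maximal normal abelian subgroup of a `p`-group contains its centraliser. -/
theorem exists_selfCentralizing_normal_abelian {p : ℕ} [Fact p.Prime] (hS : IsPGroup p S) :
    ∃ A : Subgroup S, A.Normal ∧ IsMulCommutative A ∧
      Subgroup.centralizer (A : Set S) ≤ A := by
  obtain ⟨A, ⟨hAn, hAc⟩, hmax⟩ := (Set.toFinite {A : Subgroup S | A.Normal ∧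
      IsMulCommutative A}).exists_maximal ⟨⊥, inferInstance, inferInstance⟩
  refine ⟨A, hAn, hAc, ?_⟩
  by_contra hle
  haveI := hAn
  haveI : (Subgroup.centralizer (A : Set S)).Normal := Subgroup.normal_centralizer
  obtain ⟨c, hcC, hcA, hcomm⟩ := exists_mem_commutator_le hS A (Subgroup.centralizer (A : Set S)) hle
  have hgen : ∀ g : S, g * c * g⁻¹ ∈ A ⊔ Subgroup.zpowers c := fun g => by
    rw [← inv_mul_cancel_right (g * c * g⁻¹) c]
    exact mul_mem (Subgroup.mem_sup_left (hcomm g))
      (Subgroup.mem_sup_right (Subgroup.mem_zpowers c))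
  have hcm : IsMulCommutative ↥(A ⊔ Subgroup.zpowers c) := by
    rw [Subgroup.le_centralizer_iff_isMulCommutative.symm]
    have h1 : A ≤ Subgroup.centralizer (A : Set S) := Subgroup.le_centralizer_iff_isMulCommutative.2 hAc
    refine sup_le ?_ ?_ <;> rw [Subgroup.le_centralizer_iff]
    · exact sup_le h1 (Subgroup.zpowers_le.2 hcC)
    · refine sup_le ?_ ?_
      · rw [Subgroup.le_centralizer_iff]
        exact Subgroup.zpowers_le.2 hcC
      · exact Subgroup.le_centralizer_iff_isMulCommutative.2 inferInstance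
  have hnorm : (A ⊔ Subgroup.zpowers c).Normal := by
    refine ⟨fun n hn g => ?_⟩
    have hle' : A ⊔ Subgroup.zpowers c ≤ (A ⊔ Subgroup.zpowers c).comap
        (MulAut.conj g).toMonoidHom := by
      refine sup_le (fun a ha => ?_) (Subgroup.zpowers_le.2 ?_)
      · exact Subgroup.mem_sup_left (hAn.conj_mem a ha g)
      · exact hgen g
    exact hle' hn
  exact hcA (hmax ⟨hnorm, hcm⟩ le_sup_left (Subgroup.mem_sup_right (Subgroup.mem_zpowers c)))

theorem exists_central_pair_of_elementary {N : Subgroup S} [N.Normal] (hS : IsPGroup 2 S)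
    (hsq : ∀ a ∈ N, a * a = 1) (hcard : 2 < Nat.card N) :
    ∃ z w : S, z ∈ Subgroup.center S ∧ orderOf z = 2 ∧ orderOf w = 2 ∧ w ≠ z ∧
      ∀ g : S, g * w * g⁻¹ = w ∨ g * w * g⁻¹ = z * w := by
  haveI : Fact (Nat.Prime 2) := ⟨Nat.prime_two⟩
  obtain ⟨z, hzN, hzc, hz1⟩ := exists_mem_center_ne_one hS N
    (fun h => by rw [h, Subgroup.card_bot] at hcard; omega)
  have hz := orderOf_eq_two hz1 (hsq z hzN)
  haveI : (Subgroup.zpowers z).Normal := ⟨fun n hn g => by
    rw [Subgroup.mem_center_iff.1 ((Subgroup.zpowers_le.2 hzc) hn) g, mul_inv_cancel_right]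
    exact hn⟩
  have hnle : ¬ N ≤ Subgroup.zpowers z := fun h => by
    have := Subgroup.card_le_of_le h
    rw [Nat.card_zpowers, hz] at this
    omega
  obtain ⟨w, hwN, hwz, hw⟩ := exists_mem_commutator_le hS (Subgroup.zpowers z) N hnle
  refine ⟨z, w, hzc, hz, orderOf_eq_two (fun h => hwz (h ▸ one_mem _)) (hsq w hwN),
    fun h => hwz (h ▸ Subgroup.mem_zpowers z), fun g => ?_⟩
  classical
  obtain ⟨i, hi, hie⟩ :=
    Finset.mem_image.1 ((mem_zpowers_iff_mem_range_orderOf (x := z)).1 (hw g))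
  rw [Finset.mem_range, hz] at hi
  interval_cases i
  · rw [pow_zero, eq_comm, mul_inv_eq_one] at hie; exact Or.inl hie
  · rw [pow_one, eq_mul_inv_iff_mul_eq] at hie; exact Or.inr hie.symm

/-- A 2-group containing an elementary abelian group of order eight has a normal four-group. -/
theorem exists_normal_four_pair (hS : IsPGroup 2 S) {E : Subgroup S} (hE : Nat.card E = 8)
    (hsq : ∀ e ∈ E, e * e = 1) :
    ∃ z w : S, z ∈ Subgroup.center S ∧ orderOf z = 2 ∧ orderOf w = 2 ∧ w ≠ z ∧
      ∀ g : S, g * w * g⁻¹ = w ∨ g * w * g⁻¹ = z * w := by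
  classical
  haveI : Fact (Nat.Prime 2) := ⟨Nat.prime_two⟩
  obtain ⟨A, hAn, hAc, hCA⟩ := exists_selfCentralizing_normal_abelian hS
  haveI := hAn
  have hcomm : ∀ a ∈ A, ∀ b ∈ A, a * b = b * a := fun a ha b hb =>
    congrArg Subtype.val (hAc.is_comm.comm (⟨a, ha⟩ : A) ⟨b, hb⟩)
  let V : Subgroup S :=
    { carrier := {a | a ∈ A ∧ a * a = 1}
      one_mem' := ⟨one_mem A, one_mul 1⟩
      mul_mem' := fun {a b} ha hb => ⟨mul_mem ha.1 hb.1, by
        rw [Commute.mul_mul_mul_comm (hcomm b hb.1 a ha.1), ha.2, hb.2, one_mul]⟩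
      inv_mem' := fun {a} ha => ⟨inv_mem ha.1, by rw [← mul_inv_rev, ha.2, inv_one]⟩ }
  haveI : V.Normal := by
    refine ⟨fun a ha g => ?_⟩
    obtain ⟨h1, h2⟩ : a ∈ A ∧ a * a = 1 := ha
    exact ⟨hAn.conj_mem a h1 g, by
      rw [show g * a * g⁻¹ * (g * a * g⁻¹) = g * (a * a) * g⁻¹ by group, h2, mul_one,
        mul_inv_cancel]⟩
  rcases Nat.lt_or_ge 2 (Nat.card V) with hV | hV
  · exact exists_central_pair_of_elementary (N := V) hS (fun a ha => ha.2) hV
  have : Fintype S := Fintype.ofFinite S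
  set W : Finset S := Finset.univ.filter fun a => a ∈ V with hW
  have hWcard : W.card ≤ 2 := by
    rw [← Fintype.card_subtype, ← Nat.card_eq_fintype_card]; exact hV
  have hcyc : IsCyclic A := by
    have : Fintype A := Fintype.ofFinite A
    obtain ⟨k, hk⟩ := (hS.to_subgroup A).exists_card_eq
    rcases Nat.eq_zero_or_pos k with rfl | hkpos
    · have : Subsingleton A := (Nat.card_eq_one_iff_unique.1 (hk.trans (pow_zero 2))).1
      infer_instance
    -- pick an element of largest order
    obtain ⟨a, -, hamax⟩ := Finset.exists_max_image (Finset.univ : Finset A) orderOf ⟨1, Finset.mem_univ _⟩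
    refine ⟨a, fun b => ?_⟩
    by_contra hb
    haveI : (Subgroup.zpowers a).Normal := ⟨fun n hn g => by
      rw [show g * n = n * g from Subtype.ext (hcomm _ g.2 _ n.2), mul_inv_cancel_right]
      exact hn⟩
    obtain ⟨q, hq⟩ := exists_prime_orderOf_dvd_card' 2 (G := A ⧸ Subgroup.zpowers a) (by
      obtain ⟨j, hj⟩ := ((hS.to_subgroup A).to_quotient (Subgroup.zpowers a)).exists_card_eq
      rcases Nat.eq_zero_or_pos j with rfl | hj'
      · exfalso
        have : Subsingleton (A ⧸ Subgroup.zpowers a) := (Nat.card_eq_one_iff_unique.1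
          (hj.trans (pow_zero 2))).1
        exact hb (Subgroup.mem_zpowers_iff.1 ((QuotientGroup.eq_one_iff (N := Subgroup.zpowers a) b).1
          (Subsingleton.elim _ _)))
      · rw [hj]; exact dvd_pow_self 2 hj'.ne')
    induction q using QuotientGroup.induction_on with
    | H c =>
      have hcnot : c ∉ Subgroup.zpowers a := fun h =>
        ne_one_of_invol hq ((QuotientGroup.eq_one_iff c).2 h)
      have hc2 : c * c ∈ Subgroup.zpowers a := by
        rw [← QuotientGroup.eq_one_iff, QuotientGroup.mk_mul]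
        exact mul_self_eq_one hq
      obtain ⟨i, hi⟩ := Subgroup.mem_zpowers_iff.1 hc2
      have hac : Commute a c := Subtype.ext (hcomm _ a.2 _ c.2)
      obtain ⟨j, hj⟩ := ((hS.to_subgroup A).exists_card_eq.imp fun _ h => h)
      obtain ⟨n, -, hn⟩ := (Nat.dvd_prime_pow Nat.prime_two).1 (hj ▸ orderOf_dvd_natCard a)
      -- the exponent `i` is even, as `a` has largest order
      have hieven : Even i ∨ n = 0 := by
        rcases Nat.eq_zero_or_pos n with h | hn'
        · exact Or.inr h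
        left
        by_contra hodd
        rw [Int.not_even_iff_odd] at hodd
        have h1 : orderOf (c * c) = 2 ^ n := by
          obtain ⟨l, hl⟩ := hodd
          rw [← hi, ← hn]
          refine orderOf_eq_orderOf_iff.2 fun m => ?_
          rw [← zpow_natCast, ← zpow_natCast, ← zpow_mul, ← orderOf_dvd_iff_zpow_eq_one,
            ← orderOf_dvd_iff_zpow_eq_one, hn]
          have hcop : IsCoprime ((2 ^ n : ℕ) : ℤ) i := by
            push_cast
            refine IsCoprime.pow_left ?_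
            exact ⟨-l, 1, by rw [hl]; ring⟩
          exact ⟨fun h => hcop.dvd_of_dvd_mul_left h, fun h => h.mul_left i⟩
        obtain ⟨r, -, hr⟩ := (Nat.dvd_prime_pow Nat.prime_two).1 (hj ▸ orderOf_dvd_natCard c)
        have h2 := hamax c (Finset.mem_univ _)
        rw [hr, hn] at h2
        rw [← pow_two, orderOf_pow, hr] at h1
        rcases Nat.eq_zero_or_pos r with rfl | hr'
        · rw [pow_zero, Nat.gcd_one_left, Nat.div_one] at h1
          exact absurd h1.symm (Nat.one_lt_two_pow hn'.ne').ne'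
        · rw [Nat.gcd_eq_right (dvd_pow_self 2 hr'.ne'),
            show r = r - 1 + 1 by omega, pow_succ, Nat.mul_div_cancel _ two_pos] at h1
          have h3 := Nat.pow_right_injective (le_refl 2) h1
          have h4 := (Nat.pow_le_pow_iff_right (one_lt_two : (1 : ℕ) < 2)).1 h2
          omega
      -- an element of `c * zpowers a` squaring to one
      obtain ⟨d, hd, hdsq⟩ : ∃ d : A, d ∉ Subgroup.zpowers a ∧ d * d = 1 := by
        rcases hieven with ⟨l, hl⟩ | h0
        · refine ⟨c * a ^ (-l), fun h => hcnot ?_, ?_⟩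
          · have := mul_mem h (Subgroup.zpow_mem_zpowers a l)
            rwa [mul_assoc, ← zpow_add, neg_add_cancel, zpow_zero, mul_one] at this
          · rw [Commute.mul_mul_mul_comm ((hac.zpow_left (-l))), ← hi, ← zpow_add, ← zpow_add, hl,
              show l + l + (-l + -l) = 0 by ring, zpow_zero]
        · rw [h0, pow_zero, orderOf_eq_one_iff] at hn
          refine ⟨c, hcnot, ?_⟩
          rw [← hi, hn, one_zpow]
      -- three solutions of `x * x = 1` in `A`
      have ha1 : a ≠ 1 := by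
        intro ha
        have h2 := hamax d (Finset.mem_univ _)
        rw [ha, orderOf_one] at h2
        have h3 : orderOf d = 1 := le_antisymm h2 (orderOf_pos d)
        rw [orderOf_eq_one_iff] at h3
        exact hd (h3 ▸ one_mem _)
      have hn' : 0 < n := by
        rcases Nat.eq_zero_or_pos n with rfl | h
        · rw [pow_zero, orderOf_eq_one_iff] at hn; exact absurd hn ha1
        · exact h
      set t := a ^ 2 ^ (n - 1) with ht
      have ht2 : t * t = 1 := by
        rw [ht, ← pow_add, ← two_mul, ← pow_succ', show n - 1 + 1 = n by omega, ← hn,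
          pow_orderOf_eq_one]
      have ht1 : t ≠ 1 := fun h => by
        have h5 := Nat.le_of_dvd (Nat.two_pow_pos _) (orderOf_dvd_of_pow_eq_one h)
        rw [hn] at h5
        have h6 := (Nat.pow_le_pow_iff_right (one_lt_two : (1 : ℕ) < 2)).1 h5
        omega
      have hdt : d ≠ t := fun h => hd (h ▸ Subgroup.npow_mem_zpowers a _)
      have hd1 : d ≠ 1 := fun h => hd (h ▸ one_mem _)
      have hsub : ({(1 : S), (t : S), (d : S)} : Finset S) ⊆ W := by
        intro x hx
        simp only [Finset.mem_insert, Finset.mem_singleton] at hx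
        rw [hW, Finset.mem_filter]
        refine ⟨Finset.mem_univ _, ?_⟩
        rcases hx with rfl | rfl | rfl
        · exact one_mem V
        · exact ⟨t.2, congrArg Subtype.val ht2⟩
        · exact ⟨d.2, congrArg Subtype.val hdsq⟩
      have h7 := (Finset.card_le_card hsub).trans hWcard
      rw [Finset.card_insert_of_notMem, Finset.card_pair] at h7
      · omega
      · exact fun h => hdt (Subtype.ext h).symm
      · simp only [Finset.mem_insert, Finset.mem_singleton, not_or]
        exact ⟨fun h => ht1 (Subtype.ext h.symm), fun h => hd1 (Subtype.ext h.symm)⟩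
  obtain ⟨⟨a, haA⟩, hgen⟩ := hcyc.exists_generator
  have hgen' : ∀ b ∈ A, ∃ i : ℤ, a ^ i = b := fun b hb => by
    obtain ⟨i, hi⟩ := Subgroup.mem_zpowers_iff.1 (hgen ⟨b, hb⟩)
    exact ⟨i, congrArg Subtype.val hi⟩
  have hcent : ∀ g : S, Commute g a → g ∈ A := fun g hg => hCA (Subgroup.mem_centralizer_iff.2
    fun b hb => by
      obtain ⟨i, rfl⟩ := hgen' b hb
      exact ((hg.zpow_right i).eq).symm)
  have hE2 : ∀ e ∈ E, e⁻¹ = e := fun e he => inv_eq_of_mul_eq_one_right (hsq e he)
  -- the images of `a` under `E`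
  let F : Finset S := Finset.univ.filter fun e => e ∈ E
  have hFcard : F.card = 8 := by
    rw [← Fintype.card_subtype, ← Nat.card_eq_fintype_card]; exact hE
  let f : S → S := fun e => e * a * e⁻¹
  have hfib : ∀ b ∈ F.image f, (F.filter fun e => f e = b).card ≤ 2 := by
    intro b hb
    obtain ⟨e₀, he₀, rfl⟩ := Finset.mem_image.1 hb
    refine (Finset.card_le_card_of_injOn (fun e => e₀ * e) ?_
      (fun x _ y _ h => mul_left_cancel h)).trans hWcard
    intro e he
    simp only [F, Finset.coe_filter, Finset.mem_filter, Finset.mem_univ, true_and,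
      Set.mem_ofPred_eq] at he
    have he₀' : e₀ ∈ E := by simpa [F] using he₀
    simp only [hW, Finset.coe_filter, Finset.mem_univ, true_and, Set.mem_ofPred_eq]
    refine ⟨hcent _ ?_, hsq _ (E.mul_mem he₀' he.1)⟩
    show e₀ * e * a = a * (e₀ * e)
    have h := he.2
    simp only [f] at h
    calc e₀ * e * a = e₀ * (e * a * e⁻¹) * e := by group
      _ = e₀ * (e₀ * a * e₀⁻¹) * e := by rw [h]
      _ = e₀ * e₀ * a * (e₀⁻¹ * e) := by group
      _ = a * (e₀ * e) := by rw [hsq e₀ he₀', hE2 e₀ he₀', one_mul]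
  have himg : 4 ≤ (F.image f).card := by
    have h := Finset.card_le_mul_card_image (f := f) F 2 hfib
    omega
  obtain ⟨k, hk⟩ := (hS.to_subgroup A).exists_card_eq
  have hord : orderOf a = 2 ^ k := by
    rw [← hk, ← Subgroup.orderOf_mk a haA, orderOf_eq_card_of_forall_mem_zpowers hgen]
  have hk3 : 3 ≤ k := by
    by_contra hlt
    push Not at hlt
    have h : F.image f ⊆ Finset.univ.filter fun b => b ∈ A := fun b hb => by
      obtain ⟨e, -, rfl⟩ := Finset.mem_image.1 hb
      simp [f, hAn.conj_mem a haA e]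
    have h' := Finset.card_le_card h
    rw [← Fintype.card_subtype, ← Nat.card_eq_fintype_card] at h'
    change _ ≤ Nat.card A at h'
    have h4 : 2 ^ k ≤ 4 := le_trans (Nat.pow_le_pow_right two_pos (by omega : k ≤ 2)) le_rfl
    rw [hk] at h'
    have hall : F.image f = Finset.univ.filter fun b => b ∈ A := by
      refine Finset.eq_of_subset_of_card_le h ?_
      rw [← Fintype.card_subtype, ← Nat.card_eq_fintype_card]
      change Nat.card A ≤ _
      rw [hk]; omega
    have h1 : (1 : S) ∈ F.image f := by rw [hall]; simp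
    obtain ⟨e, -, he⟩ := Finset.mem_image.1 h1
    simp only [f, mul_inv_eq_one, mul_eq_left] at he
    rw [he, orderOf_one] at hord
    rw [← hord] at h'
    omega
  set z := a ^ 2 ^ (k - 1) with hzdef
  have hhalf : 2 ^ (k - 1) + 2 ^ (k - 1) = 2 ^ k := by
    rw [← two_mul, ← pow_succ']; congr 1; omega
  have hz2 : z * z = 1 := by rw [hzdef, ← pow_add, hhalf, ← hord, pow_orderOf_eq_one]
  have hz1 : z ≠ 1 := fun h => by
    have h5 := Nat.le_of_dvd (Nat.two_pow_pos _) (orderOf_dvd_of_pow_eq_one h)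
    rw [hord] at h5
    have := Nat.two_pow_pos (k - 1)
    omega
  have hzA : z ∈ A := pow_mem haA _
  have huniq : ∀ b ∈ A, b * b = 1 → b = 1 ∨ b = z := by
    intro b hb hb2
    by_contra hcon
    push Not at hcon
    have hsub : ({1, z, b} : Finset S) ⊆ W := by
      intro x hx
      simp only [Finset.mem_insert, Finset.mem_singleton] at hx
      rw [hW, Finset.mem_filter]
      refine ⟨Finset.mem_univ _, ?_⟩
      rcases hx with rfl | rfl | rfl
      exacts [one_mem V, ⟨hzA, hz2⟩, ⟨hb, hb2⟩]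
    have h7 := (Finset.card_le_card hsub).trans hWcard
    rw [Finset.card_insert_of_notMem, Finset.card_pair hcon.2.symm] at h7
    · omega
    · simp [hz1.symm, hcon.1.symm]
  have hzc : z ∈ Subgroup.center S := Subgroup.mem_center_iff.2 fun g => by
    rcases huniq _ (hAn.conj_mem z hzA g) (by
      rw [show g * z * g⁻¹ * (g * z * g⁻¹) = g * (z * z) * g⁻¹ by group, hz2, mul_one,
        mul_inv_cancel]) with h | h
    · rw [mul_inv_eq_one, mul_eq_left] at h; exact absurd h hz1
    · rwa [mul_inv_eq_iff_eq_mul] at h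
  -- every image is one of four
  have hfour : ∀ b ∈ F.image f, b = a ∨ b = a⁻¹ ∨ b = a * z ∨ b = a⁻¹ * z := by
    intro b hb
    obtain ⟨e, he, rfl⟩ := Finset.mem_image.1 hb
    have he' : e ∈ E := by simpa [F] using he
    simp only [f]
    obtain ⟨r, hr⟩ := hgen' _ (hAn.conj_mem a haA e)
    rw [← hr]
    have hrr : a ^ (r * r) = a := by
      rw [zpow_mul, hr, conj_zpow, hr]
      calc e * (e * a * e⁻¹) * e⁻¹ = e * e * a * (e⁻¹ * e⁻¹) := by group
        _ = a := by rw [hE2 e he', hsq e he', one_mul, mul_one]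
    have hdvd : ((2 ^ k : ℕ) : ℤ) ∣ r * r - 1 := by
      rw [← hord, orderOf_dvd_sub_iff_zpow_eq_zpow, hrr, zpow_one]
    push_cast at hdvd
    have hodd : ¬ (2 : ℤ) ∣ r := fun h2 => by
      have h3 : (2 : ℤ) ∣ r * r - 1 := (dvd_pow_self 2 (by omega : k ≠ 0)).trans hdvd
      obtain ⟨u, rfl⟩ := h2
      obtain ⟨v, hv⟩ := h3
      have : (2 : ℤ) * (2 * u * u - v) = 1 := by linarith
      omega
    obtain ⟨s, rfl⟩ : ∃ s, r = 2 * s + 1 := ⟨r / 2, by omega⟩
    rw [show (2 * s + 1) * (2 * s + 1) - 1 = 4 * (s * (s + 1)) by ring,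
      show k = k - 2 + 2 by omega, pow_add, show (2 : ℤ) ^ 2 = 4 by norm_num, mul_comm] at hdvd
    have hdvd' : (2 : ℤ) ^ (k - 2) ∣ s * (s + 1) :=
      (mul_dvd_mul_iff_left (by norm_num : (4 : ℤ) ≠ 0)).1 hdvd
    have hz' : z = a ^ ((2 : ℤ) ^ (k - 1)) := by
      rw [hzdef, ← zpow_natCast]; push_cast; rfl
    have hzz : ∀ m : ℤ, a ^ ((2 : ℤ) ^ (k - 1) * m) = 1 ∨ a ^ ((2 : ℤ) ^ (k - 1) * m) = z := by
      intro m
      rw [zpow_mul, ← hz']
      have h2 : z ^ (2 : ℤ) = 1 := by rw [zpow_two, hz2]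
      rcases Int.even_or_odd' m with ⟨j, rfl | rfl⟩
      · exact Or.inl (by rw [zpow_mul, h2, one_zpow])
      · exact Or.inr (by rw [zpow_add, zpow_mul, h2, one_zpow, one_mul, zpow_one])
    have hpw : (2 : ℤ) ^ (k - 1) = 2 * 2 ^ (k - 2) := by rw [← pow_succ']; congr 1; omega
    rcases Int.even_or_odd' s with ⟨t, rfl | rfl⟩
    · have hcop : IsCoprime ((2 : ℤ) ^ (k - 2)) (2 * t + 1) := IsCoprime.pow_left ⟨-t, 1, by ring⟩
      obtain ⟨m, hm⟩ := hcop.dvd_of_dvd_mul_right hdvd'
      have e1 : a ^ (2 * (2 * t) + 1) = a * a ^ ((2 : ℤ) ^ (k - 1) * m) := by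
        rw [hm, add_comm, zpow_add, zpow_one, hpw, mul_assoc]
      rcases hzz m with h | h <;> rw [e1, h]
      · exact Or.inl (mul_one a)
      · exact Or.inr (Or.inr (Or.inl rfl))
    · have hcop : IsCoprime ((2 : ℤ) ^ (k - 2)) (2 * t + 1) := IsCoprime.pow_left ⟨-t, 1, by ring⟩
      obtain ⟨m, hm⟩ := hcop.dvd_of_dvd_mul_left hdvd'
      have e1 : a ^ (2 * (2 * t + 1) + 1) = a⁻¹ * a ^ ((2 : ℤ) ^ (k - 1) * m) := by
        rw [← zpow_neg_one, ← zpow_add, hpw, mul_assoc, ← hm]
        congr 1; ring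
      rcases hzz m with h | h <;> rw [e1, h]
      · exact Or.inr (Or.inl (mul_one _))
      · exact Or.inr (Or.inr (Or.inr rfl))
  obtain ⟨e, heE, hea⟩ : ∃ e ∈ E, e * a * e⁻¹ = a * z := by
    by_contra hcon
    push Not at hcon
    have hsub : F.image f ⊆ {a, a⁻¹, a⁻¹ * z} := fun b hb => by
      simp only [Finset.mem_insert, Finset.mem_singleton]
      rcases hfour b hb with h | h | h | h
      · exact Or.inl h
      · exact Or.inr (Or.inl h)
      · obtain ⟨e, he, rfl⟩ := Finset.mem_image.1 hb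
        exact absurd h (hcon e (by simpa [F] using he))
      · exact Or.inr (Or.inr h)
    have := (Finset.card_le_card hsub).trans Finset.card_le_three
    omega
  have he1 : e ≠ 1 := by rintro rfl; simp [hz1] at hea
  refine ⟨z, e, hzc, orderOf_eq_two hz1 hz2, orderOf_eq_two he1 (hsq e heE), ?_, fun g => ?_⟩
  · intro h
    rw [h, mul_inv_eq_iff_eq_mul, ← Subgroup.mem_center_iff.1 hzc a, mul_assoc, hz2, mul_one] at hea
    apply hz1
    have hd : orderOf a ∣ 2 ^ (k - 1) := by
      apply orderOf_dvd_of_pow_eq_one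
      rw [← hzdef]
      calc z = a⁻¹ * (a * z) := by group
        _ = 1 := by rw [hea, inv_mul_cancel]
    rw [hzdef]
    exact orderOf_dvd_iff_pow_eq_one.1 hd
  · set e' := g * e * g⁻¹ with he'
    have hzcomm : ∀ h : S, h * z = z * h := Subgroup.mem_center_iff.1 hzc
    obtain ⟨s, hs⟩ := hgen' _ (hAn.conj_mem a haA g⁻¹)
    rw [inv_inv] at hs
    have hsodd : z ^ s = z := by
      have hzs : g⁻¹ * z * g = z ^ s := by
        rw [hzdef, ← zpow_natCast, ← zpow_mul, mul_comm, zpow_mul, hs]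
        have h0 := conj_zpow (i := ((2 ^ (k - 1) : ℕ) : ℤ)) (a := g⁻¹) (b := a)
        rw [inv_inv] at h0
        exact h0.symm
      rw [← hzs, mul_assoc, ← hzcomm g, inv_mul_cancel_left]
    have hkey : e' * a * e'⁻¹ = a * z := by
      calc e' * a * e'⁻¹ = g * (e * (g⁻¹ * a * g) * e⁻¹) * g⁻¹ := by rw [he']; group
        _ = g * (e * a ^ s * e⁻¹) * g⁻¹ := by rw [hs]
        _ = g * ((a * z) ^ s) * g⁻¹ := by rw [← conj_zpow, hea]
        _ = g * (a ^ s * z) * g⁻¹ := by rw [Commute.mul_zpow (hzcomm a), hsodd]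
        _ = g * a ^ s * g⁻¹ * (g * z * g⁻¹) := by group
        _ = g * (g⁻¹ * a * g) * g⁻¹ * z := by rw [hs, hzcomm g, mul_inv_cancel_right]
        _ = a * z := by group
    have hmem : e⁻¹ * e' ∈ A := by
      apply hcent
      show e⁻¹ * e' * a = a * (e⁻¹ * e')
      calc e⁻¹ * e' * a = e⁻¹ * (e' * a * e'⁻¹) * e' := by group
        _ = e⁻¹ * (e * a * e⁻¹) * e' := by rw [hkey, hea]
        _ = a * (e⁻¹ * e') := by group
    obtain ⟨i, hi⟩ := hgen' _ hmem
    have he'2 : e' * e' = 1 := by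
      rw [he', show g * e * g⁻¹ * (g * e * g⁻¹) = g * (e * e) * g⁻¹ by group, hsq e heE, mul_one,
        mul_inv_cancel]
    have hprod : z ^ i * a ^ (2 * i) = 1 := by
      calc z ^ i * a ^ (2 * i) = (a * z) ^ i * a ^ i := by
            rw [Commute.mul_zpow (hzcomm a), two_mul, zpow_add, ← mul_assoc,
              ((Commute.zpow_zpow (hzcomm a) i i)).eq]
        _ = e * a ^ i * e⁻¹ * a ^ i := by rw [← hea, conj_zpow]
        _ = (e * a ^ i) * (e * a ^ i) := by rw [hE2 e heE, mul_assoc]
        _ = 1 := by rw [hi, mul_inv_cancel_left, he'2]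
    rcases Int.even_or_odd' i with ⟨j, rfl | rfl⟩
    · have hz0 : z ^ (2 * j) = 1 := by rw [zpow_mul, zpow_two, hz2, one_zpow]
      rw [hz0, one_mul, two_mul, zpow_add, hi] at hprod
      rcases huniq _ hmem hprod with h | h
      · left; exact (inv_mul_eq_one.1 h).symm
      · right
        rw [inv_mul_eq_iff_eq_mul] at h
        rw [h, hzcomm e]
    · exfalso
      have hz0 : z ^ (2 * j + 1) = z := by
        rw [zpow_add, zpow_mul, zpow_two, hz2, one_zpow, one_mul, zpow_one]
      rw [hz0, hzdef, ← zpow_natCast, ← zpow_add, ← orderOf_dvd_iff_zpow_eq_one, hord] at hprod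
      have h4 : (4 : ℤ) ∣ ((2 ^ k : ℕ) : ℤ) := by
        rw [show k = k - 2 + 2 by omega, pow_add]; exact ⟨(2 ^ (k - 2) : ℕ), by push_cast; ring⟩
      have h4' : (4 : ℤ) ∣ ((2 ^ (k - 1) : ℕ) : ℤ) := by
        rw [show k - 1 = k - 3 + 2 by omega, pow_add]; exact ⟨(2 ^ (k - 3) : ℕ), by push_cast; ring⟩
      have := h4.trans hprod
      omega

end CfsgLib.Invol
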