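import Cfsg.Agent.Lib.Invol.HomocyclicBlock
import Cfsg.Agent.Lib.Invol.GlaubermanZStar

/-!
# Brauer's theorem on Sylow 2-subgroups `Z/2^m × Z/2^m`
-/

set_option autoImplicit false

namespace CfsgLib.Invol.Homocyclic2

universe u

theorem normal_of_homocyclic (k : ℕ) (hk : 1 ≤ k) : ∀ (n : ℕ) (G : Type u) [Group G] [Finite G],
    Nat.card G = n → ∀ (P : Sylow 2 G),
      ((P : Subgroup G) ≃* Multiplicative (ZMod (2 ^ (k + 1)) × ZMod (2 ^ (k + 1)))) →
      Cfsg.pPrimeCore 2 G = ⊥ → (P : Subgroup G).Normal := by
  intro n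
  induction n using Nat.strong_induction_on with
  | _ n ih =>
    intro G _ _ hn P e hO
    have : Fact (Nat.Prime 2) := ⟨Nat.prime_two⟩
    by_cases htop : (P : Subgroup G) = ⊤
    · rw [htop]; infer_instance
    obtain ⟨h13, -⟩ := CfsgLib.Blocks.Homocyclic.automizer_facts P k e
    rcases h13 with h1 | h3
    · exfalso
      have hle : Subgroup.normalizer ((P : Subgroup G) : Set G) ≤
          Subgroup.centralizer ((P : Subgroup G) : Set G) := Subgroup.relIndex_eq_one.1 h1
      exact not_isComplement_of_core_eq_bot P hO htop _ (MonoidHom.normal_ker _)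
        (MonoidHom.ker_transferSylow_isComplement' P hle)
    obtain ⟨f, hf, hfP⟩ := HomocyclicBlock.exists_linear P k hk e h3
    set K := f.ker with hK
    have hKn : K.Normal := MonoidHom.normal_ker f
    have hPK : (P : Subgroup G) ≤ K := fun z hz => MonoidHom.mem_ker.2 (hfP z hz)
    have hlt : Nat.card K < n := by
      rw [← hn]
      exact lt_of_le_of_ne (Nat.le_of_dvd Nat.card_pos (Subgroup.card_subgroup_dvd_card K))
        fun h => hf (MonoidHom.ext fun g => MonoidHom.mem_ker.1
          (Subgroup.eq_top_of_card_eq K h ▸ Subgroup.mem_top g : g ∈ K))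
    let PK : Sylow 2 K := P.subtype hPK
    have hKO : Cfsg.pPrimeCore 2 K = ⊥ := by
      haveI := CfsgLib.Solvable.pPrimeCore_characteristic 2 K
      have hmap : ((Cfsg.pPrimeCore 2 K).map K.subtype).Normal :=
        ConjAct.normal_of_characteristic_of_normal
      have hcard : Nat.card ((Cfsg.pPrimeCore 2 K).map K.subtype) = Nat.card (Cfsg.pPrimeCore 2 K) :=
        Nat.card_congr (Subgroup.equivMapOfInjective _ K.subtype Subtype.val_injective).toEquiv.symm
      have h := CfsgLib.Solvable.le_pPrimeCore hmap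
        (p := 2) (hcard ▸ CfsgLib.Solvable.pPrimeCore_card_coprime 2 K)
      rw [hO, le_bot_iff] at h
      exact (Subgroup.map_eq_bot_iff_of_injective _ Subtype.val_injective).1 h
    have hPKn : (PK : Subgroup K).Normal :=
      ih _ hlt K rfl PK ((Subgroup.subgroupOfEquivOfLe hPK).trans e) hKO
    haveI := Sylow.characteristic_of_normal PK hPKn
    have hmap : ((PK : Subgroup K).map K.subtype).Normal :=
      ConjAct.normal_of_characteristic_of_normal
    rwa [show ((PK : Subgroup K).map K.subtype) = (P : Subgroup G) from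
      Subgroup.map_subgroupOf_eq_of_le hPK] at hmap

end CfsgLib.Invol.Homocyclic2
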