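import Cfsg.Agent.Lib.Invol.DihedralSum
import Cfsg.Agent.Lib.Invol.KleinPrincipal
import Cfsg.Agent.Lib.RealChar.Trichotomy
import Cfsg.Agent.Lib.IndicatorForm.Basic

/-!
# The order formula for Klein four Sylow 2-subgroups and the equality of two degrees
-/

set_option autoImplicit false

open scoped ComplexConjugate

namespace CfsgLib.Invol.KleinOrder

universe u

variable {G : Type u} [Group G] [Finite G]

/-- The setting of the order formula. -/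
theorem setting (g₀ : ℕ) (hg₀ : Odd g₀) (hG : Nat.card G = 4 * g₀)
    (hnc : ¬ ∃ N : Subgroup G, N.Normal ∧ Nat.card N = g₀) (P : Sylow 2 G) {J : G}
    (hJ : J ∈ (P : Subgroup G)) (hJ2 : orderOf J = 2) :
    IsKleinFour (P : Subgroup G) ∧ (∃ τ, DihPairs.DihData P J τ 1) ∧
      ∀ s : G, orderOf s = 2 → IsConj J s := by
  have : Fact (Nat.Prime 2) := ⟨Nat.prime_two⟩
  have hcard : Nat.card (P : Subgroup G) = 4 := by
    obtain ⟨m, hm⟩ := P.2.exists_card_eq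
    have h1 := (P : Subgroup G).card_mul_index
    rw [hG, hm] at h1
    have hcop : ∀ n e, ¬ 2 ∣ n → Nat.Coprime (2 ^ e) n := fun n e hn =>
      (Nat.prime_two.coprime_iff_not_dvd.2 hn).pow_left e
    have hg : ¬ 2 ∣ g₀ := by obtain ⟨c, hc⟩ := hg₀; omega
    have e1 : 2 ^ 2 ∣ 2 ^ m := (hcop _ 2 P.not_dvd_index).dvd_of_dvd_mul_right ⟨g₀, by rw [h1]; norm_num⟩
    have e2 : 2 ^ m ∣ 2 ^ 2 := (hcop _ m hg).dvd_of_dvd_mul_right ⟨_, by rw [h1]; norm_num⟩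
    rw [hm, Nat.dvd_antisymm e2 e1]; norm_num
  have hnocore : ¬ ∃ N : Subgroup G, N.Normal ∧ ∃ l, N.index = 2 ^ l ∧ ¬ 2 ∣ Nat.card N := by
    rintro ⟨N, hN, l, hl, hodd⟩
    refine hnc ⟨N, hN, ?_⟩
    have h1 := N.card_mul_index
    rw [hl, hG, show (4 : ℕ) = 2 ^ 2 by norm_num] at h1
    have hg : ¬ 2 ∣ g₀ := by obtain ⟨c, hc⟩ := hg₀; omega
    have hcop : ∀ n e, ¬ 2 ∣ n → Nat.Coprime n (2 ^ e) := fun n e hn =>
      ((Nat.prime_two.coprime_iff_not_dvd.2 hn).pow_left e).symm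
    exact Nat.dvd_antisymm ((hcop _ 2 hodd).dvd_of_dvd_mul_left ⟨_, h1.symm⟩)
      ((hcop _ l hg).dvd_of_dvd_mul_right ⟨2 ^ 2, by rw [h1, mul_comm]⟩)
  have hnotcyc : ¬ IsCyclic (P : Subgroup G) := by
    intro hc
    obtain ⟨l, hl⟩ := CfsgLib.Case.index_oddCore_of_cyclic (P : Subgroup G) P.2
      (Nat.odd_iff.2 (by have := P.not_dvd_index; omega)) hc
    exact hnocore ⟨_, CfsgLib.Solvable.pPrimeCore_normal 2 G, l, hl,
      Nat.prime_two.coprime_iff_not_dvd.1 (CfsgLib.Solvable.pPrimeCore_card_coprime 2 G).symm⟩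
  have hexp : ∀ x ∈ (P : Subgroup G), x * x = 1 := by
    intro x hx
    have hd : orderOf (⟨x, hx⟩ : (P : Subgroup G)) ∣ 2 ^ 2 := by
      rw [show (2 : ℕ) ^ 2 = 4 by norm_num, ← hcard]; exact orderOf_dvd_natCard _
    obtain ⟨i, hi, he⟩ := (Nat.dvd_prime_pow Nat.prime_two).1 hd
    rw [Subgroup.orderOf_mk] at he
    rcases (show i = 2 ∨ i ≤ 1 by omega) with rfl | hi1
    · exfalso
      refine hnotcyc (isCyclic_of_orderOf_eq_card ⟨x, hx⟩ ?_)
      rw [Subgroup.orderOf_mk, he, hcard]; norm_num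
    · have : orderOf x ∣ 2 := he ▸ (pow_dvd_pow 2 hi1).trans (by norm_num)
      have h2 := orderOf_dvd_iff_pow_eq_one.1 this
      rwa [sq] at h2
  have hK : IsKleinFour (P : Subgroup G) := by
    refine ⟨hcard, ?_⟩
    have : Nontrivial (P : Subgroup G) := Finite.one_lt_card_iff_nontrivial.1 (by omega)
    refine ((Nat.dvd_prime Nat.prime_two).1 (Monoid.exponent_dvd_iff_forall_pow_eq_one.2 fun x => ?_)).resolve_left ?_
    · exact Subtype.ext (by rw [sq]; exact hexp x x.2)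
    · rw [Monoid.exp_eq_one_iff]
      exact not_subsingleton _
  refine ⟨hK, ?_, ?_⟩
  · obtain ⟨τ, hτ, hτn⟩ : ∃ τ ∈ (P : Subgroup G), τ ∉ Subgroup.zpowers J := by
      by_contra! hle
      have := Subgroup.card_le_of_le (H := (P : Subgroup G)) (K := Subgroup.zpowers J) hle
      rw [hcard, Nat.card_zpowers, hJ2] at this
      omega
    have hc : τ * J * τ⁻¹ = J⁻¹ := by
      have h1 := hexp τ hτ
      have h2 := hexp J hJ
      have h3 := hexp (τ * J) (mul_mem hτ hJ)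
      rw [inv_eq_of_mul_eq_one_right h1, inv_eq_of_mul_eq_one_right h2]
      calc τ * J * τ = τ * J * (τ * J) * J⁻¹ := by group
        _ = J := by rw [h3, one_mul, inv_eq_of_mul_eq_one_right h2]
    exact ⟨τ, ⟨hJ, hτ, by rw [hJ2], by rw [hcard], hc, hexp τ hτ, hτn, one_pos⟩⟩
  · rcases klein_sylow_dichotomy P hK with ⟨hN, -⟩ | ⟨-, h1⟩
    · exfalso
      refine hnocore ⟨(MonoidHom.transferSylow P hN).ker, inferInstance, 2, ?_,
        MonoidHom.not_dvd_card_ker_transferSylow P hN⟩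
      rw [(MonoidHom.ker_transferSylow_isComplement' P hN).symm.index_eq_card, hcard]
      norm_num
    · intro s hs
      rw [Nat.card_eq_one_iff_unique] at h1
      exact ConjClasses.mk_eq_mk_iff_isConj.1
        (congrArg Subtype.val (h1.1.elim ⟨_, J, hJ2, rfl⟩ ⟨_, s, hs, rfl⟩))

/-- The centraliser of `P` is the centraliser of any two generators. -/
theorem centralizer_pair_eq {P : Sylow 2 G} {J τ : G} (d : DihPairs.DihData P J τ 1) (i : ℕ) :
    Subgroup.centralizer ({J ^ 1, J ^ i * τ} : Set G) =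
      Subgroup.centralizer ((P : Subgroup G) : Set G) := by
  ext x
  rw [DihPairs.centralizer_pair_mem, Subgroup.mem_centralizer_iff]
  constructor
  · rintro ⟨h1, h2⟩ p hp
    rw [pow_one] at h1
    have hJ : Commute x J := h1
    have hτ : Commute x τ := by
      have := ((hJ.pow_right i).inv_right).mul_right (show Commute x (J ^ i * τ) from h2)
      rwa [inv_mul_cancel_left] at this
    obtain ⟨j, -, rfl | rfl⟩ := DihPairs.cases d hp
    · exact (hJ.pow_right j).eq.symm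
    · exact ((hJ.pow_right j).mul_right hτ).eq.symm
  · intro h
    exact ⟨(h _ (pow_mem d.hσ 1)).symm, (h _ (DihPairs.refl_mem d i)).symm⟩

/-- The order formula. -/
theorem order_formula {M : Ideal Cfsg.AlgInt} (hM : Cfsg.IsPModular 2 M) {g₀ : ℕ} (hg₀ : Odd g₀)
    (hG : Nat.card G = 4 * g₀) (hnc : ¬ ∃ N : Subgroup G, N.Normal ∧ Nat.card N = g₀)
    (P : Sylow 2 G) {J : G} (hJ : J ∈ (P : Subgroup G)) (hJ2 : orderOf J = 2)
    (χ₁ χ₂ χ₃ : Cfsg.IrrCharacter G) (ε₁ ε₂ ε₃ : ℤ)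
    (hB : Cfsg.principalBlock M G =
      {χ : Cfsg.IrrCharacter G | (χ : G → ℂ) = (fun _ => 1) ∨ χ = χ₁ ∨ χ = χ₂ ∨ χ = χ₃})
    (hdist : (χ₁ : G → ℂ) ≠ (fun _ => 1) ∧ (χ₂ : G → ℂ) ≠ (fun _ => 1) ∧
      (χ₃ : G → ℂ) ≠ (fun _ => 1) ∧ χ₁ ≠ χ₂ ∧ χ₁ ≠ χ₃ ∧ χ₂ ≠ χ₃)
    (hε : (ε₁ = 1 ∨ ε₁ = -1) ∧ (ε₂ = 1 ∨ ε₂ = -1) ∧ (ε₃ = 1 ∨ ε₃ = -1))
    (hval : (χ₁ : G → ℂ) J = ε₁ ∧ (χ₂ : G → ℂ) J = ε₂ ∧ (χ₃ : G → ℂ) J = ε₃) :
    (∀ f : Cfsg.IrrCharacter G → ℂ, ∑ χ ∈ BlockCol.pBlock M G, f χ =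
        f CfsgLib.Char.principalIrr + f χ₁ + f χ₂ + f χ₃) ∧
    (1 + ε₁ * Cfsg.charDegree (χ₁ : G → ℂ) + ε₂ * Cfsg.charDegree (χ₂ : G → ℂ) +
        ε₃ * Cfsg.charDegree (χ₃ : G → ℂ) = 0) ∧
    (Nat.card (Subgroup.centralizer ((P : Subgroup G) : Set G)) ∣
      Nat.card (Subgroup.centralizer ({J} : Set G))) ∧
    (((Cfsg.charDegree (χ₁ : G → ℂ) + ε₁) * (Cfsg.charDegree (χ₂ : G → ℂ) + ε₂) *
        (Cfsg.charDegree (χ₃ : G → ℂ) + ε₃) : ℚ) ≠ 0) ∧
    (Nat.card G : ℚ) * (Nat.card (Subgroup.centralizer ((P : Subgroup G) : Set G)) : ℚ) ^ 2 *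
        (((Cfsg.charDegree (χ₁ : G → ℂ) : ℚ) + ε₁) * ((Cfsg.charDegree (χ₂ : G → ℂ) : ℚ) + ε₂) *
          ((Cfsg.charDegree (χ₃ : G → ℂ) : ℚ) + ε₃)) =
      8 * (Nat.card (Subgroup.centralizer ({J} : Set G)) : ℚ) ^ 3 *
        ((Cfsg.charDegree (χ₁ : G → ℂ) : ℚ) * Cfsg.charDegree (χ₂ : G → ℂ) *
          Cfsg.charDegree (χ₃ : G → ℂ)) := by
  classical
  have : Fact (Nat.Prime 2) := ⟨Nat.prime_two⟩
  cases nonempty_fintype G
  haveI := hM.2.1
  obtain ⟨hK, ⟨τ, d⟩, hone⟩ := setting g₀ hg₀ hG hnc P hJ hJ2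
  obtain ⟨hd1, hd2, hd3, h12, h13, h23⟩ := hdist
  set x₁ := Cfsg.charDegree (χ₁ : G → ℂ) with hx₁
  set x₂ := Cfsg.charDegree (χ₂ : G → ℂ) with hx₂
  set x₃ := Cfsg.charDegree (χ₃ : G → ℂ) with hx₃
  have hp : ∀ χ : Cfsg.IrrCharacter G, (χ : G → ℂ) = (fun _ => 1) ↔ χ = CfsgLib.Char.principalIrr :=
    fun χ => ⟨fun h => Subtype.ext (h.trans (funext fun g => (CfsgLib.Char.principalIrr_apply g).symm)),
      fun h => funext fun g => by rw [h, CfsgLib.Char.principalIrr_apply]⟩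
  simp only [hp] at hB
  simp only [ne_eq, hp] at hd1 hd2 hd3
  have hsum : ∀ f : Cfsg.IrrCharacter G → ℂ, ∑ χ ∈ BlockCol.pBlock M G, f χ =
      f CfsgLib.Char.principalIrr + f χ₁ + f χ₂ + f χ₃ := by
    intro f
    have : BlockCol.pBlock M G = {CfsgLib.Char.principalIrr, χ₁, χ₂, χ₃} := by
      ext χ; simp [BlockCol.mem_pBlock, hB]
    rw [this, Finset.sum_insert (by simp [Ne.symm hd1, Ne.symm hd2, Ne.symm hd3]),
      Finset.sum_insert (by simp [h12, h13]), Finset.sum_pair h23]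
    ring
  obtain ⟨hv1, hv2, hv3⟩ := hval
  have hdeg : (1 : ℤ) + ε₁ * x₁ + ε₂ * x₂ + ε₃ * x₃ = 0 := by
    have h := CfsgLib.BlockReg.block_orthogonality hM CfsgLib.Blocks.isPBlock_principalBlock
      (1 : G) J (by rw [orderOf_one]; norm_num) (by rw [hJ2])
    rw [BlockCol.finsum_principal, hsum] at h
    simp only [CfsgLib.Char.principalIrr_apply, hv1, hv2, hv3, map_one, mul_one,
      map_intCast, CfsgLib.Blk83.one_eq] at h
    have h' : (((1 : ℤ) + ε₁ * x₁ + ε₂ * x₂ + ε₃ * x₃ : ℤ) : ℂ) = 0 := by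
      push_cast; rw [← h]; ring
    exact_mod_cast h'
  set c := Nat.card (Subgroup.centralizer ({J} : Set G)) with hcdef
  set cP := Nat.card (Subgroup.centralizer ((P : Subgroup G) : Set G)) with hcP
  set o := Nat.card (DihPairs.core (J ^ 1)) with hodef
  have hc : c = 4 * o := by
    have h1 := (Cfsg.pPrimeCore 2 (Subgroup.centralizer ({J ^ 1} : Set G))).card_mul_index
    rw [(DihPairs.index_core d).1] at h1
    rw [hodef, DihPairs.core, Subgroup.card_map_of_injective (Subgroup.subtype_injective _), hcdef]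
    have e : Nat.card (Subgroup.centralizer ({J ^ 1} : Set G)) =
        Nat.card (Subgroup.centralizer ({J} : Set G)) := by rw [pow_one]
    omega
  have hfib : ∀ i, DihPairs.fib J τ 1 i * cP = c := fun i => by
    rw [hc, hcP, ← centralizer_pair_eq d i]
    exact DihPairs.fib_mul_card d i
  have hdvd : cP ∣ c := ⟨_, by rw [← hfib 0, mul_comm]⟩
  obtain ⟨hcore, hcoreodd⟩ := DihPairs.index_core d
  have heq := DihPairs.block_equation hM d (by simpa using hone) (l := 1) (e := 1) (by norm_num)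
    one_pos (by norm_num) ⟨1, by rw [pow_one, hJ2, pow_one]⟩ (K := Cfsg.pPrimeCore 2 _)
    hcoreodd (k := 2) (by rw [hcore]; norm_num)
  rw [DihPairs.sum_fib_odd _ 1 odd_one, hsum] at heq
  simp only [pow_one, CfsgLib.Char.principalIrr_apply, hv1, hv2, hv3,
    CfsgLib.Blk83.one_eq, one_mul, one_div, inv_one, Nat.cast_mul, Nat.cast_ofNat] at heq
  simp only [← hcdef, ← hx₁, ← hx₂, ← hx₃] at heq
  have hO : (Nat.card (DihPairs.core J) : ℂ) = (c : ℂ) / 4 := by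
    have : c = 4 * Nat.card (DihPairs.core J) := by rw [hc, hodef, pow_one]
    rw [this]; push_cast; ring
  have hf : ∀ i, (DihPairs.fib J τ 1 i : ℂ) = (c : ℂ) / cP := fun i => by
    rw [eq_div_iff (Nat.cast_ne_zero.2 Nat.card_pos.ne'), ← Nat.cast_mul, hfib]
  rw [hO, hf, hf] at heq
  have hx : ∀ χ : Cfsg.IrrCharacter G, (Cfsg.charDegree (χ : G → ℂ) : ℚ) ≠ 0 := fun χ =>
    Nat.cast_ne_zero.2 (CfsgLib.Blk83.deg_pos χ).ne'
  have hxC : ∀ χ : Cfsg.IrrCharacter G, (Cfsg.charDegree (χ : G → ℂ) : ℂ) ≠ 0 := fun χ =>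
    Nat.cast_ne_zero.2 (CfsgLib.Blk83.deg_pos χ).ne'
  have hc0 : (c : ℚ) ≠ 0 := Nat.cast_ne_zero.2 Nat.card_pos.ne'
  have hcP0 : (cP : ℚ) ≠ 0 := Nat.cast_ne_zero.2 Nat.card_pos.ne'
  have hQ : (Nat.card G : ℚ) * ((c : ℚ) / 4 *
      (1 + (ε₁ : ℚ) * ε₁ * ε₁ / x₁ + (ε₂ : ℚ) * ε₂ * ε₂ / x₂ + (ε₃ : ℚ) * ε₃ * ε₃ / x₃)) =
      (c : ℚ) ^ 2 * (2 * ((c : ℚ) / cP * ((c : ℚ) / cP))) := by
    apply Rat.cast_injective (α := ℂ)
    push_cast
    linear_combination heq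
  have hsq : ∀ e : ℤ, (e = 1 ∨ e = -1) → (e : ℚ) * e = 1 := fun e he => by
    rcases he with rfl | rfl <;> norm_num
  rw [hsq _ hε.1, hsq _ hε.2.1, hsq _ hε.2.2] at hQ
  have hprod : ((x₁ : ℚ) + ε₁) * ((x₂ : ℚ) + ε₂) * ((x₃ : ℚ) + ε₃) =
      (1 + (ε₁ : ℚ) / x₁ + (ε₂ : ℚ) / x₂ + (ε₃ : ℚ) / x₃) * ((x₁ : ℚ) * x₂ * x₃) := by
    have hd : (1 : ℚ) + ε₁ * x₁ + ε₂ * x₂ + ε₃ * x₃ = 0 := by exact_mod_cast hdeg
    have h1 := hx χ₁
    have h2 := hx χ₂
    have h3 := hx χ₃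
    rw [← hx₁] at h1; rw [← hx₂] at h2; rw [← hx₃] at h3
    field_simp
    linear_combination (ε₁ : ℚ) * ε₂ * ε₃ * hd
      - (ε₂ : ℚ) * ε₃ * (x₁ : ℚ) * hsq _ hε.1 - (ε₁ : ℚ) * ε₃ * (x₂ : ℚ) * hsq _ hε.2.1
      - (ε₁ : ℚ) * ε₂ * (x₃ : ℚ) * hsq _ hε.2.2
  simp only [one_mul] at hQ
  set S := 1 + (ε₁ : ℚ) / x₁ + (ε₂ : ℚ) / x₂ + (ε₃ : ℚ) / x₃ with hS
  have hmain : (Nat.card G : ℚ) * (cP : ℚ) ^ 2 * S = 8 * (c : ℚ) ^ 3 := by
    clear_value S
    field_simp at hQ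
    linear_combination hQ
  have hS0 : S ≠ 0 := fun h => by
    rw [h, mul_zero] at hmain
    exact mul_ne_zero (by norm_num) (pow_ne_zero 3 hc0) hmain.symm
  refine ⟨hsum, hdeg, hdvd, ?_, ?_⟩
  · rw [hprod]
    exact mul_ne_zero hS0 (mul_ne_zero (mul_ne_zero (hx χ₁) (hx χ₂)) (hx χ₃))
  · rw [hprod, ← mul_assoc, hmain]

/-- A real valued irreducible character of odd degree has indicator one. -/
theorem fsInd_eq_one_of_odd [Fintype G] (χ : Cfsg.IrrCharacter G)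
    (hreal : ∀ g, ((χ : G → ℂ) g).im = 0) (hodd : ¬ 2 ∣ Cfsg.charDegree (χ : G → ℂ)) :
    CfsgLib.RealChar.fsInd (χ : G → ℂ) = 1 := by
  classical
  have h0 := (CfsgLib.RealChar.fsInd_ne_zero_iff χ.2).2 hreal
  refine ((CfsgLib.RealChar.fsInd_eq χ.2).resolve_left h0).resolve_right fun hm => ?_
  obtain ⟨n, ρ, hρ, hχ⟩ := χ.2
  haveI := hρ
  have hr : ∀ g, (ρ.character g).im = 0 := fun g => by rw [hχ]; exact hreal g
  obtain ⟨T, hT⟩ := CfsgLib.IndicatorForm.exists_inv_unit ρ hr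
  have h := CfsgLib.IndicatorForm.transpose_eq_indicator_smul ρ hr hT
  rw [CfsgLib.RealChar.fsInd, ← hχ] at hm
  rw [hm] at h
  have hdet := congrArg Matrix.det h
  rw [Matrix.det_transpose, Matrix.det_smul, Fintype.card_fin] at hdet
  have hn : n = Cfsg.charDegree (χ : G → ℂ) := by
    rw [← hχ]; simp [Cfsg.charDegree]
  rw [Odd.neg_one_pow (Nat.odd_iff.2 (by omega)), neg_one_mul] at hdet
  exact ((Matrix.isUnit_iff_isUnit_det _).1 T.isUnit).ne_zero (by linear_combination hdet / 2)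

/-- Complex conjugation preserves the principal block. -/
theorem conjIrr_mem {M : Ideal Cfsg.AlgInt} (hM : Cfsg.IsPModular 2 M)
    {χ : Cfsg.IrrCharacter G} (hχ : χ ∈ Cfsg.principalBlock M G) :
    CfsgLib.BlockPrincipal.conjIrr χ ∈ Cfsg.principalBlock M G := by
  have : Fact (Nat.Prime 2) := ⟨Nat.prime_two⟩
  cases nonempty_fintype G
  rw [CfsgLib.BlockPrincipal.mem_principal_iff hM] at hχ ⊢
  have e : (CfsgLib.BlockPrincipal.conjIrr χ : G → ℂ) = fun g => (χ : G → ℂ) g⁻¹ :=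
    funext fun g => CfsgLib.BlockPrincipal.conjIrr_apply χ g
  rw [e, CfsgLib.BlockPrincipal.regSum_inv]
  simpa only [inv_one] using hχ

/-- When the signs are `+, +, -` the two characters of sign `+` are conjugate. -/
theorem degree_eq {M : Ideal Cfsg.AlgInt} (hM : Cfsg.IsPModular 2 M) {P : Sylow 2 G} {J τ : G}
    (hK : IsKleinFour (P : Subgroup G)) (d : DihPairs.DihData P J τ 1)
    (χ₁ χ₂ χ₃ : Cfsg.IrrCharacter G)
    (hsum : ∀ f : Cfsg.IrrCharacter G → ℂ, ∑ χ ∈ BlockCol.pBlock M G, f χ =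
      f CfsgLib.Char.principalIrr + f χ₁ + f χ₂ + f χ₃)
    (hmem : ∀ χ, χ ∈ Cfsg.principalBlock M G →
      χ = CfsgLib.Char.principalIrr ∨ χ = χ₁ ∨ χ = χ₂ ∨ χ = χ₃)
    (h1 : χ₁ ∈ Cfsg.principalBlock M G) (h2 : χ₂ ∈ Cfsg.principalBlock M G)
    (h3 : χ₃ ∈ Cfsg.principalBlock M G)
    (hne1 : χ₁ ≠ CfsgLib.Char.principalIrr)
    (hv1 : (χ₁ : G → ℂ) J = 1) (hv2 : (χ₂ : G → ℂ) J = 1) (hv3 : (χ₃ : G → ℂ) J = -1)
    (ho1 : ¬ 2 ∣ Cfsg.charDegree (χ₁ : G → ℂ)) (ho3 : ¬ 2 ∣ Cfsg.charDegree (χ₃ : G → ℂ))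
    (ho2 : ¬ 2 ∣ Cfsg.charDegree (χ₂ : G → ℂ)) :
    Cfsg.charDegree (χ₁ : G → ℂ) = Cfsg.charDegree (χ₂ : G → ℂ) := by
  classical
  have : Fact (Nat.Prime 2) := ⟨Nat.prime_two⟩
  cases nonempty_fintype G
  haveI := hM.2.1
  haveI : Fintype (DihPairs.core (J ^ 1)) := Fintype.ofFinite _
  have hroot : ∀ o : DihPairs.core (J ^ 1),
      ∑ χ : Cfsg.IrrCharacter G, CfsgLib.RealChar.fsInd (χ : G → ℂ) * (χ : G → ℂ) (J ^ 1 * o) = 0 := by
    intro o
    rw [CfsgLib.RealChar.sum_fsInd_mul_apply, Nat.cast_eq_zero, Nat.card_eq_zero]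
    refine Or.inl ⟨fun ⟨x, hx0⟩ => ?_⟩
    have hx : x * x = J * (o : G) := hx0.trans (congrArg (· * (o : G)) (pow_one J))
    obtain ⟨m, hm⟩ : ∃ m, m = Nat.card (DihPairs.core (J ^ 1)) := ⟨_, rfl⟩
    have hodd : Odd m := by
      rw [hm, DihPairs.core, Subgroup.card_map_of_injective (Subgroup.subtype_injective _),
        Nat.odd_iff]
      have := (DihPairs.index_core d).2
      omega
    have hcomm : Commute J (o : G) := by
      have := Subgroup.mem_centralizer_singleton_iff.1 (DihPairs.core_le _ o.2)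
      exact (pow_one J).subst (motive := fun z => Commute z (o : G)) this.symm
    have ho : (o : G) ^ m = 1 := hm ▸ congrArg Subtype.val (pow_card_eq_one' (x := o))
    have hJ2 : orderOf J = 2 := by simpa using DihPairs.orderOf_J d
    have hy : (x ^ m) ^ 2 = J := by
      obtain ⟨r, hr⟩ := hodd
      rw [← pow_mul, mul_comm, pow_mul, sq, hx, hcomm.mul_pow, ho, mul_one, hr, pow_succ, pow_mul,
        sq, mul_self_eq_one hJ2, one_pow, one_mul]
    have h4 : orderOf (x ^ m) = 2 ^ 2 := by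
      refine orderOf_eq_prime_pow (p := 2) (n := 1) ?_ ?_
      · rw [pow_one, hy]; exact ne_one_of_invol hJ2
      · rw [show 2 ^ (1 + 1) = 2 * 2 by norm_num, pow_mul, hy, sq, mul_self_eq_one hJ2]
    have := KleinBlock.orderOf_dvd_two P hK h4
    rw [h4] at this
    norm_num at this
  have hblock : ∑ χ ∈ BlockCol.pBlock M G,
      CfsgLib.RealChar.fsInd (χ : G → ℂ) * (χ : G → ℂ) J = 0 := by
    obtain ⟨hcore, hcoreodd⟩ := DihPairs.index_core d
    have hproj : ∀ χ : Cfsg.IrrCharacter G, ∑ o : DihPairs.core (J ^ 1), (χ : G → ℂ) (J ^ 1 * o) =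
        if χ ∈ BlockCol.pBlock M G then
          (Nat.card (DihPairs.core (J ^ 1)) : ℂ) * (χ : G → ℂ) (J ^ 1) else 0 := fun χ =>
      DihPairs.sum_core_coset hM d (pow_one _) ⟨1, by rw [pow_one]; simpa using DihPairs.orderOf_J d⟩
        (Cfsg.pPrimeCore 2 _) hcoreodd (k := 2) (by rw [hcore]; norm_num) χ
    have h := Finset.sum_congr rfl fun o (_ : o ∈ (Finset.univ : Finset (DihPairs.core (J ^ 1)))) =>
      hroot o
    rw [Finset.sum_const_zero, Finset.sum_comm] at h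
    simp only [← Finset.mul_sum] at h
    simp only [hproj] at h
    simp only [mul_ite, mul_zero, Finset.sum_ite_mem, Finset.univ_inter, pow_one] at h
    have h' : (Nat.card (DihPairs.core J) : ℂ) * ∑ χ ∈ BlockCol.pBlock M G,
        CfsgLib.RealChar.fsInd (χ : G → ℂ) * (χ : G → ℂ) J = 0 := by
      rw [← h, Finset.mul_sum]
      exact Finset.sum_congr rfl fun χ _ => by ring
    exact (mul_eq_zero.1 h').resolve_left (Nat.cast_ne_zero.2 Nat.card_pos.ne')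
  have hp : CfsgLib.RealChar.fsInd ((CfsgLib.Char.principalIrr : Cfsg.IrrCharacter G) : G → ℂ) = 1 := by
    rw [show ((CfsgLib.Char.principalIrr : Cfsg.IrrCharacter G) : G → ℂ) = fun _ => 1 from
      funext CfsgLib.Char.principalIrr_apply]
    exact CfsgLib.RealChar.fsInd_principal
  rw [hsum, hp, CfsgLib.Char.principalIrr_apply, hv1, hv2, hv3] at hblock
  have hbar : ∀ χ : Cfsg.IrrCharacter G,
      (CfsgLib.BlockPrincipal.conjIrr χ : G → ℂ) J = (χ : G → ℂ) J := fun χ => by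
    rw [CfsgLib.BlockPrincipal.conjIrr_apply]
    exact congrArg _ (inv_eq_self (by simpa using DihPairs.orderOf_J d))
  have hreal : ∀ χ : Cfsg.IrrCharacter G, CfsgLib.BlockPrincipal.conjIrr χ = χ →
      ∀ g, ((χ : G → ℂ) g).im = 0 := fun χ h g => by
    have e : (χ : G → ℂ) g⁻¹ = (χ : G → ℂ) g := by
      rw [← CfsgLib.BlockPrincipal.conjIrr_apply, h]
    rw [CfsgLib.BlockReg.char_inv] at e
    exact Complex.conj_eq_iff_im.1 e
  have hr3 : CfsgLib.BlockPrincipal.conjIrr χ₃ = χ₃ := by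
    have hb := hbar χ₃
    rcases hmem _ (conjIrr_mem hM h3) with h | h | h | h
    · rw [h, CfsgLib.Char.principalIrr_apply, hv3] at hb; norm_num at hb
    · rw [h, hv1, hv3] at hb; norm_num at hb
    · rw [h, hv2, hv3] at hb; norm_num at hb
    · exact h
  rw [fsInd_eq_one_of_odd χ₃ (hreal _ hr3) ho3] at hblock
  have hval : ∀ χ : Cfsg.IrrCharacter G, ¬ 2 ∣ Cfsg.charDegree (χ : G → ℂ) →
      CfsgLib.BlockPrincipal.conjIrr χ = χ → CfsgLib.RealChar.fsInd (χ : G → ℂ) = 1 :=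
    fun χ ho h => fsInd_eq_one_of_odd χ (hreal χ h) ho
  rcases hmem _ (conjIrr_mem hM h1) with h | h | h | h
  · exfalso
    apply hne1
    rw [← CfsgLib.BlockPrincipal.conjIrr_involutive χ₁, h]
    apply Subtype.ext
    funext g
    rw [CfsgLib.BlockPrincipal.conjIrr_apply, CfsgLib.Char.principalIrr_apply,
      CfsgLib.Char.principalIrr_apply]
  · -- both real: the sum would be two
    exfalso
    rw [hval χ₁ ho1 h] at hblock
    rcases CfsgLib.RealChar.fsInd_eq χ₂.2 with e | e | e <;> rw [e] at hblock <;> norm_num at hblock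
    have h0 : CfsgLib.RealChar.fsInd (χ₂ : G → ℂ) ≠ 0 := by rw [e]; norm_num
    rw [fsInd_eq_one_of_odd χ₂ ((CfsgLib.RealChar.fsInd_ne_zero_iff χ₂.2).1 h0) ho2] at e
    norm_num at e
  · have h1' : (χ₂ : G → ℂ) 1 = (χ₁ : G → ℂ) 1 := by
      rw [← h, CfsgLib.BlockPrincipal.conjIrr_apply, inv_one]
    simp only [Cfsg.charDegree, h1']
  · exfalso
    have hb := hbar χ₁
    rw [h, hv1, hv3] at hb
    norm_num at hb

end CfsgLib.Invol.KleinOrder
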