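import Cfsg.Agent.Lib.Invol.Isolated
import Cfsg.Agent.Lib.Invol.Counting
import Cfsg.Agent.Lib.Solvable.Core
import Cfsg.Agent.Lib.InvChar.OneInvolution
import Cfsg.Agent.Lib.TwoFusion.DihedralIso
import Cfsg.Agent.Lib.Blocks.Osima
import Cfsg.Agent.Lib.BlockReg.Foundation
import Cfsg.Agent.Lib.BlockReg.Integral
import Cfsg.Agent.Lib.Char.Kernel
import Cfsg.Agent.S0943
import Cfsg.Agent.S1181
import Cfsg.Agent.Lib.Case.FourGroups
import Cfsg.Prelude.Def_Local
import Mathlib.GroupTheory.Transfer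

/-!
# Glauberman's Z*-theorem, reduced to a property of principal blocks and to the theorem of
Brauer and Suzuki
-/

set_option autoImplicit false

universe u

namespace CfsgLib.Invol

open scoped ComplexConjugate

/-- Principal block characters are constant on `x O(C(x))` for involutions `x`. -/
def PrincipalBlockCoreConstant : Prop :=
  ∀ (G : Type u) [Group G] [Finite G] (M : Ideal Cfsg.AlgInt), Cfsg.IsPModular 2 M →
    ∀ x v : G, orderOf x = 2 → v ∈ Cfsg.centralizerPPrimeCore 2 x →
      ∀ χ : Cfsg.IrrCharacter G, χ ∈ Cfsg.principalBlock M G →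
        (χ : G → ℂ) (x * v) = (χ : G → ℂ) x

/-- The theorem of Brauer and Suzuki on quaternion Sylow 2-subgroups, for trivial core. -/
def BrauerSuzukiCenter : Prop :=
  ∀ (G : Type u) [Group G] [Finite G] (S : Sylow 2 G) (n : ℕ),
    Nonempty ((S : Subgroup G) ≃* QuaternionGroup (2 ^ (n + 1))) → Cfsg.pPrimeCore 2 G = ⊥ →
      Nat.card (Subgroup.center G) = 2

section

variable {G : Type u} [Group G] [Finite G]

/-- An isolated involution is isolated in every subgroup containing it. -/
theorem isIsolated_subgroup {H : Subgroup G} {x : H}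
    (hx : Cfsg.IsIsolatedInvolution (x : G)) : Cfsg.IsIsolatedInvolution x :=
  ⟨by rw [← Subgroup.orderOf_coe]; exact hx.1, fun g hg => Subtype.ext (hx.2 g
    (congrArg Subtype.val (hg : x * (g * x * g⁻¹) = (g * x * g⁻¹) * x)))⟩

/-- An involution with all of its conjugates commuting with it is central if isolated. -/
theorem mem_center_of_commute_conj {x : G} (hx : Cfsg.IsIsolatedInvolution x)
    (h : ∀ g : G, Commute x (g * x * g⁻¹)) : x ∈ Subgroup.center G :=
  Subgroup.mem_center_iff.2 fun g => mul_inv_eq_iff_eq_mul.1 (hx.2 g (h g))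

/-- A group with trivial core and a cyclic Sylow 2-subgroup is a 2-group. -/
theorem eq_top_of_cyclic_sylow (heven : Even (Nat.card G)) (hO : Cfsg.pPrimeCore 2 G = ⊥)
    (S : Sylow 2 G) (hS : IsCyclic (S : Subgroup G)) : (S : Subgroup G) = ⊤ := by
  have : Fact (Nat.Prime 2) := ⟨Nat.prime_two⟩
  have hmin : (Nat.card G).minFac = 2 := by
    rw [Nat.minFac_eq_two_iff]; exact even_iff_two_dvd.1 heven
  have hle := IsCyclic.normalizer_le_centralizer hmin hS
  have hc := MonoidHom.ker_transferSylow_isComplement' S hle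
  have hcop : (Nat.card (MonoidHom.transferSylow S hle).ker).Coprime 2 := by
    rw [← Subgroup.IsComplement'.index_eq_card hc]
    exact (Nat.prime_two.coprime_iff_not_dvd.2 S.not_dvd_index).symm
  have hbot : (MonoidHom.transferSylow S hle).ker = ⊥ :=
    le_bot_iff.1 (hO ▸ CfsgLib.Solvable.le_pPrimeCore inferInstance hcop)
  rw [hbot] at hc
  exact Subgroup.isComplement'_bot_left.1 hc

/-- A representation through which `x` acts as a scalar is one-dimensional, as soon as the
conjugates of `x` generate. -/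
theorem finrank_eq_one_of_scalar {n : ℕ} (ρ : Representation ℂ G (Fin n → ℂ)) [ρ.IsIrreducible]
    {x : G} (hx : x * x = 1) (hgen : Subgroup.normalClosure ({x} : Set G) = ⊤) {ε : ℂ}
    (hε : ρ x = ε • LinearMap.id) :
    n = 1 ∧ ∀ g : G, ∃ a : ℂ, ρ g = a • LinearMap.id := by
  have hconj : ∀ g : G, ρ (g * x * g⁻¹) = ε • LinearMap.id := by
    intro g
    rw [map_mul, map_mul, hε, ← Module.End.one_eq_id, mul_smul_comm, mul_one, smul_mul_assoc,
      ← map_mul, mul_inv_cancel, map_one]
  have hall : ∀ g : G, ∃ a : ℂ, ρ g = a • LinearMap.id := by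
    intro g
    have hg : g ∈ Subgroup.closure (Group.conjugatesOfSet ({x} : Set G)) := by
      show g ∈ Subgroup.normalClosure ({x} : Set G)
      rw [hgen]; exact Subgroup.mem_top g
    have key : ∀ c ∈ Group.conjugatesOfSet ({x} : Set G), ∃ a : ℂ, ρ c = a • LinearMap.id := by
      intro c hc
      obtain ⟨y, hy, hyc⟩ := Group.mem_conjugatesOfSet_iff.1 hc
      obtain ⟨h, rfl⟩ := isConj_iff.1 hyc
      rw [Set.mem_singleton_iff] at hy
      exact ⟨ε, hy ▸ hconj h⟩
    induction hg using Subgroup.closure_induction with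
    | mem c hc => exact key c hc
    | one => exact ⟨1, by rw [map_one, one_smul]; rfl⟩
    | mul a b _ _ iha ihb =>
      obtain ⟨c, hc⟩ := iha
      obtain ⟨d, hd⟩ := ihb
      exact ⟨c * d, by rw [map_mul, hc, hd, ← Module.End.one_eq_id, smul_mul_smul_comm, one_mul]⟩
    | inv a _ iha =>
      obtain ⟨c, hc⟩ := iha
      refine ⟨c⁻¹, ?_⟩
      have h1 : ρ a⁻¹ * ρ a = 1 := by rw [← map_mul, inv_mul_cancel, map_one]
      rw [hc, ← Module.End.one_eq_id, mul_smul_comm, mul_one] at h1
      have hc0 : c ≠ 0 := by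
        rintro rfl
        haveI := CfsgLib.CharKernel.nontrivial_of_irreducible ρ
        rw [zero_smul] at h1
        exact zero_ne_one h1
      rw [← Module.End.one_eq_id, ← h1, inv_smul_smul₀ hc0]
  refine ⟨?_, hall⟩
  haveI := CfsgLib.CharKernel.nontrivial_of_irreducible ρ
  obtain ⟨v, hv⟩ := exists_ne (0 : Fin n → ℂ)
  have hW := CfsgLib.CharKernel.eq_bot_or_eq_top ρ (ℂ ∙ v) (fun g w hw => by
    obtain ⟨a, ha⟩ := hall g
    rw [ha]
    exact Submodule.smul_mem _ a hw)
  rcases hW with h | h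
  · exact absurd ((Submodule.span_singleton_eq_bot).1 h) hv
  · have h1 := finrank_span_singleton (K := ℂ) hv
    rw [h, finrank_top, Module.finrank_fin_fun] at h1
    exact h1

/-- The character-theoretic core: the relation between character values in the principal block
is impossible when the conjugates of `x` generate. -/
theorem false_of_relations [Fact (Nat.Prime 2)] {M : Ideal Cfsg.AlgInt}
    (hM : Cfsg.IsPModular 2 M) {x v : G} (hx : orderOf x = 2) (hv : orderOf v = 2)
    (hxv : orderOf (x * v) = 2) (hgen : Subgroup.normalClosure ({x} : Set G) = ⊤)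
    (h1 : ∀ χ : Cfsg.IrrCharacter G, χ ∈ Cfsg.principalBlock M G →
      (χ : G → ℂ) x * (χ : G → ℂ) v = (χ : G → ℂ) 1 * (χ : G → ℂ) (x * v))
    (h2 : ∀ χ : Cfsg.IrrCharacter G, χ ∈ Cfsg.principalBlock M G →
      (χ : G → ℂ) x * (χ : G → ℂ) (x * v) = (χ : G → ℂ) 1 * (χ : G → ℂ) v) : False := by
  classical
  haveI := hM.2.1
  set B := Cfsg.principalBlock M G with hB
  have hprinc : (CfsgLib.Char.principalIrr : Cfsg.IrrCharacter G) ∈ B :=
    CfsgLib.Blocks.principalIrr_mem_principalBlock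
  have hx2 := mul_self_eq_one hx
  -- the two linear characters
  have hlin : ∀ χ : Cfsg.IrrCharacter G, χ ∈ B → (χ : G → ℂ) v ≠ 0 →
      χ = CfsgLib.Char.principalIrr ∨ ((χ : G → ℂ) 1 = 1 ∧ (χ : G → ℂ) x = -1 ∧
        ∀ g h : G, (χ : G → ℂ) (g * h) = (χ : G → ℂ) g * (χ : G → ℂ) h) := by
    intro χ hχ hne
    have hsq : (χ : G → ℂ) x * (χ : G → ℂ) x = (χ : G → ℂ) 1 * (χ : G → ℂ) 1 := by
      apply mul_right_cancel₀ hne
      linear_combination (χ : G → ℂ) x * h1 χ hχ + (χ : G → ℂ) 1 * h2 χ hχ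
    obtain ⟨n, ρ, hρ, hχρ⟩ := χ.2
    have hd : ρ.character 1 = (n : ℂ) := by rw [Representation.char_one, Module.finrank_fin_fun]
    rw [← hχρ] at hsq
    have hε : ∃ ε : ℂ, (ε = 1 ∨ ε = -1) ∧ ρ.character x = ε * (n : ℂ) := by
      rw [hd] at hsq
      rcases mul_self_eq_mul_self_iff.1 hsq with h | h
      · exact ⟨1, Or.inl rfl, by rw [one_mul]; exact h⟩
      · exact ⟨-1, Or.inr rfl, by rw [neg_one_mul]; exact h⟩
    obtain ⟨ε, hεv, hεc⟩ := hε
    have hρx : ρ x = ε • LinearMap.id := CfsgLib.Char.eq_smul_id_of_character_eq ρ x ε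
      (by rcases hεv with rfl | rfl <;> simp) (by rw [hεc, Module.finrank_fin_fun, mul_comm])
    obtain ⟨rfl, hall⟩ := finrank_eq_one_of_scalar ρ hx2 hgen hρx
    have hscal : ∀ g, ∀ a : ℂ, ρ g = a • LinearMap.id → ρ.character g = a := by
      intro g a ha
      rw [Representation.character, ha, map_smul, LinearMap.trace_id, Module.finrank_fin_fun]
      simp
    have hmulχ : ∀ g h : G, ρ.character (g * h) = ρ.character g * ρ.character h := by
      intro g h
      obtain ⟨a, ha⟩ := hall g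
      obtain ⟨b, hb⟩ := hall h
      rw [hscal g a ha, hscal h b hb, hscal (g * h) (a * b) (by
        rw [map_mul, ha, hb, ← Module.End.one_eq_id, smul_mul_smul_comm, one_mul])]
    rcases hεv with rfl | rfl
    · left
      apply Subtype.ext
      funext g
      rw [← hχρ]
      show ρ.character g = 1
      let K : Subgroup G :=
        { carrier := {g | ρ.character g = 1}
          one_mem' := by simp [hd]
          mul_mem' := fun {a b} (ha : ρ.character a = 1) (hb : ρ.character b = 1) => by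
            show ρ.character (a * b) = 1
            rw [hmulχ, ha, hb, one_mul]
          inv_mem' := fun {a} (ha : ρ.character a = 1) => by
            show ρ.character a⁻¹ = 1
            have h := hmulχ a a⁻¹
            rw [mul_inv_cancel, hd, ha, one_mul] at h
            simpa using h.symm }
      haveI : K.Normal := ⟨fun a (ha : ρ.character a = 1) c => by
        show ρ.character (c * a * c⁻¹) = 1
        rw [ρ.char_conj, ha]⟩
      have hle : Subgroup.normalClosure ({x} : Set G) ≤ K := Subgroup.normalClosure_le_normal (by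
        rintro c rfl
        show ρ.character c = 1
        simpa using hεc)
      rw [hgen] at hle
      exact hle (Subgroup.mem_top g)
    · right
      exact ⟨by rw [← hχρ]; simpa using hd, by rw [← hχρ]; simpa using hεc,
        fun g h => by rw [← hχρ]; exact hmulχ g h⟩
  -- column orthogonality inside the block
  have horth : ∀ y : G, orderOf y = 2 →
      ∑ᶠ χ ∈ B, (χ : G → ℂ) 1 * conj ((χ : G → ℂ) y) = 0 := fun y hy =>
    CfsgLib.BlockReg.block_orthogonality hM CfsgLib.Blocks.isPBlock_principalBlock 1 y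
      (by rw [orderOf_one]; norm_num) (by rw [hy])
  have hex : ∀ y : G, orderOf y = 2 → (∀ χ ∈ B, (χ : G → ℂ) y ≠ 0 → (χ : G → ℂ) v ≠ 0) →
      ∃ χ ∈ B, (χ : G → ℂ) v ≠ 0 ∧ χ ≠ CfsgLib.Char.principalIrr ∧ (χ : G → ℂ) y = -1 := by
    intro y hy hnz
    by_contra hcon
    push Not at hcon
    -- the others in the block with nonzero value agree
    have huniq : ∀ χ ∈ B, (χ : G → ℂ) y ≠ 0 → χ ≠ CfsgLib.Char.principalIrr →
        ∀ ψ ∈ B, (ψ : G → ℂ) y ≠ 0 → ψ ≠ CfsgLib.Char.principalIrr → χ = ψ := by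
      intro χ hχ hχy hχ1 ψ hψ hψy hψ1
      obtain ⟨hχd, hχx, hχm⟩ := (hlin χ hχ (hnz χ hχ hχy)).resolve_left hχ1
      obtain ⟨hψd, hψx, hψm⟩ := (hlin ψ hψ (hnz ψ hψ hψy)).resolve_left hψ1
      apply Subtype.ext
      funext g
      let K : Subgroup G :=
        { carrier := {g | (χ : G → ℂ) g = (ψ : G → ℂ) g}
          one_mem' := hχd.trans hψd.symm
          mul_mem' := fun {a b} (ha : (χ : G → ℂ) a = (ψ : G → ℂ) a)
              (hb : (χ : G → ℂ) b = (ψ : G → ℂ) b) => by
            show (χ : G → ℂ) (a * b) = (ψ : G → ℂ) (a * b)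
            rw [hχm, hψm, ha, hb]
          inv_mem' := fun {a} (ha : (χ : G → ℂ) a = (ψ : G → ℂ) a) => by
            show (χ : G → ℂ) a⁻¹ = (ψ : G → ℂ) a⁻¹
            rw [CfsgLib.Char.IsIrrCharacter.apply_inv χ.2,
              CfsgLib.Char.IsIrrCharacter.apply_inv ψ.2, ha] }
      haveI : K.Normal := ⟨fun a (ha : (χ : G → ℂ) a = (ψ : G → ℂ) a) c => by
        show (χ : G → ℂ) (c * a * c⁻¹) = (ψ : G → ℂ) (c * a * c⁻¹)
        rw [CfsgLib.Char.IsIrrCharacter.isClassFunction χ.2 a c,
          CfsgLib.Char.IsIrrCharacter.isClassFunction ψ.2 a c, ha]⟩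
      have hle : Subgroup.normalClosure ({x} : Set G) ≤ K := Subgroup.normalClosure_le_normal (by
        rintro c rfl
        exact hχx.trans hψx.symm)
      rw [hgen] at hle
      exact hle (Subgroup.mem_top g)
    haveI : Fintype (Cfsg.IrrCharacter G) := Fintype.ofFinite _
    have hy1 : ((CfsgLib.Char.principalIrr : Cfsg.IrrCharacter G) : G → ℂ) y ≠ 0 := by
      rw [CfsgLib.Char.principalIrr_apply]; exact one_ne_zero
    have h := horth y hy
    by_cases hχ : ∃ χ ∈ B, (χ : G → ℂ) y ≠ 0 ∧ χ ≠ CfsgLib.Char.principalIrr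
    · obtain ⟨χ, hχB, hχy, hχ1⟩ := hχ
      rw [finsum_mem_eq_sum_of_inter_support_eq _ (t := {CfsgLib.Char.principalIrr, χ}) (by
        ext ψ
        simp only [Set.mem_inter_iff, Function.mem_support, Finset.coe_insert,
          Finset.coe_singleton, Set.mem_insert_iff, Set.mem_singleton_iff]
        constructor
        · rintro ⟨hψB, hψ⟩
          refine ⟨?_, hψ⟩
          by_cases hψ1 : ψ = CfsgLib.Char.principalIrr
          · exact Or.inl hψ1
          · refine Or.inr (huniq ψ hψB (fun h0 => hψ ?_) hψ1 χ hχB hχy hχ1)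
            rw [h0, map_zero, mul_zero]
        · rintro ⟨rfl | rfl, hψ⟩
          exacts [⟨hprinc, hψ⟩, ⟨hχB, hψ⟩])] at h
      rw [Finset.sum_pair hχ1.symm, CfsgLib.Char.principalIrr_apply,
        CfsgLib.Char.principalIrr_apply, map_one, mul_one] at h
      obtain ⟨hχd, -, -⟩ := (hlin χ hχB (hnz χ hχB hχy)).resolve_left hχ1
      rw [hχd, one_mul] at h
      apply hcon χ hχB (hnz χ hχB hχy) hχ1
      have h' : conj ((χ : G → ℂ) y) = -1 := by linear_combination h
      rw [← Complex.conj_conj ((χ : G → ℂ) y), h', map_neg, map_one]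
    · push Not at hχ
      rw [finsum_mem_eq_sum_of_inter_support_eq _ (t := {CfsgLib.Char.principalIrr}) (by
        ext ψ
        simp only [Set.mem_inter_iff, Function.mem_support, Finset.coe_singleton,
          Set.mem_singleton_iff]
        constructor
        · rintro ⟨hψB, hψ⟩
          refine ⟨hχ ψ hψB (fun h0 => hψ ?_), hψ⟩
          rw [h0, map_zero, mul_zero]
        · rintro ⟨rfl, hψ⟩
          exact ⟨hprinc, hψ⟩)] at h
      simp [CfsgLib.Char.principalIrr_apply] at h
  obtain ⟨χ, hχB, hχv0, hχ1, hχv⟩ := hex v hv (fun _ _ h => h)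
  obtain ⟨ψ, hψB, hψv0, hψ1, hψw⟩ := hex (x * v) hxv (fun ψ hψ h h0 => by
    have he := h1 ψ hψ
    rw [h0, mul_zero] at he
    exact h ((mul_eq_zero.1 he.symm).resolve_left (CfsgLib.Char.IsIrrCharacter.apply_one_ne_zero ψ.2)))
  obtain ⟨hχd, hχx, hχm⟩ := (hlin χ hχB hχv0).resolve_left hχ1
  obtain ⟨hψd, hψx, hψm⟩ := (hlin ψ hψB hψv0).resolve_left hψ1
  -- both are the sign character
  have hχψ : (χ : G → ℂ) v = (ψ : G → ℂ) v := by
    let K : Subgroup G :=
      { carrier := {g | (χ : G → ℂ) g = (ψ : G → ℂ) g}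
        one_mem' := hχd.trans hψd.symm
        mul_mem' := fun {a b} (ha : (χ : G → ℂ) a = (ψ : G → ℂ) a)
            (hb : (χ : G → ℂ) b = (ψ : G → ℂ) b) => by
          show (χ : G → ℂ) (a * b) = (ψ : G → ℂ) (a * b)
          rw [hχm, hψm, ha, hb]
        inv_mem' := fun {a} (ha : (χ : G → ℂ) a = (ψ : G → ℂ) a) => by
          show (χ : G → ℂ) a⁻¹ = (ψ : G → ℂ) a⁻¹
          rw [CfsgLib.Char.IsIrrCharacter.apply_inv χ.2,
            CfsgLib.Char.IsIrrCharacter.apply_inv ψ.2, ha] }
    haveI : K.Normal := ⟨fun a (ha : (χ : G → ℂ) a = (ψ : G → ℂ) a) c => by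
      show (χ : G → ℂ) (c * a * c⁻¹) = (ψ : G → ℂ) (c * a * c⁻¹)
      rw [CfsgLib.Char.IsIrrCharacter.isClassFunction χ.2 a c,
        CfsgLib.Char.IsIrrCharacter.isClassFunction ψ.2 a c, ha]⟩
    have hle : Subgroup.normalClosure ({x} : Set G) ≤ K := Subgroup.normalClosure_le_normal (by
      rintro c rfl
      exact hχx.trans hψx.symm)
    rw [hgen] at hle
    exact hle (Subgroup.mem_top v)
  rw [hψm, hψx, ← hχψ, hχv] at hψw
  norm_num at hψw

end

/-- Glauberman's Z*-theorem, from the two inputs. -/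
theorem zStar_of (h942 : PrincipalBlockCoreConstant.{u}) (hBS : BrauerSuzukiCenter.{u}) :
    ∀ (G : Type u) [Group G] [Finite G] (x : G), Cfsg.IsIsolatedInvolution x →
      ∀ g : G, x * g * x⁻¹ * g⁻¹ ∈ Cfsg.pPrimeCore 2 G := by
  intro G _ _
  induction hn : Nat.card G using Nat.strong_induction_on generalizing G with
  | _ n ih =>
  subst hn
  intro x hiso
  have hx := hiso.1
  have hx2 := mul_self_eq_one hx
  have : Fact (Nat.Prime 2) := ⟨Nat.prime_two⟩
  haveI hCn := CfsgLib.Solvable.pPrimeCore_normal 2 G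
  have hcop := CfsgLib.Solvable.pPrimeCore_card_coprime 2 G
  by_cases hO : Cfsg.pPrimeCore 2 G = ⊥
  swap
  · -- pass to the quotient by the core
    set O := Cfsg.pPrimeCore 2 G with hOdef
    have hxO : x ∉ O := fun h => by
      have := orderOf_dvd_natCard (⟨x, h⟩ : O)
      rw [Subgroup.orderOf_mk, hx] at this
      exact Nat.prime_two.coprime_iff_not_dvd.1 hcop.symm this
    have hlt : Nat.card (G ⧸ O) < Nat.card G := by
      have h1 : 1 < Nat.card O := O.one_lt_card_iff_ne_bot.2 hO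
      rw [Subgroup.card_eq_card_quotient_mul_card_subgroup O]
      exact lt_mul_of_one_lt_right Nat.card_pos h1
    intro g
    have h := ih _ hlt (G ⧸ O) rfl _ (Cfsg.Agent.S1181.result x hiso O hxO).2 (g : G ⧸ O)
    rw [CfsgLib.Solvable.pPrimeCore_quotient_eq_bot O hOdef, Subgroup.mem_bot] at h
    exact (QuotientGroup.eq_one_iff _).1 (by simpa using h)
  suffices hc : x ∈ Subgroup.center G by
    intro g
    rw [← Subgroup.mem_center_iff.1 hc g, mul_inv_cancel_right, mul_inv_cancel]
    exact one_mem _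
  -- subgroups
  have hsub : ∀ H : Subgroup G, H ≠ ⊤ → ∀ y : H, (y : G) = x → ∀ g : H,
      y * g * y⁻¹ * g⁻¹ ∈ Cfsg.pPrimeCore 2 H := by
    intro H hH y hy g
    have hlt : Nat.card H < Nat.card G := by
      refine lt_of_le_of_ne (Subgroup.card_le_card_group H) fun h => hH ?_
      exact Subgroup.eq_top_of_card_eq H h
    exact ih _ hlt H rfl y (isIsolated_subgroup (hy.symm ▸ hiso)) g
  -- the conjugates of `x` generate
  by_cases hgen : Subgroup.normalClosure ({x} : Set G) = ⊤
  swap
  · apply mem_center_of_commute_conj hiso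
    intro g
    set N := Subgroup.normalClosure ({x} : Set G)
    have hxN : x ∈ N := Subgroup.subset_normalClosure rfl
    have hgN : g * x * g⁻¹ ∈ N := Subgroup.normalClosure_normal.conj_mem x hxN g
    have h := hsub N hgen ⟨x, hxN⟩ rfl ⟨_, hgN⟩
    have h' := CfsgLib.Solvable.map_subtype_pPrimeCore_le (p := 2) N ⟨_, h, rfl⟩
    rw [hO, Subgroup.mem_bot] at h'
    have h'' : x * (g * x * g⁻¹) * x⁻¹ * (g * x * g⁻¹)⁻¹ = 1 := h'
    rwa [mul_inv_eq_one, mul_inv_eq_iff_eq_mul] at h''
  -- central involutions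
  by_cases hZ : ∃ w : G, orderOf w = 2 ∧ w ∈ Subgroup.center G
  · obtain ⟨w, hw, hwc⟩ := hZ
    by_cases hwx : x = w
    · rwa [hwx]
    have hW : (Subgroup.zpowers w).Normal := ⟨fun a ha g => by
      rw [Subgroup.mem_center_iff.1 ((Subgroup.zpowers_le.2 hwc) ha) g, mul_inv_cancel_right]
      exact ha⟩
    have hxW : x ∉ Subgroup.zpowers w := by
      intro h
      classical
      obtain ⟨i, hi, hie⟩ :=
        Finset.mem_image.1 ((mem_zpowers_iff_mem_range_orderOf (x := w)).1 h)
      rw [Finset.mem_range, hw] at hi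
      interval_cases i
      · exact ne_one_of_invol hx (by simpa using hie.symm)
      · exact hwx (by simpa using hie.symm)
    have hlt : Nat.card (G ⧸ Subgroup.zpowers w) < Nat.card G := by
      rw [Subgroup.card_eq_card_quotient_mul_card_subgroup (Subgroup.zpowers w),
        Nat.card_zpowers, hw]
      have : 0 < Nat.card (G ⧸ Subgroup.zpowers w) := Nat.card_pos
      omega
    have hq := (Cfsg.Agent.S1181.result x hiso _ hxW).2
    have hcomm := ih _ hlt (G ⧸ Subgroup.zpowers w) rfl _ hq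
    set P := (Cfsg.pPrimeCore 2 (G ⧸ Subgroup.zpowers w)).comap
      (QuotientGroup.mk' (Subgroup.zpowers w)) with hP
    apply mem_center_of_commute_conj hiso
    intro g
    have hodd := CfsgLib.TwoFusion.Isolated.odd_orderOf_conj_mul hiso g
    set c := g * x * g⁻¹ * x with hc
    have hcP : c ∈ P := by
      have h := hcomm (g : G ⧸ Subgroup.zpowers w)
      have h' : x * g * x⁻¹ * g⁻¹ ∈ P := by
        rw [hP, Subgroup.mem_comap, QuotientGroup.mk'_apply]
        simpa using h
      have e : c = (x * g * x⁻¹ * g⁻¹)⁻¹ := by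
        rw [hc]; nth_rw 2 [← inv_eq_self hx]; group
      rw [e]; exact inv_mem h'
    -- the elements of odd order of `P` form a normal subgroup of odd order
    haveI := CfsgLib.Solvable.pPrimeCore_normal 2 (G ⧸ Subgroup.zpowers w)
    haveI hPn : P.Normal := hP ▸ Subgroup.Normal.comap inferInstance _
    set Q := Cfsg.pPrimeCore 2 (G ⧸ Subgroup.zpowers w)
    obtain ⟨k, hk⟩ : Odd (Nat.card Q) :=
      Nat.coprime_two_right.1 (CfsgLib.Solvable.pPrimeCore_card_coprime 2 _)
    have hpow : ∀ a ∈ P, a ^ (2 * k + 1) ∈ Subgroup.zpowers w := by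
      intro a ha
      rw [← QuotientGroup.eq_one_iff, QuotientGroup.mk_pow, ← hk]
      have h : (⟨(a : G ⧸ Subgroup.zpowers w), ha⟩ : Q) ^ Nat.card Q = 1 := pow_card_eq_one'
      exact congrArg Subtype.val h
    have hPcard : Nat.card P = 2 * (2 * k + 1) := by
      have e : Nat.card P * P.index = Nat.card G := Subgroup.card_mul_index P
      rw [hP, Subgroup.index_comap_of_surjective _ (QuotientGroup.mk'_surjective _), ← hP,
        Subgroup.card_eq_card_quotient_mul_card_subgroup (Subgroup.zpowers w), Nat.card_zpowers, hw,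
        ← Subgroup.card_mul_index Q, hk] at e
      have hpos : 0 < Q.index := Nat.pos_of_ne_zero Subgroup.index_ne_zero_of_finite
      apply Nat.eq_of_mul_eq_mul_right hpos
      rw [e]; ring
    have hwP : (Subgroup.zpowers w) ≤ P := fun a ha => by
      rw [hP, Subgroup.mem_comap, QuotientGroup.mk'_apply, (QuotientGroup.eq_one_iff a).2 ha]
      exact one_mem _
    have hcop' : Nat.Coprime (Nat.card ((Subgroup.zpowers w).subgroupOf P))
        ((Subgroup.zpowers w).subgroupOf P).index := by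
      have h1 : Nat.card ((Subgroup.zpowers w).subgroupOf P) = 2 := by
        rw [Nat.card_congr (Subgroup.subgroupOfEquivOfLe hwP).toEquiv, Nat.card_zpowers, hw]
      have h2 := Subgroup.card_mul_index ((Subgroup.zpowers w).subgroupOf P)
      rw [h1, hPcard] at h2
      rw [h1, show ((Subgroup.zpowers w).subgroupOf P).index = 2 * k + 1 by omega]
      exact Nat.coprime_two_left.2 ⟨k, rfl⟩
    haveI : ((Subgroup.zpowers w).subgroupOf P).Normal := hW.subgroupOf P
    obtain ⟨K₀, hK₀⟩ := Subgroup.exists_right_complement'_of_coprime hcop'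
    have hKcard : Nat.card K₀ = 2 * k + 1 := by
      have h := hK₀.card_mul
      rw [Nat.card_congr (Subgroup.subgroupOfEquivOfLe hwP).toEquiv, Nat.card_zpowers, hw,
        hPcard] at h
      omega
    -- odd order elements of `P` lie in `K₀`
    have hmemK : ∀ a : P, Odd (orderOf a) → a ∈ K₀ := by
      intro a ha
      obtain ⟨⟨⟨b, hb⟩, ⟨d, hd⟩⟩, hbd, -⟩ := hK₀.existsUnique a
      have hbd' : b * d = a := hbd
      have hbc : ∀ e : P, Commute b e := fun e => Subtype.ext
        ((Subgroup.mem_center_iff.1 ((Subgroup.zpowers_le.2 hwc) hb) e).symm)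
      have hb2 : b * b = 1 := Subtype.ext (by
        obtain ⟨i, hi⟩ := Subgroup.mem_zpowers_iff.1 hb
        show (b : G) * b = 1
        have e : w ^ i = (b : G) := hi
        rw [← e, ← zpow_add, ← two_mul, zpow_mul, zpow_two, mul_self_eq_one hw, one_zpow])
      obtain ⟨j, hj⟩ := ha
      have hd1 : d ^ (2 * k + 1) = 1 := by
        rw [← hKcard]
        exact congrArg Subtype.val (pow_card_eq_one' (x := (⟨d, hd⟩ : K₀)))
      have h1 : a ^ ((2 * k + 1) * (2 * j + 1)) = 1 := by
        rw [mul_comm, pow_mul, ← hj, pow_orderOf_eq_one, one_pow]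
      rw [← hbd', (hbc d).mul_pow, pow_mul d, hd1, one_pow, mul_one,
        show (2 * k + 1) * (2 * j + 1) = 2 * (2 * k * j + k + j) + 1 by ring, pow_succ, pow_mul,
        pow_two, hb2, one_pow, one_mul] at h1
      rw [← hbd', h1, one_mul]
      exact hd
    set K := K₀.map P.subtype with hKdef
    have hKn : K.Normal := by
      refine ⟨fun a ha g => ?_⟩
      obtain ⟨a, ha', rfl⟩ := ha
      refine ⟨⟨g * (a : G) * g⁻¹, hPn.conj_mem _ a.2 g⟩, hmemK _ ?_, rfl⟩
      rw [← Subgroup.orderOf_coe]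
      show Odd (orderOf (g * (a : G) * g⁻¹))
      rw [orderOf_conj, Subgroup.orderOf_coe]
      have hd := orderOf_dvd_natCard (⟨a, ha'⟩ : K₀)
      rw [Subgroup.orderOf_mk, hKcard] at hd
      exact Odd.of_dvd_nat ⟨k, rfl⟩ hd
    have hKcop : (Nat.card K).Coprime 2 := by
      rw [hKdef, Subgroup.card_map_of_injective P.subtype_injective, hKcard]
      exact Nat.coprime_two_right.2 ⟨k, rfl⟩
    have hKbot : K = ⊥ := le_bot_iff.1 (hO ▸ CfsgLib.Solvable.le_pPrimeCore hKn hKcop)
    have hcK : c ∈ K := ⟨⟨c, hcP⟩, hmemK _ (by rw [Subgroup.orderOf_mk]; exact hodd), rfl⟩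
    rw [hKbot, Subgroup.mem_bot, hc, mul_eq_one_iff_eq_inv, inv_eq_self hx] at hcK
    rw [hcK]
  exfalso
  push Not at hZ
  -- a second involution centralising `x`
  obtain ⟨S, hS⟩ := (IsPGroup.of_card (G := Subgroup.zpowers x) (p := 2) (n := 1)
    (by rw [Nat.card_zpowers, hx, pow_one])).exists_le_sylow
  have hxS : x ∈ (S : Subgroup G) := hS (Subgroup.mem_zpowers x)
  obtain ⟨v, hvS, hv, hvx⟩ : ∃ v ∈ (S : Subgroup G), orderOf v = 2 ∧ v ≠ x := by
    by_contra hcon
    push Not at hcon
    have huniq : ∃! y : (S : Subgroup G), orderOf y = 2 :=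
      ⟨⟨x, hxS⟩, by show orderOf (⟨x, hxS⟩ : (S : Subgroup G)) = 2; rw [Subgroup.orderOf_mk]; exact hx,
        fun y hy => Subtype.ext (hcon y y.2 (by rw [Subgroup.orderOf_coe]; exact hy))⟩
    have heven : Even (Nat.card G) := even_iff_two_dvd.2 (hx ▸ orderOf_dvd_natCard x)
    have hcyc : IsCyclic (S : Subgroup G) → False := by
      intro hc
      have htop := eq_top_of_cyclic_sylow heven hO S hc
      refine hZ x hx (Subgroup.mem_center_iff.2 fun g => ?_)
      have hg : g ∈ (S : Subgroup G) := htop ▸ Subgroup.mem_top g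
      letI := IsCyclic.commGroup (α := (S : Subgroup G))
      exact congrArg Subtype.val (mul_comm (⟨g, hg⟩ : (S : Subgroup G)) ⟨x, hxS⟩)
    by_cases hab : IsMulCommutative (S : Subgroup G)
    · apply hcyc
      have : IsMulCommutative (⊤ : Subgroup (S : Subgroup G)) :=
        ⟨⟨fun a b => Subtype.ext (hab.is_comm.comm _ _)⟩⟩
      obtain ⟨a, ha⟩ := CfsgLib.InvChar.exists_zpowers_eq_of_commutative S.isPGroup' huniq ⊤ this
      exact ⟨a, fun b => Subgroup.mem_zpowers_iff.1 (by rw [ha]; exact Subgroup.mem_top b)⟩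
    · obtain ⟨k, a, hk, ha, hidx, hy⟩ :=
        CfsgLib.InvChar.exists_cyclic_index_two_of_unique_involution S.isPGroup' hab huniq
      obtain ⟨b, hb⟩ : ∃ b : (S : Subgroup G), b ∉ Subgroup.zpowers a := by
        by_contra hall
        push Not at hall
        rw [(Subgroup.eq_top_iff' _).2 hall, Subgroup.index_top] at hidx
        exact absurd hidx (by norm_num)
      obtain ⟨hba, hbb⟩ := hy b hb
      have hD : ∀ g : (S : Subgroup G),
          g ∈ (⊤ : Subgroup (S : Subgroup G)) ↔ ∃ i : ℤ, g = a ^ i ∨ g = b * a ^ i := by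
        refine fun g => ⟨fun _ => ?_, fun _ => trivial⟩
        by_cases hg : g ∈ Subgroup.zpowers a
        · obtain ⟨i, hi⟩ := Subgroup.mem_zpowers_iff.1 hg
          exact ⟨i, Or.inl hi.symm⟩
        · have hm : b⁻¹ * g ∈ Subgroup.zpowers a :=
            (Subgroup.mul_mem_iff_of_index_two hidx).2 ⟨fun h => absurd (inv_mem_iff.1 h) hb,
              fun h => absurd h hg⟩
          obtain ⟨i, hi⟩ := Subgroup.mem_zpowers_iff.1 hm
          exact ⟨i, Or.inr (by rw [hi, mul_inv_cancel_left])⟩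
      obtain ⟨e⟩ := CfsgLib.TwoFusion.exists_quaternion_mulEquiv (m := 2 ^ (k - 1))
        (Nat.two_pow_pos _) (a := a) (b := b)
        (by rw [ha, ← pow_succ']; congr 1; omega) hbb hba hb ⊤ hD
      obtain ⟨j, rfl⟩ : ∃ j, k = j + 2 := ⟨k - 2, by omega⟩
      have hcent := hBS G S j ⟨Subgroup.topEquiv.symm.trans e⟩ hO
      obtain ⟨z, hz⟩ := exists_prime_orderOf_dvd_card' 2 (G := Subgroup.center G) (by rw [hcent])
      exact hZ z (by rw [Subgroup.orderOf_coe]; exact hz) z.2
  have hcxv : Commute x v :=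
    (CfsgLib.TwoFusion.Isolated.commute_of_mem_two_group hiso S.isPGroup' hxS hvS).symm
  have hw2 : orderOf (x * v) = 2 := by
    refine orderOf_eq_two ?_ ?_
    · intro h
      exact hvx ((eq_inv_of_mul_eq_one_right h).trans (inv_eq_self hx))
    · rw [hcxv.symm.mul_mul_mul_comm, hx2, mul_self_eq_one hv, one_mul]
  obtain ⟨M, hM⟩ := CfsgLib.BlockReg.exists_isPModular Nat.prime_two
  -- the key relation
  have hrel : ∀ v : G, orderOf v = 2 → Commute x v → v ≠ x → ∀ χ : Cfsg.IrrCharacter G,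
      χ ∈ Cfsg.principalBlock M G →
      (χ : G → ℂ) x * (χ : G → ℂ) v = (χ : G → ℂ) 1 * (χ : G → ℂ) (x * v) := by
    intro v hv hcv hvx χ hχ
    apply Cfsg.Agent.S0943.result
    intro a b ha hb
    have hclass := CfsgLib.Char.IsIrrCharacter.isClassFunction χ.2
    obtain ⟨p, rfl⟩ := isConj_iff.1 ha
    rw [show (χ : G → ℂ) (p * x * p⁻¹ * b) = (χ : G → ℂ) (x * (p⁻¹ * b * p)) by
      conv_lhs => rw [show p * x * p⁻¹ * b = p * (x * (p⁻¹ * b * p)) * p⁻¹ by group]
      exact hclass _ _]
    set y := p⁻¹ * b * p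
    have hyv : IsConj v y := hb.trans (isConj_iff.2 ⟨p⁻¹, by simp [y]⟩)
    have hy := orderOf_eq_two_of_isConj hv hyv
    have hxvnc : ¬ IsConj v x := by
      intro h
      obtain ⟨q, hq⟩ := isConj_iff.1 h
      have := hiso.2 q⁻¹ (by
        rw [show q⁻¹ * x * q⁻¹⁻¹ = v by rw [← hq]; group]
        exact hcv)
      rw [show q⁻¹ * x * q⁻¹⁻¹ = v by rw [← hq]; group] at this
      exact hvx this
    have hync : ¬ IsConj y x := fun h => hxvnc (hyv.trans h)
    have hmod := orderOf_mul_mod_four hiso hy hync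
    have hyx : orderOf (x * y) = orderOf (y * x) := by
      rw [← orderOf_inv (y * x), mul_inv_rev, inv_eq_self hx, inv_eq_self hy]
    rw [← hyx] at hmod
    set r := x * y with hr
    obtain ⟨j, hj⟩ : ∃ j, orderOf r = 2 * (2 * j + 1) := ⟨orderOf r / 4, by omega⟩
    have hev : Even (orderOf r) := ⟨2 * j + 1, by omega⟩
    set z := r ^ (orderOf r / 2) with hz
    have hz2 : orderOf z = 2 := middle_orderOf hev (orderOf_pos _)
    obtain ⟨hzx, hzy⟩ := middle_commute hx2 (mul_self_eq_one hy) hev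
    have hrm : orderOf r / 2 = 2 * j + 1 := by omega
    -- the odd part
    set w := z * r with hw
    have hwodd : Odd (orderOf w) := by
      refine Odd.of_dvd_nat (⟨j, rfl⟩ : Odd (2 * j + 1)) (orderOf_dvd_of_pow_eq_one ?_)
      rw [hw, hz, hrm, ← pow_succ, ← pow_mul,
        show (2 * j + 1 + 1) * (2 * j + 1) = orderOf r * (j + 1) by rw [hj]; ring, pow_mul,
        pow_orderOf_eq_one, one_pow]
    have hzw : z * w = r := by rw [hw, ← mul_assoc, mul_self_eq_one hz2, one_mul]
    -- `w` lies in the core of `C(z)`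
    set C := Subgroup.centralizer ({z} : Set G) with hC
    have hCne : C ≠ ⊤ := fun h => hZ z hz2 (Subgroup.mem_center_iff.2 fun g =>
      Subgroup.mem_centralizer_singleton_iff.1 (by rw [← hC, h]; exact Subgroup.mem_top g))
    have hxC : x ∈ C := Subgroup.mem_centralizer_singleton_iff.2 hzx.eq.symm
    have hwC : w ∈ C := Subgroup.mem_centralizer_singleton_iff.2
      (((Commute.refl z).mul_right (hzx.mul_right hzy)).eq.symm)
    have hwx : x * w * x⁻¹ = w⁻¹ := by
      have h1 : x * r * x⁻¹ = r⁻¹ := conj_prod hx2 (mul_self_eq_one hy)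
      have h2 : Commute z r := hzx.mul_right hzy
      calc x * w * x⁻¹ = (x * z * x⁻¹) * (x * r * x⁻¹) := by rw [hw]; group
        _ = z * r⁻¹ := by rw [h1, hzx.symm.eq, mul_inv_cancel_right]
        _ = w⁻¹ := by
          rw [h2.inv_right.eq, eq_comm, inv_eq_iff_mul_eq_one, hw, mul_assoc, ← mul_assoc r,
            mul_inv_cancel, one_mul, mul_self_eq_one hz2]
    have h := hsub C hCne ⟨x, hxC⟩ rfl ⟨w, hwC⟩
    have hmem : (⟨w, hwC⟩ : C) ∈ Cfsg.pPrimeCore 2 C := by
      obtain ⟨i, hi⟩ := hwodd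
      have e : (⟨w, hwC⟩ : C) =
          ((⟨x, hxC⟩ * ⟨w, hwC⟩ * (⟨x, hxC⟩ : C)⁻¹ * (⟨w, hwC⟩ : C)⁻¹)⁻¹) ^ (i + 1) := by
        apply Subtype.ext
        show w = (((x * w * x⁻¹ * w⁻¹)⁻¹) ^ (i + 1))
        rw [hwx, mul_inv_rev, inv_inv, ← pow_two, ← pow_mul,
          show 2 * (i + 1) = orderOf w + 1 by omega, pow_succ, pow_orderOf_eq_one, one_mul]
      rw [e]
      exact Subgroup.pow_mem _ (inv_mem h) _
    have h942' := h942 G M hM z w hz2 ⟨_, hmem, rfl⟩ χ hχ
    rw [hzw] at h942'
    rw [h942']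
    -- identify the class of `z`
    have hy' : IsConj v (x * z) := by
      refine hyv.trans (isConj_iff.2 ⟨r ^ (-(j : ℤ)), ?_⟩)
      have h1 := conj_prod hx2 (mul_self_eq_one hy)
      rw [← hr] at h1
      have ey : y = x * r ^ (1 : ℤ) := right_eq y hx2
      rw [hz, hrm, ey, ← mul_assoc (r ^ (-(j : ℤ))), zpow_mul_of_inverts h1, ← zpow_neg,
        mul_assoc x, mul_assoc x, ← zpow_add, ← zpow_add, ← zpow_natCast]
      congr 2
      push_cast
      ring
    obtain ⟨q, hq⟩ := isConj_iff.1 hy'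
    obtain ⟨c, -, hcx, hcq⟩ := CfsgLib.TwoFusion.Isolated.fusion_in_centralizer hiso (H := ⊤)
      (Subgroup.mem_normalizer_iff.2 fun a => by simp) hcv.symm
      (((Commute.refl x).mul_right hzx.symm).symm) (Subgroup.mem_top q) hq
    have hcc : c * (x * v) * c⁻¹ = z := by
      calc c * (x * v) * c⁻¹ = (c * x * c⁻¹) * (c * v * c⁻¹) := by group
        _ = x * (x * z) := by rw [hcq, hcx.eq, mul_inv_cancel_right]
        _ = z := by rw [← mul_assoc, hx2, one_mul]
    rw [← hcc]
    exact hclass _ _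
  exact false_of_relations hM hx hv hw2 hgen (hrel v hv hcxv hvx) (fun χ hχ => by
    have h := hrel (x * v) hw2 ((Commute.refl x).mul_right hcxv) (fun h => by
      exact ne_one_of_invol hv (mul_left_cancel (h.trans (mul_one x).symm))) χ hχ
    rwa [← mul_assoc x x v, hx2, one_mul] at h)

/-- The Z*-theorem in the Sylow formulation. -/
theorem zStar_sylow_of (h942 : PrincipalBlockCoreConstant.{u}) (hBS : BrauerSuzukiCenter.{u})
    {G : Type u} [Group G] [Finite G] (P : Sylow 2 G) (x : G) (hx : orderOf x = 2)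
    (hiso : ∀ g : G, g * x * g⁻¹ ∈ P → g * x * g⁻¹ = x) :
    ∃ N : Subgroup G, N.Normal ∧ Odd (Nat.card N) ∧ ∀ g : G, x * g * x⁻¹ * g⁻¹ ∈ N :=
  ⟨Cfsg.pPrimeCore 2 G, CfsgLib.Solvable.pPrimeCore_normal 2 G,
    Nat.coprime_two_right.1 (CfsgLib.Solvable.pPrimeCore_card_coprime 2 G),
    zStar_of h942 hBS G x (isIsolatedInvolution_of_sylow P hx hiso)⟩

/-- In a group without four-subgroups every involution is isolated. -/
theorem isIsolatedInvolution_of_no_klein {G : Type u} [Group G]
    (hrank : ∀ E : Subgroup G, ¬ IsKleinFour E) {x : G} (hx : orderOf x = 2) :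
    Cfsg.IsIsolatedInvolution x := by
  refine ⟨hx, fun g hg => ?_⟩
  by_contra hne
  have hy : orderOf (g * x * g⁻¹) = 2 := by rw [orderOf_conj, hx]
  exact hrank _ (CfsgLib.Case.isKleinFour_fourSub (ha := mul_self_eq_one hx)
    (hb := mul_self_eq_one hy) (hc := hg.eq) (ne_one_of_invol hx) (ne_one_of_invol hy)
    (fun h => hne h.symm))

/-- Groups of 2-rank one have an involution central modulo the core. -/
theorem exists_central_mod_core_of (h942 : PrincipalBlockCoreConstant.{u})
    (hBS : BrauerSuzukiCenter.{u}) {G : Type u} [Group G] [Finite G] (heven : Even (Nat.card G))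
    (hrank : ∀ E : Subgroup G, ¬ IsKleinFour E) :
    ∃ z : G, orderOf z = 2 ∧ ∃ N : Subgroup G, N.Normal ∧ Odd (Nat.card N) ∧
      ∀ g : G, z * g * z⁻¹ * g⁻¹ ∈ N := by
  have : Fact (Nat.Prime 2) := ⟨Nat.prime_two⟩
  obtain ⟨z, hz⟩ := exists_prime_orderOf_dvd_card' 2 (G := G) (even_iff_two_dvd.1 heven)
  exact ⟨z, hz, _, CfsgLib.Solvable.pPrimeCore_normal 2 G,
    Nat.coprime_two_right.1 (CfsgLib.Solvable.pPrimeCore_card_coprime 2 G),
    zStar_of h942 hBS G z (isIsolatedInvolution_of_no_klein hrank hz)⟩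

end CfsgLib.Invol
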