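import Cfsg.Agent.Lib.BlockRank.Subsection
import Cfsg.Agent.Lib.BlockPrincipal.Criterion
import Cfsg.Agent.Lib.Blk83.PrincipalKernel
import Cfsg.Agent.S0936
import Cfsg.Agent.S0942

/-!
# Columns of the principal block at the elements of a `p`-section
-/

set_option autoImplicit false

open scoped ComplexConjugate

namespace CfsgLib.Invol.BlockCol

universe u

variable {G : Type u} [Group G] [Finite G] {p : ℕ} {M : Ideal Cfsg.AlgInt}

/-- The principal block as a finite set. -/
noncomputable def pBlock (M : Ideal Cfsg.AlgInt) (G : Type u) [Group G] [Finite G] :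
    Finset (Cfsg.IrrCharacter G) :=
  (Set.toFinite (Cfsg.principalBlock M G)).toFinset

theorem mem_pBlock {χ : Cfsg.IrrCharacter G} :
    χ ∈ pBlock M G ↔ χ ∈ Cfsg.principalBlock M G :=
  Set.Finite.mem_toFinset _

theorem coe_pBlock : (pBlock M G : Set (Cfsg.IrrCharacter G)) = Cfsg.principalBlock M G :=
  Set.Finite.coe_toFinset _

theorem finsum_principal {R : Type*} [AddCommMonoid R] (f : Cfsg.IrrCharacter G → R) :
    ∑ᶠ χ ∈ Cfsg.principalBlock M G, f χ = ∑ χ ∈ pBlock M G, f χ :=
  finsum_mem_eq_finite_toFinset_sum _ _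

/-- The projection of a translated character to the principal block of the centraliser. -/
theorem blockPart_translate [Fact p.Prime] (hM : Cfsg.IsPModular p M) {x : G}
    (hx : ∃ k : ℕ, orderOf x = p ^ k) [Fintype (Subgroup.centralizer ({x} : Set G))]
    (χ : Cfsg.IrrCharacter G) [Decidable (χ ∈ pBlock M G)]
    (y : Subgroup.centralizer ({x} : Set G)) (hy : ¬ p ∣ orderOf y) :
    Cfsg.blockPart (Cfsg.principalBlock M (Subgroup.centralizer ({x} : Set G)))
        (fun c : Subgroup.centralizer ({x} : Set G) => (χ : G → ℂ) (x * (c : G))) y =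
      if χ ∈ pBlock M G then (χ : G → ℂ) (x * (y : G)) else 0 := by
  classical
  haveI := hM.2.1
  cases nonempty_fintype G
  have hb₀ : Cfsg.IsPBlock M (Cfsg.principalBlock M (Subgroup.centralizer ({x} : Set G))) := CfsgLib.Blocks.isPBlock_principalBlock
  obtain ⟨B', hB'⟩ := CfsgLib.BlockRank.exists_isInducedBlock_centralizer hM rfl hx hb₀
  have hind : Cfsg.IsInducedBlock M (Subgroup.centralizer ({x} : Set G)) (Cfsg.principalBlock M (Subgroup.centralizer ({x} : Set G))) (Cfsg.principalBlock M G) :=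
    (Cfsg.Agent.S0936.result p M hM (Subgroup.centralizer ({x} : Set G)) _ ⟨B', hB'⟩).2 rfl
  split_ifs with hχ
  · rw [mem_pBlock] at hχ
    have hθ : Cfsg.IsClassFunction (Subgroup.centralizer ({x} : Set G)) (fun c : (Subgroup.centralizer ({x} : Set G)) => (χ : G → ℂ) (x * (c : G))) :=
      CfsgLib.BlockRank.isClassFunction_translate rfl χ
    haveI : Fintype {B : Set (Cfsg.IrrCharacter (Subgroup.centralizer ({x} : Set G))) // Cfsg.IsPBlock M B} := Fintype.ofFinite _
    have h := CfsgLib.BlockRank.sum_blockPart_blocks hM hθ y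
    rw [Finset.sum_eq_single
      (⟨Cfsg.principalBlock M (Subgroup.centralizer ({x} : Set G)), hb₀⟩ : {B : Set (Cfsg.IrrCharacter (Subgroup.centralizer ({x} : Set G))) // Cfsg.IsPBlock M B})
      (fun e _ hne => ?_) (fun h => absurd (Finset.mem_univ _) h)] at h
    · exact h.symm
    · refine Cfsg.Agent.S0923.result p M hM x hx _ CfsgLib.Blocks.isPBlock_principalBlock χ hχ _
        e.2 (fun hie => hne (Subtype.ext ?_)) y hy
      exact (Cfsg.Agent.S0936.result p M hM (Subgroup.centralizer ({x} : Set G)) _ ⟨_, hie⟩).1 hie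
  · rw [mem_pBlock] at hχ
    refine Cfsg.Agent.S0923.result p M hM x hx (Cfsg.blockOf M (χ : G → ℂ)) ⟨χ, rfl⟩ χ
      (CfsgLib.Blocks.mem_blockOf_self χ) _ hb₀ (fun hie => hχ ?_) y hy
    rw [CfsgLib.Blocks.IsInducedBlock.unique hind hie]
    exact CfsgLib.Blocks.mem_blockOf_self χ

/-- **Column products in the principal block at a `p`-section.** -/
theorem sum_section [Fact p.Prime] (hM : Cfsg.IsPModular p M) {x : G}
    (hx : ∃ k : ℕ, orderOf x = p ^ k) (y y' : Subgroup.centralizer ({x} : Set G))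
    (hy : ¬ p ∣ orderOf y) (hy' : ¬ p ∣ orderOf y') :
    ∑ χ ∈ pBlock M G, (χ : G → ℂ) (x * (y : G)) * conj ((χ : G → ℂ) (x * (y' : G))) =
      ∑ ψ ∈ pBlock M (Subgroup.centralizer ({x} : Set G)),
        (ψ : Subgroup.centralizer ({x} : Set G) → ℂ) y *
          conj ((ψ : Subgroup.centralizer ({x} : Set G) → ℂ) y') := by
  classical
  haveI := hM.2.1
  cases nonempty_fintype G
  set e := Cfsg.principalBlock M (Subgroup.centralizer ({x} : Set G)) with he
  haveI : Fintype e := Fintype.ofFinite _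
  have he' : Cfsg.IsPBlock M e := CfsgLib.Blocks.isPBlock_principalBlock
  have hexp : ∀ {ι : Type u} [Fintype ι] (H : ι → (Subgroup.centralizer ({x} : Set G)) → ℂ),
      ∑ i, Cfsg.blockPart e (H i) y * conj (Cfsg.blockPart e (H i) y') =
        ∑ c : (Subgroup.centralizer ({x} : Set G)), ∑ d : (Subgroup.centralizer ({x} : Set G)), CfsgLib.BlockRank.projKer e y c *
          conj (CfsgLib.BlockRank.projKer e y' d) * ∑ i, H i c * conj (H i d) := by
    intro ι _ H
    simp only [CfsgLib.BlockRank.blockPart_eq_projKer, map_sum, map_mul, Finset.sum_mul,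
      Finset.mul_sum]
    conv_rhs => rw [Finset.sum_comm]
    rw [Finset.sum_comm]
    refine Finset.sum_congr rfl fun c _ => ?_
    rw [Finset.sum_comm]
    exact Finset.sum_congr rfl fun d _ => Finset.sum_congr rfl fun i _ => by ring
  have hG : ∑ χ ∈ pBlock M G, (χ : G → ℂ) (x * (y : G)) * conj ((χ : G → ℂ) (x * (y' : G))) =
      ∑ χ : Cfsg.IrrCharacter G,
        Cfsg.blockPart e (fun c : (Subgroup.centralizer ({x} : Set G)) => (χ : G → ℂ) (x * (c : G))) y *
          conj (Cfsg.blockPart e (fun c : (Subgroup.centralizer ({x} : Set G)) => (χ : G → ℂ) (x * (c : G))) y') := by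
    rw [← Finset.sum_subset (Finset.subset_univ (pBlock M G)) (fun χ _ hχ => ?_)]
    · refine Finset.sum_congr rfl fun χ hχ => ?_
      rw [blockPart_translate hM hx χ y hy, blockPart_translate hM hx χ y' hy', if_pos hχ, if_pos hχ]
    · rw [blockPart_translate hM hx χ y hy, if_neg hχ, zero_mul]
  have hH : ∑ ψ ∈ pBlock M (Subgroup.centralizer ({x} : Set G)), (ψ : (Subgroup.centralizer ({x} : Set G)) → ℂ) y * conj ((ψ : (Subgroup.centralizer ({x} : Set G)) → ℂ) y') =
      ∑ φ : Cfsg.IrrCharacter (Subgroup.centralizer ({x} : Set G)),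
        Cfsg.blockPart e (φ : (Subgroup.centralizer ({x} : Set G)) → ℂ) y * conj (Cfsg.blockPart e (φ : (Subgroup.centralizer ({x} : Set G)) → ℂ) y') := by
    rw [← Finset.sum_subset (Finset.subset_univ (pBlock M (Subgroup.centralizer ({x} : Set G)))) (fun φ _ hφ => ?_)]
    · refine Finset.sum_congr rfl fun φ hφ => ?_
      rw [CfsgLib.BlockRank.blockPart_irr, CfsgLib.BlockRank.blockPart_irr,
        if_pos (mem_pBlock.1 hφ), if_pos (mem_pBlock.1 hφ)]
    · rw [CfsgLib.BlockRank.blockPart_irr, if_neg (fun h => hφ (mem_pBlock.2 h)), zero_mul]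
  rw [hG, hH, hexp, hexp]
  refine Finset.sum_congr rfl fun c _ => Finset.sum_congr rfl fun d _ => ?_
  by_cases hc : Cfsg.IsPRegular p c
  · by_cases hd : Cfsg.IsPRegular p d
    · rw [CfsgLib.BlockRank.sum_translate_mul_conj rfl hx c d hc hd]
    · simp [CfsgLib.BlockRank.projKer_eq_zero hM he' (s := y') (c := d) hy' hd]
  · simp [CfsgLib.BlockRank.projKer_eq_zero hM he' (s := y) (c := c) hy hc]

/-- With a normal `p`-complement the regular elements are those of the complement. -/
theorem regular_iff_mem [Fact p.Prime] (K : Subgroup G) [K.Normal] (hK : ¬ p ∣ Nat.card K) {k : ℕ}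
    (hidx : K.index = p ^ k) (g : G) : ¬ p ∣ orderOf g ↔ g ∈ K := by
  have hp : p.Prime := Fact.out
  constructor
  · intro hg
    have h1 := K.pow_index_mem g
    rw [hidx] at h1
    obtain ⟨m, hm⟩ := exists_pow_eq_self_of_coprime (x := g) (n := p ^ k)
      ((hp.coprime_iff_not_dvd.2 hg).pow_left k)
    rw [← hm]
    exact Subgroup.pow_mem _ h1 m
  · intro hg h
    apply hK
    refine h.trans ?_
    rw [← Subgroup.orderOf_mk g hg]
    exact orderOf_dvd_natCard _

/-- With a normal `p`-complement the principal block consists of the characters trivial on it. -/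
theorem mem_principalBlock_iff_trivial [Fact p.Prime] (hM : Cfsg.IsPModular p M) (K : Subgroup G)
    [K.Normal] (hK : ¬ p ∣ Nat.card K) {k : ℕ} (hidx : K.index = p ^ k) (ψ : Cfsg.IrrCharacter G) :
    ψ ∈ Cfsg.principalBlock M G ↔ ∀ n ∈ K, (ψ : G → ℂ) n = (ψ : G → ℂ) 1 := by
  classical
  cases nonempty_fintype G
  refine ⟨CfsgLib.Blk83.principal_trivial_on hM K hK, fun h => ?_⟩
  rw [CfsgLib.BlockPrincipal.mem_principal_iff hM]
  have hsum : CfsgLib.BlockPrincipal.regSum p (ψ : G → ℂ) = (Nat.card K : ℂ) * (ψ : G → ℂ) 1 := by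
    rw [CfsgLib.BlockPrincipal.regSum,
      Finset.sum_congr (s₂ := Finset.univ.filter fun g : G => g ∈ K)
        (Finset.filter_congr fun g _ => regular_iff_mem K hK hidx g)
        (fun g hg => h g (Finset.mem_filter.1 hg).2),
      Finset.sum_const, nsmul_eq_mul]
    congr 2
    rw [Nat.card_eq_fintype_card, Fintype.card_subtype]
  rw [hsum, mul_div_assoc, div_self (CfsgLib.Char.IsIrrCharacter.apply_one_ne_zero ψ.2), mul_one]
  exact CfsgLib.BlockReg.not_memIdeal_natCast hM hK

/-- With a normal `p`-complement the squared degrees in the principal block sum to its index. -/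
theorem sum_principal_sq [Fact p.Prime] (hM : Cfsg.IsPModular p M) (K : Subgroup G)
    [K.Normal] (hK : ¬ p ∣ Nat.card K) {k : ℕ} (hidx : K.index = p ^ k) :
    ∑ ψ ∈ pBlock M G, (ψ : G → ℂ) 1 * conj ((ψ : G → ℂ) 1) = (K.index : ℂ) := by
  classical
  cases nonempty_fintype G
  set f : G → ℂ := fun g => if g ∈ K then (K.index : ℂ) else 0 with hf
  have hfcl : Cfsg.IsClassFunction G f := fun g c =>
    if_congr ⟨fun h => by simpa [mul_assoc] using ‹K.Normal›.conj_mem _ h c⁻¹,
      fun h => ‹K.Normal›.conj_mem _ h c⟩ rfl rfl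
  have hinner : ∀ ψ : Cfsg.IrrCharacter G, Cfsg.classInner f (ψ : G → ℂ) =
      if ψ ∈ pBlock M G then conj ((ψ : G → ℂ) 1) else 0 := by
    intro ψ
    have hG : (Nat.card G : ℂ) ≠ 0 := Nat.cast_ne_zero.2 Nat.card_pos.ne'
    have h0 : ∑ g : G, f g * conj ((ψ : G → ℂ) g) =
        (K.index : ℂ) * conj (∑ n : K, (ψ : G → ℂ) (1 * (n : G))) := by
      simp only [hf, ite_mul, zero_mul, ← Finset.sum_filter, map_sum, Finset.mul_sum, one_mul]
      rw [Finset.sum_subtype (Finset.univ.filter fun g : G => g ∈ K) (p := (· ∈ K))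
        (fun g => by simp) (fun g => (K.index : ℂ) * conj ((ψ : G → ℂ) g))]
    rw [Cfsg.classInner, h0]
    split_ifs with hψ
    · rw [mem_pBlock, mem_principalBlock_iff_trivial hM K hK hidx] at hψ
      rw [Finset.sum_congr rfl (g := fun _ => (ψ : G → ℂ) 1) (fun n _ => by
        rw [one_mul]; exact hψ n n.2), Finset.sum_const, Finset.card_univ, nsmul_eq_mul, map_mul,
        map_natCast, ← Nat.card_eq_fintype_card, ← mul_assoc (K.index : ℂ), ← Nat.cast_mul,
        K.index_mul_card, inv_mul_cancel_left₀ hG]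
    · rw [mem_pBlock, mem_principalBlock_iff_trivial hM K hK hidx] at hψ
      rw [CfsgLib.Blk83.sum_coset_eq_zero ψ K hψ 1, map_zero, mul_zero, mul_zero]
  have h := congrFun (CfsgLib.Char.IsClassFunction.eq_sum_classInner hfcl) 1
  simp only [Finset.sum_apply, Pi.smul_apply, smul_eq_mul, hinner,
    ite_mul, zero_mul, Finset.sum_ite_mem, Finset.univ_inter] at h
  rw [show f 1 = (K.index : ℂ) from if_pos K.one_mem] at h
  rw [h]
  exact Finset.sum_congr rfl fun ψ _ => mul_comm _ _

/-- The column at a `p`-element whose centraliser has a normal `p`-complement. -/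
theorem sum_sq_of_complement [Fact p.Prime] (hM : Cfsg.IsPModular p M) {x : G}
    (hx : ∃ k : ℕ, orderOf x = p ^ k) (K : Subgroup (Subgroup.centralizer ({x} : Set G)))
    [K.Normal] (hK : ¬ p ∣ Nat.card K) {k : ℕ} (hidx : K.index = p ^ k) :
    ∑ χ ∈ pBlock M G, (χ : G → ℂ) x * conj ((χ : G → ℂ) x) = (K.index : ℂ) := by
  have h1 : ¬ p ∣ orderOf (1 : Subgroup.centralizer ({x} : Set G)) := by
    rw [orderOf_one]; exact (Fact.out : p.Prime).not_dvd_one
  have h := sum_section hM hx 1 1 h1 h1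
  rw [OneMemClass.coe_one, mul_one] at h
  rw [h, sum_principal_sq hM K hK hidx]

/-- The principal block is constant on `x K` for a normal `p`-complement `K` of `C(x)`. -/
theorem apply_mul_complement [Fact p.Prime] (hM : Cfsg.IsPModular p M) {x : G}
    (hx : ∃ k : ℕ, orderOf x = p ^ k) (K : Subgroup (Subgroup.centralizer ({x} : Set G)))
    [hKn : K.Normal] (hK : ¬ p ∣ Nat.card K) {χ : Cfsg.IrrCharacter G}
    (hχ : χ ∈ pBlock M G) {y : Subgroup.centralizer ({x} : Set G)} (hy : y ∈ K) :
    (χ : G → ℂ) (x * (y : G)) = (χ : G → ℂ) x := by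
  refine Cfsg.Agent.S0942.result p M hM x hx (y : G) ⟨y, ?_, rfl⟩ χ (mem_pBlock.1 hχ)
  exact CfsgLib.Solvable.le_pPrimeCore hKn
    ((Fact.out : p.Prime).coprime_iff_not_dvd.2 hK).symm hy

end CfsgLib.Invol.BlockCol
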