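import Cfsg.Agent.Lib.Invol.BrauerSuzukiLarge
import Cfsg.Agent.Lib.Invol.ZStar
import Cfsg.Agent.Lib.Solvable.UniqueInvolution

/-!
# The theorem of Brauer and Suzuki, by induction from a character with `z` in its kernel
-/

set_option autoImplicit false

universe u

namespace CfsgLib.Invol

/-- A non-principal irreducible character with the involution in its kernel, when the Sylow
2-subgroups are quaternion of order eight. -/
def QuaternionEightKernelChar : Prop :=
  ∀ (G : Type u) [Group G] [Fintype G] (S : Sylow 2 G),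
    Nonempty ((S : Subgroup G) ≃* QuaternionGroup 2) → Cfsg.pPrimeCore 2 G = ⊥ →
    ∀ z : G, orderOf z = 2 → z ∉ Subgroup.center G →
      ∃ χ : Cfsg.IrrCharacter G, χ ≠ CfsgLib.Char.principalIrr ∧ (χ : G → ℂ) z = (χ : G → ℂ) 1

/-- Involutions are central, given the input for quaternion groups of order eight. -/
theorem involution_mem_center_of (h8 : QuaternionEightKernelChar.{u}) :
    ∀ (G : Type u) [Group G] [Finite G] (S : Sylow 2 G) (n : ℕ),
      Nonempty ((S : Subgroup G) ≃* QuaternionGroup (2 ^ (n + 1))) → Cfsg.pPrimeCore 2 G = ⊥ →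
      ∀ z : G, orderOf z = 2 → z ∈ Subgroup.center G := by
  intro G _ _
  induction hcard : Nat.card G using Nat.strong_induction_on generalizing G with
  | _ N ih =>
  subst hcard
  intro S n he hO z hz
  obtain ⟨e⟩ := he
  have : Fact (Nat.Prime 2) := ⟨Nat.prime_two⟩
  cases nonempty_fintype G
  by_contra hzc
  obtain ⟨-, huniq⟩ := QuatSylow.exists_unique_of_quaternion S e
  obtain ⟨χ, hχ, hχz⟩ :
      ∃ χ : Cfsg.IrrCharacter G, χ ≠ CfsgLib.Char.principalIrr ∧ (χ : G → ℂ) z = (χ : G → ℂ) 1 := by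
    cases n with
    | zero => exact h8 G S ⟨e⟩ hO z hz hzc
    | succ n =>
      obtain ⟨χ₁, χ₂, h1, -, -, -, h2⟩ := BSLarge.exists_pair S n e
      exact ⟨χ₁, h1, (h2 z hz).1⟩
  obtain ⟨d, ρ, hρ, hχρ⟩ := χ.2
  set K : Subgroup G := MonoidHom.ker ρ with hK
  haveI hKn : K.Normal := MonoidHom.normal_ker _
  have hρz : ρ z = 1 := by
    have h := CfsgLib.Char.eq_smul_id_of_character_eq ρ z 1 (by simp) (by
      rw [hχρ, hχz, ← hχρ, Representation.char_one, mul_one])
    rw [h, one_smul]
    rfl
  have hzK : z ∈ K := hρz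
  have hKtop : K ≠ ⊤ := by
    intro h
    have hall : ∀ g, ρ g = 1 := fun g => (h ▸ Subgroup.mem_top g : g ∈ K)
    have h1 := CfsgLib.CharKernel.finrank_eq_one_of_trivial ρ hall
    apply hχ
    apply Subtype.ext
    funext g
    rw [← hχρ, CfsgLib.Char.principalIrr_apply, Representation.character, hall g,
      LinearMap.trace_one, h1, Nat.cast_one]
  have hlt : Nat.card K < Nat.card G :=
    lt_of_le_of_ne (Subgroup.card_le_card_group K) fun h => hKtop (Subgroup.eq_top_of_card_eq K h)
  have hevK : Even (Nat.card K) := by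
    rw [even_iff_two_dvd, ← hz, ← Subgroup.orderOf_mk z hzK]
    exact orderOf_dvd_natCard _
  have hOK : Cfsg.pPrimeCore 2 K = ⊥ := by
    have h := CfsgLib.Solvable.map_subtype_pPrimeCore_le (p := 2) K
    rw [hO] at h
    rw [← Subgroup.map_eq_bot_iff_of_injective _ K.subtype_injective]
    exact le_bot_iff.1 h
  -- a Sylow 2-subgroup of the kernel
  obtain ⟨Q⟩ : Nonempty (Sylow 2 K) := inferInstance
  have hQuniq : ∀ u v : (Q : Subgroup K), u ^ 2 = 1 → u ≠ 1 → v ^ 2 = 1 → v ≠ 1 → u = v := by
    intro u v hu hu1 hv hv1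
    obtain ⟨T, hT⟩ := (Q.2.map K.subtype).exists_le_sylow
    obtain ⟨g, hg⟩ := MulAction.exists_smul_eq G T S
    have hmem : ∀ w : (Q : Subgroup K), g * ((w : K) : G) * g⁻¹ ∈ S := by
      intro w
      rw [← hg]
      exact (Subgroup.smul_mem_pointwise_smul_iff (a := MulAut.conj g) (x := ((w : K) : G))
        (S := (T : Subgroup G))).2 (hT ⟨(w : K), w.2, rfl⟩)
    have ho : ∀ w : (Q : Subgroup K), w ^ 2 = 1 → w ≠ 1 → orderOf ((w : K) : G) = 2 := fun w h h1 => by
      rw [Subgroup.orderOf_coe, Subgroup.orderOf_coe]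
      exact orderOf_eq_prime h h1
    have h := huniq _ _ (hmem u) (hmem v) (by rw [orderOf_conj, ho u hu hu1])
      (by rw [orderOf_conj, ho v hv hv1])
    exact Subtype.ext (Subtype.ext (mul_left_cancel (mul_right_cancel h)))
  -- `z` commutes with its conjugates
  have hcomm : ∀ k : K, Commute z (k : G) := by
    intro k
    rcases CfsgLib.Solvable.isCyclic_or_quaternion_of_unique_involution Q.2 hQuniq with hc | ⟨j, hj⟩
    · have htop := eq_top_of_cyclic_sylow hevK hOK Q hc
      haveI : IsCyclic K := by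
        rw [htop] at hc
        exact Subgroup.topEquiv.isCyclic.1 hc
      exact congrArg Subtype.val (IsCyclic.commGroup.mul_comm (⟨z, hzK⟩ : K) k)
    · obtain ⟨eQ⟩ := hj
      cases j with
      | zero =>
        have hc : IsCyclic (Q : Subgroup K) := by
          rw [eQ.isCyclic]
          exact QuaternionGroup.quaternionGroup_one_isCyclic
        have htop := eq_top_of_cyclic_sylow hevK hOK Q hc
        haveI : IsCyclic K := by
          rw [htop] at hc
          exact Subgroup.topEquiv.isCyclic.1 hc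
        exact congrArg Subtype.val (IsCyclic.commGroup.mul_comm (⟨z, hzK⟩ : K) k)
      | succ j =>
        have hc := ih _ hlt K rfl Q j ⟨eQ⟩ hOK (⟨z, hzK⟩ : K)
          (by rw [Subgroup.orderOf_mk, hz])
        exact (congrArg Subtype.val (Subgroup.mem_center_iff.1 hc k)).symm
  apply hzc
  rw [Subgroup.mem_center_iff]
  intro g
  have hc : Commute z (g * z * g⁻¹) :=
    hcomm ⟨g * z * g⁻¹, hKn.conj_mem z hzK g⟩
  have h := QuatSylow.eq_of_commute S huniq hz (by rw [orderOf_conj, hz]) hc
  exact (mul_inv_eq_iff_eq_mul.1 h.symm)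

/-- The theorem of Brauer and Suzuki, given the input for quaternion groups of order eight. -/
theorem brauerSuzukiCenter_of (h8 : QuaternionEightKernelChar.{u}) : BrauerSuzukiCenter.{u} := by
  intro G _ _ S n he hO
  obtain ⟨e⟩ := he
  have : Fact (Nat.Prime 2) := ⟨Nat.prime_two⟩
  obtain ⟨⟨z, hzS, hz⟩, huniq⟩ := QuatSylow.exists_unique_of_quaternion S e
  have hzc := involution_mem_center_of h8 G S n ⟨e⟩ hO z hz
  suffices h : Subgroup.center G = Subgroup.zpowers z by rw [h, Nat.card_zpowers, hz]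
  refine le_antisymm ?_ (Subgroup.zpowers_le.2 hzc)
  -- the centre is a 2-group
  have hZ : IsPGroup 2 (Subgroup.center G) := by
    intro x
    obtain ⟨k, m, hm, hkm⟩ := Nat.exists_eq_two_pow_mul_odd (orderOf_pos x).ne'
    refine ⟨k, ?_⟩
    have h1 : orderOf (x ^ 2 ^ k) = m := by
      rw [orderOf_pow, hkm, Nat.gcd_eq_right (dvd_mul_right _ _),
        Nat.mul_div_cancel_left _ (Nat.two_pow_pos k)]
    have hle : Subgroup.zpowers ((x ^ 2 ^ k : Subgroup.center G) : G) ≤ Cfsg.pPrimeCore 2 G := by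
      have hn : (Subgroup.zpowers ((x ^ 2 ^ k : Subgroup.center G) : G)).Normal := ⟨fun a ha g => by
        rw [Subgroup.mem_center_iff.1 ((Subgroup.zpowers_le.2 (x ^ 2 ^ k : Subgroup.center G).2) ha) g,
          mul_inv_cancel_right]
        exact ha⟩
      refine CfsgLib.Solvable.le_pPrimeCore hn ?_
      rw [Nat.card_zpowers, Subgroup.orderOf_coe, h1]
      exact Nat.coprime_two_right.2 hm
    rw [hO, Subgroup.zpowers_le, Subgroup.mem_bot] at hle
    exact Subtype.ext hle
  have hZS : Subgroup.center G ≤ S := by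
    obtain ⟨T, hT⟩ := hZ.exists_le_sylow
    obtain ⟨g, hg⟩ := MulAction.exists_smul_eq G T S
    intro x hx
    have h : g * x * g⁻¹ ∈ S := by
      rw [← hg]
      exact (Subgroup.smul_mem_pointwise_smul_iff (a := MulAut.conj g) (x := x)
        (S := (T : Subgroup G))).2 (hT hx)
    rwa [Subgroup.mem_center_iff.1 hx g, mul_inv_cancel_right] at h
  intro x hx
  have hc : ∀ s : (S : Subgroup G), Commute (⟨x, hZS hx⟩ : (S : Subgroup G)) s := fun s =>
    Subtype.ext (Subgroup.mem_center_iff.1 hx s).symm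
  have hcard : 2 ≤ 2 ^ (n + 1) := Nat.le_self_pow (Nat.succ_ne_zero n) 2
  have h2 := QuatSylow.mul_self_of_commute hcard (e ⟨x, hZS hx⟩)
    (by simpa using (hc (e.symm (QuaternionGroup.a 1))).map e.toMonoidHom)
    (by simpa using (hc (e.symm (QuaternionGroup.xa 0))).map e.toMonoidHom)
  rw [← map_mul, map_eq_one_iff _ e.injective] at h2
  by_cases hx1 : x = 1
  · rw [hx1]; exact one_mem _
  · rw [huniq x z (hZS hx) hzS (orderOf_eq_two hx1 (congrArg Subtype.val h2)) hz]
    exact Subgroup.mem_zpowers z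

end CfsgLib.Invol
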