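import Cfsg.Agent.Lib.Invol.GlaubermanZStar

/-!
# Fixed central elements of a Sylow 2-subgroup

An element of the centre of a Sylow subgroup fixed by the normaliser is fused to nothing else in the
centre; with abelian Sylow 2-subgroup and trivial core it is central, by the Z* theorem.
-/

set_option autoImplicit false

open scoped IsMulCommutative

namespace CfsgLib.Invol.CentralFixed

universe u

/-- A normaliser-fixed element of the centralizer of a Sylow subgroup has no other conjugate
there. -/
theorem conj_eq_of_fixed {G : Type*} [Group G] [Finite G] {p : ℕ} [Fact p.Prime] (P : Sylow p G)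
    {x g : G} (hx : x ∈ Subgroup.centralizer ((P : Subgroup G) : Set G))
    (hfix : ∀ n ∈ Subgroup.normalizer ((P : Subgroup G) : Set G), n * x * n⁻¹ = x)
    (hg : g * x * g⁻¹ ∈ Subgroup.centralizer ((P : Subgroup G) : Set G)) : g * x * g⁻¹ = x := by
  obtain ⟨n, hn, h⟩ := P.conj_eq_normalizer_conj_of_mem_centralizer x g⁻¹ hx
    (by rwa [inv_inv])
  have h' := hfix _ (inv_mem hn)
  rw [inv_inv] at h' h
  rw [h, h']

/-- The orbit of an element of an abelian subgroup under a normalising subgroup, and its
product. -/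
theorem exists_orbit {G : Type*} [Group G] [Finite G] (N A : Subgroup G) [IsMulCommutative A]
    (hA : ∀ n ∈ N, ∀ x ∈ A, n * x * n⁻¹ ∈ A) (a : A) :
    ∃ O : Finset A, (∀ o : A, o ∈ O ↔ ∃ n ∈ N, (o : G) = n * a * n⁻¹) ∧
      (∀ n ∈ N, n * ((∏ o ∈ O, o : A) : G) * n⁻¹ = ((∏ o ∈ O, o : A) : G)) ∧
      O.card = (Subgroup.centralizer ({(a : G)} : Set G)).relIndex N := by
  classical
  cases nonempty_fintype G
  let f : N → A := fun n => ⟨n * a * (n : G)⁻¹, hA _ n.2 _ a.2⟩
  let c : N → A →* A := fun n =>
    { toFun := fun x => ⟨n * x * (n : G)⁻¹, hA _ n.2 _ x.2⟩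
      map_one' := Subtype.ext (by simp)
      map_mul' := fun x y => Subtype.ext (by simp only [Subgroup.coe_mul]; group) }
  have hmem : ∀ o : A, o ∈ Finset.univ.image f ↔ ∃ n ∈ N, (o : G) = n * a * n⁻¹ := fun o => by
    rw [Finset.mem_image]
    exact ⟨fun ⟨n, _, h⟩ => ⟨n, n.2, h ▸ rfl⟩,
      fun ⟨n, hn, h⟩ => ⟨⟨n, hn⟩, Finset.mem_univ _, Subtype.ext h.symm⟩⟩
  refine ⟨Finset.univ.image f, hmem, fun n hn => ?_, ?_⟩
  · have hinj : Function.Injective (c ⟨n, hn⟩) := fun x y h =>
      Subtype.ext (mul_left_cancel (mul_right_cancel (congrArg Subtype.val h)))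
    have himg : (Finset.univ.image f).image (c ⟨n, hn⟩) = Finset.univ.image f := by
      refine Finset.eq_of_subset_of_card_le (fun o ho => ?_)
        (Finset.card_image_of_injective _ hinj).ge
      obtain ⟨o', ho', rfl⟩ := Finset.mem_image.1 ho
      obtain ⟨m, hm, h⟩ := (hmem o').1 ho'
      refine (hmem _).2 ⟨n * m, mul_mem hn hm, ?_⟩
      simp only [c, MonoidHom.coe_mk, OneHom.coe_mk, h]
      group
    have h : c ⟨n, hn⟩ (∏ o ∈ Finset.univ.image f, o) = ∏ o ∈ Finset.univ.image f, o := by
      conv_rhs => rw [← himg]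
      rw [map_prod, Finset.prod_image fun x _ y _ h => hinj h]
    exact congrArg Subtype.val h
  · rw [Subgroup.relIndex, Subgroup.index, Nat.card_eq_fintype_card, ← Finset.card_univ]
    have hiff : ∀ m m' : N, f m = f m' ↔
        m⁻¹ * m' ∈ (Subgroup.centralizer ({(a : G)} : Set G)).subgroupOf N := fun m m' => by
      simp only [f, Subtype.ext_iff, Subgroup.mem_subgroupOf, Subgroup.mem_centralizer_singleton_iff,
        Subgroup.coe_mul, Subgroup.coe_inv]
      constructor <;> intro h
      · calc (m : G)⁻¹ * m' * a = (m : G)⁻¹ * (m' * a * (m' : G)⁻¹) * m' := by group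
          _ = a * ((m : G)⁻¹ * m') := by rw [← h]; group
      · calc (m : G) * a * (m : G)⁻¹ = m * (a * ((m : G)⁻¹ * m')) * (m' : G)⁻¹ := by group
          _ = _ := by rw [← h]; group
    refine (Finset.card_bij (fun q _ => Quotient.liftOn' q f fun m m' h =>
      (hiff m m').2 (QuotientGroup.leftRel_apply.1 h)) ?_ ?_ ?_).symm
    · intro q _
      induction q using QuotientGroup.induction_on
      exact Finset.mem_image_of_mem _ (Finset.mem_univ _)
    · intro q _ r _
      induction q using QuotientGroup.induction_on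
      induction r using QuotientGroup.induction_on
      exact fun h => QuotientGroup.eq.2 ((hiff _ _).1 h)
    · intro o ho
      obtain ⟨m, -, rfl⟩ := Finset.mem_image.1 ho
      exact ⟨QuotientGroup.mk m, Finset.mem_univ _, by rfl⟩

/-- With abelian Sylow 2-subgroup and trivial core, an element of the Sylow subgroup fixed by its
normaliser is central. -/
theorem mem_center_of_fixed : ∀ (k : ℕ) {H : Type u} [Group H] [Finite H] (P : Sylow 2 H),
    IsMulCommutative (P : Subgroup H) →
    (∀ N : Subgroup H, N.Normal → Odd (Nat.card N) → N = ⊥) →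
    ∀ b ∈ (P : Subgroup H), orderOf b = k →
    (∀ n ∈ Subgroup.normalizer ((P : Subgroup H) : Set H), n * b * n⁻¹ = b) →
    b ∈ Subgroup.center H := by
  intro k
  induction k using Nat.strong_induction_on with
  | _ k ih =>
    intro H _ _ P hab hO b hb hk hfix
    classical
    have : Fact (Nat.Prime 2) := ⟨Nat.prime_two⟩
    have hPC : (P : Subgroup H) ≤ Subgroup.centralizer ((P : Subgroup H) : Set H) :=
      fun x hx => Subgroup.mem_centralizer_iff.2 fun y hy =>
        congrArg Subtype.val (hab.is_comm.comm ⟨y, hy⟩ ⟨x, hx⟩)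
    obtain ⟨j, hj⟩ := IsPGroup.iff_orderOf.1 P.2 ⟨b, hb⟩
    rw [Subgroup.orderOf_mk] at hj
    rcases Nat.eq_zero_or_pos j with h0 | hj0
    · rw [h0, pow_zero, orderOf_eq_one_iff] at hj
      exact hj ▸ one_mem _
    set b' := b ^ 2 ^ (j - 1) with hb'
    have hb'2 : orderOf b' = 2 := by
      rw [hb', orderOf_pow' _ (by positivity), hj,
        Nat.gcd_eq_right (pow_dvd_pow 2 (Nat.sub_le j 1)), Nat.pow_div (Nat.sub_le j 1) two_pos]
      rw [show j - (j - 1) = 1 by omega, pow_one]
    have hb'P : b' ∈ (P : Subgroup H) := pow_mem hb _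
    have hb'fix : ∀ n ∈ Subgroup.normalizer ((P : Subgroup H) : Set H), n * b' * n⁻¹ = b' :=
      fun n hn => by rw [hb', ← conj_pow, hfix n hn]
    obtain ⟨O, hOn, hOodd, hcomm⟩ := zStar_sylow P b' hb'2
      fun g hg => conj_eq_of_fixed P (hPC hb'P) hb'fix (hPC hg)
    have hc' : b' ∈ Subgroup.center H := by
      have hO' := hO O hOn hOodd
      refine Subgroup.mem_center_iff.2 fun g => ?_
      have h := hcomm g
      rw [hO', Subgroup.mem_bot, mul_inv_eq_one, mul_inv_eq_iff_eq_mul] at h
      exact h.symm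
    set Z := Subgroup.zpowers b' with hZ
    have hZc : Z ≤ Subgroup.center H := Subgroup.zpowers_le.2 hc'
    have : Z.Normal := ⟨fun x hx g => by
      rwa [Subgroup.mem_center_iff.1 (hZc hx) g, mul_inv_cancel_right]⟩
    have hZP : Z ≤ (P : Subgroup H) := Subgroup.zpowers_le.2 hb'P
    let π := QuotientGroup.mk' Z
    have hπ : Function.Surjective π := QuotientGroup.mk'_surjective Z
    let P' : Sylow 2 (H ⧸ Z) := P.mapSurjective hπ
    have hP' : ∀ x : H, π x ∈ (P' : Subgroup (H ⧸ Z)) ↔ x ∈ (P : Subgroup H) := fun x => by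
      show π x ∈ (P : Subgroup H).map π ↔ _
      rw [← Subgroup.mem_comap, Subgroup.comap_map_eq, QuotientGroup.ker_mk', sup_eq_left.2 hZP]
    have hb'b : π b ∈ Subgroup.center (H ⧸ Z) := by
      refine ih (orderOf (π b)) ?_ P' ?_ ?_ (π b) ((hP' b).2 hb) rfl ?_
      · rw [← hk, hj]
        have hd : orderOf (π b) ∣ 2 ^ (j - 1) := orderOf_dvd_of_pow_eq_one (by
          rw [← map_pow, ← hb']
          exact (QuotientGroup.eq_one_iff b').2 (Subgroup.mem_zpowers b'))
        calc orderOf (π b) ≤ 2 ^ (j - 1) := Nat.le_of_dvd (by positivity) hd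
          _ < 2 ^ j := Nat.pow_lt_pow_right one_lt_two (by omega)
      · refine ⟨⟨fun x y => Subtype.ext ?_⟩⟩
        obtain ⟨x, rfl⟩ : ∃ a : (P : Subgroup H), (⟨π a, (hP' a).2 a.2⟩ : (P' : Subgroup _)) = x := by
          obtain ⟨a, ha⟩ := hπ x
          exact ⟨⟨a, (hP' a).1 (ha ▸ x.2)⟩, Subtype.ext ha⟩
        obtain ⟨y, rfl⟩ : ∃ a : (P : Subgroup H), (⟨π a, (hP' a).2 a.2⟩ : (P' : Subgroup _)) = y := by
          obtain ⟨a, ha⟩ := hπ y
          exact ⟨⟨a, (hP' a).1 (ha ▸ y.2)⟩, Subtype.ext ha⟩
        have h : (x * y : (P : Subgroup H)) = y * x := hab.is_comm.comm x y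
        show π x * π y = π y * π x
        rw [← map_mul, ← map_mul, ← Subgroup.coe_mul, ← Subgroup.coe_mul, h]
      · intro M hM hModd
        set L := M.comap π with hL
        have hLn : L.Normal := hM.comap π
        have hcardL : Nat.card L = 2 * Nat.card M := by
          have h1 := L.card_mul_index
          have h2 := M.card_mul_index
          rw [hL, M.index_comap_of_surjective hπ] at h1
          have h3 := Z.card_mul_index
          rw [Subgroup.index] at h3
          rw [← h2, Nat.card_zpowers, hb'2, ← mul_assoc] at h3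
          rw [← h3] at h1
          exact mul_right_cancel₀ Subgroup.index_ne_zero_of_finite h1
        have hZL : Z ≤ L := fun x hx => Subgroup.mem_comap.2 (by
          rw [show π x = 1 from (QuotientGroup.eq_one_iff x).2 hx]; exact one_mem _)
        obtain ⟨Q, hQ⟩ := Subgroup.exists_right_complement'_of_coprime (N := Z.subgroupOf L) (by
          have h := (Z.subgroupOf L).card_mul_index
          rw [Nat.card_congr (Subgroup.subgroupOfEquivOfLe hZL).toEquiv, Nat.card_zpowers, hb'2,
            hcardL] at h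
          rw [Nat.card_congr (Subgroup.subgroupOfEquivOfLe hZL).toEquiv, Nat.card_zpowers, hb'2,
            Nat.eq_of_mul_eq_mul_left two_pos h, Nat.coprime_two_left]
          exact hModd)
        have hQc : Nat.card Q = Nat.card M := by
          have h := hQ.card_mul_card
          rw [Nat.card_congr (Subgroup.subgroupOfEquivOfLe hZL).toEquiv, Nat.card_zpowers, hb'2,
            hcardL] at h
          exact Nat.eq_of_mul_eq_mul_left two_pos h
        have hQi : Q.index = 2 := by
          have h := Q.card_mul_index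
          rw [hQc, hcardL, mul_comm 2] at h
          exact Nat.eq_of_mul_eq_mul_left Nat.card_pos h
        have hQn : Q.Normal := Subgroup.normal_of_index_eq_two hQi
        have hchar : ∀ x : L, x ∈ Q ↔ Odd (orderOf x) := by
          intro x
          constructor
          · intro hx
            exact hModd.of_dvd_nat (hQc ▸ (Subgroup.orderOf_coe (⟨x, hx⟩ : Q)).symm ▸
              orderOf_dvd_natCard _)
          · intro hx
            rw [← QuotientGroup.eq_one_iff (N := Q), ← orderOf_eq_one_iff]
            have h1 : orderOf (x : L ⧸ Q) ∣ orderOf x := orderOf_map_dvd (QuotientGroup.mk' Q) x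
            have h2 : orderOf (x : L ⧸ Q) ∣ 2 := hQi ▸ (Q.index_eq_card ▸ orderOf_dvd_natCard _)
            rcases (Nat.dvd_prime Nat.prime_two).1 h2 with h | h
            · exact h
            · exact absurd (even_iff_two_dvd.2 (h ▸ h1)) (Nat.not_even_iff_odd.2 hx)
        have hQ' : (Q.map L.subtype).Normal := ⟨fun x hx g => by
          obtain ⟨x, hxQ, rfl⟩ := hx
          refine ⟨⟨g * x * g⁻¹, hLn.conj_mem _ x.2 g⟩, ?_, rfl⟩
          rw [SetLike.mem_coe, hchar, ← Subgroup.orderOf_coe, orderOf_conj, Subgroup.orderOf_coe,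
            ← hchar]
          exact hxQ⟩
        have h0 := hO _ hQ' (by
          rw [Nat.card_congr (Q.equivMapOfInjective L.subtype Subtype.val_injective).toEquiv.symm,
            hQc]
          exact hModd)
        refine Subgroup.card_eq_one.1 ?_
        rw [← hQc, Nat.card_congr (Q.equivMapOfInjective L.subtype Subtype.val_injective).toEquiv,
          h0, Subgroup.card_bot]
      · intro n hn
        obtain ⟨m, rfl⟩ := hπ n
        rw [← map_inv, ← map_mul, ← map_mul, hfix m]
        refine Subgroup.mem_normalizer_iff.2 fun x => ?_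
        rw [← hP' x, ← hP' (m * x * m⁻¹), map_mul, map_mul, map_inv]
        exact Subgroup.mem_normalizer_iff.1 hn (π x)
    -- commutation with `b` is a homomorphism to `Z` killing a Sylow subgroup
    let c : H →* Z :=
      { toFun := fun g => ⟨b * g * b⁻¹ * g⁻¹, (QuotientGroup.eq_one_iff _).1 (by
          show π (b * g * b⁻¹ * g⁻¹) = 1
          rw [map_mul, map_mul, map_mul, map_inv, map_inv,
            ← Subgroup.mem_center_iff.1 hb'b (π g)]
          group)⟩
        map_one' := Subtype.ext (by simp)
        map_mul' := fun g h => Subtype.ext (by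
          have hz : b * h * b⁻¹ * h⁻¹ ∈ Subgroup.center H := hZc ((QuotientGroup.eq_one_iff _).1 (by
            show π (b * h * b⁻¹ * h⁻¹) = 1
            rw [map_mul, map_mul, map_mul, map_inv, map_inv,
              ← Subgroup.mem_center_iff.1 hb'b (π h)]
            group))
          show b * (g * h) * b⁻¹ * (g * h)⁻¹ = b * g * b⁻¹ * g⁻¹ * (b * h * b⁻¹ * h⁻¹)
          calc b * (g * h) * b⁻¹ * (g * h)⁻¹
              = b * g * b⁻¹ * ((b * h * b⁻¹ * h⁻¹) * g⁻¹) := by group
            _ = b * g * b⁻¹ * (g⁻¹ * (b * h * b⁻¹ * h⁻¹)) := by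
              rw [Subgroup.mem_center_iff.1 hz g⁻¹]
            _ = _ := by group) }
    have hker : (P : Subgroup H) ≤ c.ker := fun x hx => by
      refine MonoidHom.mem_ker.2 (Subtype.ext ?_)
      show b * x * b⁻¹ * x⁻¹ = 1
      have : b * x = x * b := congrArg Subtype.val (hab.is_comm.comm ⟨b, hb⟩ ⟨x, hx⟩)
      rw [this]; group
    have hrange : Nat.card c.range = 1 := by
      have h1 : Nat.card c.range ∣ 2 := by
        have := Subgroup.card_subgroup_dvd_card c.range
        rwa [Nat.card_zpowers, hb'2] at this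
      rcases (Nat.dvd_prime Nat.prime_two).1 h1 with h | h
      · exact h
      · refine absurd ?_ P.not_dvd_index
        have h2 : c.ker.index = 2 := by rw [Subgroup.index_ker, h]
        exact (dvd_of_eq h2.symm).trans (Subgroup.index_dvd_of_le hker)
    refine Subgroup.mem_center_iff.2 fun g => ?_
    have hg : c g ∈ c.range := ⟨g, rfl⟩
    rw [Subgroup.card_eq_one.1 hrange, Subgroup.mem_bot] at hg
    have h := congrArg Subtype.val hg
    change b * g * b⁻¹ * g⁻¹ = 1 at h
    rw [mul_inv_eq_one, mul_inv_eq_iff_eq_mul] at h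
    exact h.symm

end CfsgLib.Invol.CentralFixed
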