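import Cfsg.Agent.Lib.Invol.GlaubermanZStar

/-!
# A coprime automorphism cannot centralize the centralizer of an involution of a simple group

If `β` has prime order coprime to `|G|` and fixes `C(τ)` pointwise, then `C = C_G(β)` contains the
centralizer of each of its conjugates of `τ` and every `β`-invariant 2-subgroup; counting pairs of
conjugates of `τ` lying in a common coset of `C` gives a contradiction unless `τ` is isolated.
-/

set_option autoImplicit false

namespace CfsgLib.Invol.CoprimeFix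

variable {G : Type*} [Group G] [Finite G] {p : ℕ} [Fact p.Prime] (β : MulAut G)
  (hβ : β ^ p = 1) (hp : ¬ p ∣ Nat.card G) {τ : G}
  (hfix : ∀ c ∈ Subgroup.centralizer ({τ} : Set G), β c = c)

/-- The subgroup of fixed points. -/
def fixedBy : Subgroup G := β.toMonoidHom.eqLocus (MonoidHom.id G)

theorem mem_fixedBy {g : G} : g ∈ fixedBy β ↔ β g = g := Iff.rfl

include hβ hp in
/-- A coprime automorphism which fixes `g⁻¹ β g` fixes `g`. -/
theorem mem_of_disp {g : G} (h : g⁻¹ * β g ∈ fixedBy β) : g ∈ fixedBy β := by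
  set c := g⁻¹ * β g with hc
  have hg : β g = g * c := by rw [hc, mul_inv_cancel_left]
  have hi : ∀ i : ℕ, (β ^ i) g = g * c ^ i := by
    intro i
    induction i with
    | zero => simp
    | succ i ih =>
      rw [pow_succ', MulAut.mul_apply, ih, map_mul, hg, map_pow, (mem_fixedBy β).1 h, mul_assoc,
        ← pow_succ']
  have h1 : c ^ p = 1 := by
    have h' := hi p
    rw [hβ, MulAut.one_apply] at h'
    exact left_eq_mul.1 h'
  have hdvd : orderOf c ∣ Nat.gcd p (Nat.card G) :=
    Nat.dvd_gcd (orderOf_dvd_of_pow_eq_one h1) (orderOf_dvd_natCard c)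
  rw [(Nat.Prime.coprime_iff_not_dvd Fact.out).2 hp, Nat.dvd_one, orderOf_eq_one_iff] at hdvd
  rw [mem_fixedBy, hg, hdvd, mul_one]

include hβ hp hfix in
/-- Only conjugates by fixed points are fixed. -/
theorem mem_of_conj_mem {g : G} (h : g * τ * g⁻¹ ∈ fixedBy β) : g ∈ fixedBy β := by
  refine mem_of_disp β hβ hp (hfix _ ?_)
  have hτ : β τ = τ := hfix τ (Subgroup.mem_centralizer_singleton_iff.2 rfl)
  rw [mem_fixedBy, map_mul, map_mul, map_inv, hτ] at h
  rw [Subgroup.mem_centralizer_singleton_iff]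
  calc g⁻¹ * β g * τ = g⁻¹ * (β g * τ * (β g)⁻¹) * β g := by group
    _ = τ * (g⁻¹ * β g) := by rw [h]; group

include hβ hp hfix in
/-- Every Sylow 2-subgroup containing `τ` is fixed pointwise. -/
theorem sylow_le (T : Sylow 2 G) (hT : τ ∈ (T : Subgroup G)) :
    (T : Subgroup G) ≤ fixedBy β := by
  have : Fact (Nat.Prime 2) := ⟨Nat.prime_two⟩
  set A : Subgroup ↥(T : Subgroup G) := (fixedBy β).subgroupOf T with hA
  by_contra hne
  have htop : A < ⊤ := lt_top_iff_ne_top.2 fun h => hne (Subgroup.subgroupOf_eq_top.1 h)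
  have : Group.IsNilpotent ↥(T : Subgroup G) := T.2.isNilpotent
  obtain ⟨x, hx, hxA⟩ :=
    SetLike.exists_of_lt (normalizerCondition_of_isNilpotent (G := ↥(T : Subgroup G)) A htop)
  refine hxA (Subgroup.mem_subgroupOf.2 (mem_of_conj_mem β hβ hp hfix ?_))
  have hτA : (⟨τ, hT⟩ : ↥(T : Subgroup G)) ∈ A :=
    Subgroup.mem_subgroupOf.2 (hfix τ (Subgroup.mem_centralizer_singleton_iff.2 rfl))
  simpa [hA, Subgroup.mem_subgroupOf] using (Subgroup.mem_normalizer_iff.1 hx _).1 hτA

include hβ hp in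
/-- A coprime automorphism fixes a Sylow 2-subgroup of every invariant subgroup. -/
theorem exists_fixed_sylow (X : Subgroup G) (hX : ∀ x ∈ X, β x ∈ X) :
    ∃ Q : Subgroup G, Q ≤ X ∧ IsPGroup 2 Q ∧ (∀ x ∈ Q, β x ∈ Q) ∧
      ∀ R : Subgroup G, R ≤ X → IsPGroup 2 R → ∃ x ∈ X, ∀ r ∈ R, x * r * x⁻¹ ∈ Q := by
  have : Fact (Nat.Prime 2) := ⟨Nat.prime_two⟩
  let γ : MulAut X := MulEquiv.ofBijective
    ((β.toMonoidHom.comp X.subtype).codRestrict X fun x => hX x x.2)
    (Finite.injective_iff_bijective.1 fun a b h => Subtype.ext (β.injective (congrArg Subtype.val h)))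
  have hγ : ∀ (i : ℕ) (x : X), ((γ ^ i) x : G) = (β ^ i) x := by
    intro i
    induction i with
    | zero => intro x; rfl
    | succ i ih => intro x; rw [pow_succ', pow_succ', MulAut.mul_apply, MulAut.mul_apply, ← ih x]; rfl
  have hγp : γ ^ p = 1 := MulEquiv.ext fun x => Subtype.ext (by rw [hγ, hβ]; rfl)
  have hgrp : IsPGroup p (Subgroup.zpowers γ) := by
    rcases (Nat.dvd_prime Fact.out).1 (orderOf_dvd_of_pow_eq_one hγp) with h | h
    · exact IsPGroup.of_card (n := 0) (by rw [Nat.card_zpowers, h, pow_zero])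
    · exact IsPGroup.of_card (n := 1) (by rw [Nat.card_zpowers, h, pow_one])
  have hnd : ¬ p ∣ Nat.card (Sylow 2 X) := by
    intro h
    obtain ⟨Q⟩ := (inferInstance : Nonempty (Sylow 2 X))
    exact hp (((h.trans Q.card_dvd_index).trans (Subgroup.index_dvd_card _)).trans
      (Subgroup.card_subgroup_dvd_card X))
  obtain ⟨Q, hQ⟩ := hgrp.nonempty_fixed_point_of_prime_not_dvd_card (α := Sylow 2 X) hnd
  have hγQ : γ • Q = Q := hQ ⟨γ, Subgroup.mem_zpowers γ⟩
  refine ⟨(Q : Subgroup X).map X.subtype, Subgroup.map_subtype_le _, Q.2.map _, ?_, ?_⟩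
  · rintro _ ⟨x, hx, rfl⟩
    refine ⟨γ x, ?_, rfl⟩
    rw [SetLike.mem_coe, ← hγQ]
    exact Subgroup.smul_mem_pointwise_smul x γ (Q : Subgroup X) hx
  · intro R hR hR2
    obtain ⟨Q', hQ'⟩ := (hR2.comap_of_injective X.subtype Subtype.val_injective :
      IsPGroup 2 (R.comap X.subtype)).exists_le_sylow
    obtain ⟨x, hx⟩ := MulAction.exists_smul_eq X Q' Q
    refine ⟨x, x.2, fun r hr => ⟨x * ⟨r, hR hr⟩ * x⁻¹, ?_, rfl⟩⟩
    rw [SetLike.mem_coe, ← hx]
    exact Subgroup.smul_mem_pointwise_smul (⟨r, hR hr⟩ : X) (MulAut.conj x) (Q' : Subgroup X)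
      (hQ' hr)

include hβ hp hfix in
/-- Every invariant 2-subgroup is fixed pointwise. -/
theorem invariant_le (hτ : orderOf τ = 2) (S : Subgroup G) (hS : IsPGroup 2 S)
    (hinv : ∀ x ∈ S, β x ∈ S) : S ≤ fixedBy β := by
  classical
  have : Fact (Nat.Prime 2) := ⟨Nat.prime_two⟩
  have hne : Nonempty {W : Subgroup G // S ≤ W ∧ IsPGroup 2 W ∧ ∀ x ∈ W, β x ∈ W} :=
    ⟨⟨S, le_rfl, hS, hinv⟩⟩
  obtain ⟨⟨W, hSW, hW, hWinv⟩, hmax⟩ :=
    Finite.exists_max fun W : {W : Subgroup G // S ≤ W ∧ IsPGroup 2 W ∧ ∀ x ∈ W, β x ∈ W} =>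
      Nat.card W.1
  have hNinv : ∀ x ∈ Subgroup.normalizer (W : Set G), β x ∈ Subgroup.normalizer (W : Set G) := by
    intro x hx
    rw [Subgroup.mem_normalizer_iff] at hx ⊢
    intro w
    have hbij : ∀ y : G, β y ∈ W ↔ y ∈ W := fun y => by
      constructor
      · intro hy
        have hsurj : Function.Surjective (fun v : W => (⟨β v, hWinv v v.2⟩ : W)) :=
          Finite.injective_iff_surjective.1 fun a b h =>
            Subtype.ext (β.injective (congrArg Subtype.val h))
        obtain ⟨v, hv⟩ := hsurj ⟨β y, hy⟩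
        exact β.injective (congrArg Subtype.val hv) ▸ v.2
      · exact hWinv y
    obtain ⟨v, rfl⟩ := β.surjective w
    rw [hbij, hx v, ← map_inv, ← map_mul, ← map_mul, hbij]
  obtain ⟨Q, hQN, hQ, hQinv, hQmax⟩ := exists_fixed_sylow β hβ hp _ hNinv
  obtain ⟨x, hx, hxW⟩ := hQmax W Subgroup.le_normalizer hW
  have hWQ : W ≤ Q := fun w hw => by
    have h := hxW (x⁻¹ * w * x) (by
      have := (Subgroup.mem_normalizer_iff.1 (inv_mem hx) w).1 hw
      rwa [inv_inv] at this)
    rwa [show x * (x⁻¹ * w * x) * x⁻¹ = w by group] at h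
  have hQW : Q = W := (Subgroup.eq_of_le_of_card_ge hWQ
    (hmax ⟨Q, hSW.trans hWQ, hQ, hQinv⟩)).symm
  obtain ⟨P, hP⟩ := hW.exists_le_sylow
  have hPW : (P : Subgroup G) = W := by
    refine le_antisymm ?_ hP
    by_contra hne
    have : Group.IsNilpotent ↥(P : Subgroup G) := P.2.isNilpotent
    have htop : W.subgroupOf P < ⊤ :=
      lt_top_iff_ne_top.2 fun h => hne (Subgroup.subgroupOf_eq_top.1 h)
    obtain ⟨g, hg, hgW⟩ :=
      SetLike.exists_of_lt (normalizerCondition_of_isNilpotent (G := ↥(P : Subgroup G)) _ htop)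
    set R : Subgroup G := Subgroup.normalizer (W : Set G) ⊓ (P : Subgroup G) with hR
    obtain ⟨y, hy, hyR⟩ := hQmax R inf_le_left (P.2.to_le inf_le_right)
    have hgR : (g : G) ∈ R := by
      refine Subgroup.mem_inf.2 ⟨Subgroup.mem_normalizer_iff.2 fun w => ⟨fun hw => ?_, fun hw => ?_⟩, g.2⟩
      · simpa [Subgroup.mem_subgroupOf] using
          (Subgroup.mem_normalizer_iff.1 hg ⟨w, hP hw⟩).1 (Subgroup.mem_subgroupOf.2 hw)
      · have hwP : w ∈ (P : Subgroup G) := by
          have := mul_mem (mul_mem (inv_mem g.2) (hP hw)) g.2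
          rwa [show (g : G)⁻¹ * (g * w * (g : G)⁻¹) * g = w by group] at this
        simpa [Subgroup.mem_subgroupOf] using
          (Subgroup.mem_normalizer_iff.1 hg ⟨w, hwP⟩).2 (Subgroup.mem_subgroupOf.2 (by simpa using hw))
    have := hyR g hgR
    rw [hQW] at this
    exact hgW (Subgroup.mem_subgroupOf.2 ((Subgroup.mem_normalizer_iff.1 hy g).2 this))
  obtain ⟨T, hT⟩ := (IsPGroup.of_card (G := Subgroup.zpowers τ) (p := 2) (n := 1)
    (by rw [Nat.card_zpowers, hτ, pow_one])).exists_le_sylow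
  have hτT : τ ∈ (T : Subgroup G) := hT (Subgroup.mem_zpowers τ)
  have hTC := sylow_le β hβ hp hfix T hτT
  obtain ⟨g, hg⟩ := MulAction.exists_smul_eq G T P
  have hgT : ∀ t : G, g * t * g⁻¹ ∈ W ↔ t ∈ (T : Subgroup G) := fun t => by
    rw [← hPW, ← hg]
    exact Subgroup.smul_mem_pointwise_smul_iff (a := MulAut.conj g) (S := (T : Subgroup G))
  have hgC : g ∈ fixedBy β := by
    refine mem_of_disp β hβ hp (mem_of_conj_mem β hβ hp hfix (hTC ((hgT _).1 ?_)))
    have h := hWinv _ ((hgT τ).2 hτT)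
    rw [map_mul, map_mul, map_inv, hfix τ (Subgroup.mem_centralizer_singleton_iff.2 rfl)] at h
    rwa [show g * (g⁻¹ * β g * τ * (g⁻¹ * β g)⁻¹) * g⁻¹ = β g * τ * (β g)⁻¹ by group]
  intro s hs
  have hs' := hTC ((hgT (g⁻¹ * s * g)).1 (by
    rw [show g * (g⁻¹ * s * g) * g⁻¹ = s by group]; exact hSW hs))
  have := mul_mem (mul_mem hgC hs') (inv_mem hgC)
  rwa [show g * (g⁻¹ * s * g) * g⁻¹ = s by group] at this

theorem ncard_range_eq_index {H : Type*} [Group H] [Finite H] {γ : Type*} (f : H → γ)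
    (C : Subgroup H) (hf : ∀ a b, f a = f b ↔ a⁻¹ * b ∈ C) : (Set.range f).ncard = C.index := by
  rw [← Nat.card_coe_set_eq, Subgroup.index]
  refine (Nat.card_congr (Equiv.ofBijective (fun q : H ⧸ C => Quotient.liftOn' q
    (fun a => (⟨f a, Set.mem_range_self a⟩ : Set.range f)) fun a b h =>
      Subtype.ext ((hf a b).2 (QuotientGroup.leftRel_apply.1 h))) ⟨?_, ?_⟩)).symm
  · intro q r
    induction q using QuotientGroup.induction_on
    induction r using QuotientGroup.induction_on
    intro h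
    exact QuotientGroup.eq.2 ((hf _ _).1 (congrArg Subtype.val h))
  · rintro ⟨_, a, rfl⟩
    exact ⟨(a : H ⧸ C), rfl⟩

include hβ hp hfix in
/-- The main counting step: `τ` is the only one of its conjugates which is fixed. -/
theorem eq_of_fixed [IsSimpleGroup G] (hτ : orderOf τ = 2) (hne : fixedBy β ≠ ⊤) {c : G}
    (hc : IsConj τ c) (hcC : c ∈ fixedBy β) : c = τ := by
  classical
  have : Fact (Nat.Prime 2) := ⟨Nat.prime_two⟩
  cases nonempty_fintype G
  by_contra hcτ
  set C := fixedBy β with hCdef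
  let DC : Finset G := Finset.univ.filter fun d => IsConj τ d ∧ d ∈ C
  let DO : Finset G := Finset.univ.filter fun d => IsConj τ d ∧ d ∉ C
  let D : Finset G := Finset.univ.filter fun d => IsConj τ d
  have hτC : τ ∈ C := hfix τ (Subgroup.mem_centralizer_singleton_iff.2 rfl)
  have hord : ∀ d, IsConj τ d → orderOf d = 2 := fun d hd => by
    obtain ⟨g, rfl⟩ := isConj_iff.1 hd
    rw [orderOf_conj, hτ]
  -- the orders
  have hiff : ∀ a b : G, a * τ * a⁻¹ = b * τ * b⁻¹ ↔
      a⁻¹ * b ∈ Subgroup.centralizer ({τ} : Set G) := fun a b => by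
    rw [Subgroup.mem_centralizer_singleton_iff]
    constructor <;> intro h
    · calc a⁻¹ * b * τ = a⁻¹ * (b * τ * b⁻¹) * b := by group
        _ = τ * (a⁻¹ * b) := by rw [← h]; group
    · calc a * τ * a⁻¹ = a * (τ * (a⁻¹ * b)) * b⁻¹ := by group
        _ = b * τ * b⁻¹ := by rw [← h]; group
  have hD : D.card = (Subgroup.centralizer ({τ} : Set G)).index := by
    rw [← ncard_range_eq_index (fun a : G => a * τ * a⁻¹) _ hiff, ← Set.ncard_coe_finset]
    congr 1
    ext d
    simp [D, isConj_iff]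
  have hDC : DC.card = (Subgroup.centralizer ({τ} : Set G)).relIndex C := by
    rw [Subgroup.relIndex, ← ncard_range_eq_index (fun a : C => (a : G) * τ * (a : G)⁻¹) _
      (fun a b => by rw [Subgroup.mem_subgroupOf]; exact hiff a b), ← Set.ncard_coe_finset]
    congr 1
    ext d
    simp only [DC, Finset.coe_filter, Finset.mem_univ, true_and, Set.mem_setOf_eq, Set.mem_range]
    constructor
    · rintro ⟨hd, hdC⟩
      obtain ⟨g, rfl⟩ := isConj_iff.1 hd
      exact ⟨⟨g, mem_of_conj_mem β hβ hp hfix hdC⟩, rfl⟩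
    · rintro ⟨a, rfl⟩
      exact ⟨isConj_iff.2 ⟨_, rfl⟩, mul_mem (mul_mem a.2 hτC) (inv_mem a.2)⟩
  set m := DC.card
  set n := C.index
  have hDn : D.card = n * m := by
    rw [hD, hDC, mul_comm]
    exact (Subgroup.relIndex_mul_index (show Subgroup.centralizer ({τ} : Set G) ≤ C from hfix)).symm
  have hDO : DO.card + m = n * m := by
    have e1 : m = (D.filter fun d => d ∈ C).card := by simp only [m, DC, D, Finset.filter_filter]
    have e2 : DO = D.filter (fun d => ¬ d ∈ C) := by simp only [DO, D, Finset.filter_filter]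
    rw [← hDn, add_comm, e1, e2]
    exact Finset.card_filter_add_card_filter_not (fun d => d ∈ C)
  -- pairs in a common coset, lower bound
  let a : G ⧸ C → ℕ := fun q => (DO.filter fun d : G => (d : G ⧸ C) = q).card
  let Q : Finset (G ⧸ C) := Finset.univ.erase ((1 : G) : G ⧸ C)
  have hQ : Q.card + 1 = n := by
    rw [Finset.card_erase_add_one (Finset.mem_univ _), Finset.card_univ, ← Nat.card_eq_fintype_card]
    rfl
  have hsum : ∑ q ∈ Q, a q = DO.card := by
    refine (Finset.card_eq_sum_card_fiberwise (s := DO) (t := Q) (f := fun d : G => (d : G ⧸ C))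
      fun d hd => ?_).symm
    simp only [DO, Finset.coe_filter, Set.mem_setOf_eq] at hd
    simp only [Q, Finset.coe_erase, Finset.coe_univ, Set.mem_diff, Set.mem_univ, true_and,
      Set.mem_singleton_iff]
    rw [QuotientGroup.eq]
    intro h
    rw [mul_one, inv_mem_iff] at h
    exact hd.2.2 h
  have hlow : Q.card * (m * m) ≤ ∑ q ∈ Q, a q * a q := by
    have hi : ∀ q ∈ Q, 2 * (m * a q) ≤ a q * a q + m * m := fun q _ => by nlinarith [sq_nonneg ((a q : ℤ) - m)]
    have h := Finset.sum_le_sum hi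
    rw [← Finset.mul_sum, ← Finset.mul_sum, Finset.sum_add_distrib, Finset.sum_const, smul_eq_mul,
      hsum] at h
    have hQm : DO.card = Q.card * m := by
      have := hDO; rw [← hQ, add_mul, one_mul] at this; omega
    rw [hQm] at h
    nlinarith
  -- the pairs, by quotient
  let Nk : G → Finset G := fun k => DO.filter fun d => IsConj τ (d * k)
  let mk : G → Finset G := fun k => DC.filter fun d => IsConj τ (d * k)
  let Ck : Finset G := Finset.univ.filter fun k => k ∈ C
  have hup : ∑ q ∈ Q, a q * a q ≤ ∑ k ∈ Ck, (Nk k).card := by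
    rw [← Finset.card_sigma]
    have : ∑ q ∈ Q, a q * a q =
        (Q.sigma fun q => (DO.filter fun d : G => (d : G ⧸ C) = q) ×ˢ
          (DO.filter fun d : G => (d : G ⧸ C) = q)).card := by
      rw [Finset.card_sigma]
      simp [a]
    rw [this]
    refine Finset.card_le_card_of_injOn (fun x : (_ : G ⧸ C) × (G × G) => (⟨x.2.1⁻¹ * x.2.2, x.2.1⟩ : (_ : G) × G)) ?_ ?_
    · rintro ⟨q, d, d'⟩ hx
      simp only [Finset.coe_sigma, Set.mem_sigma_iff, Finset.mem_coe, Finset.mem_product,
        Finset.mem_filter] at hx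
      obtain ⟨-, ⟨hd, rfl⟩, hd', he⟩ := hx
      simp only [Finset.coe_sigma, Set.mem_sigma_iff, Finset.mem_coe, Ck, Nk, Finset.mem_filter,
        Finset.mem_univ, true_and]
      refine ⟨QuotientGroup.eq.1 he.symm, hd, ?_⟩
      rw [mul_inv_cancel_left]
      exact ((Finset.mem_filter.1 hd').2).1
    · rintro ⟨q, d, d'⟩ hx ⟨q', e, e'⟩ hy h
      simp only [Finset.coe_sigma, Set.mem_sigma_iff, Finset.mem_coe, Finset.mem_product,
        Finset.mem_filter] at hx hy
      simp only [Sigma.mk.injEq, heq_eq_eq] at h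
      obtain ⟨h1, rfl⟩ := h
      obtain rfl : d' = e' := mul_left_cancel h1
      obtain rfl : q = q' := hx.2.1.2.symm.trans hy.2.1.2
      rfl
  have hmk : ∑ k ∈ Ck, (mk k).card = m * m := by
    rw [← Finset.card_sigma, ← Finset.card_product]
    refine Finset.card_bij' (fun x _ => (x.2, x.2 * x.1)) (fun x _ => ⟨x.1⁻¹ * x.2, x.1⟩)
      ?_ ?_ ?_ ?_
    · rintro ⟨k, d⟩ hx
      simp only [Finset.mem_sigma, Ck, mk, DC, Finset.mem_filter, Finset.mem_univ, true_and] at hx
      simp only [Finset.mem_product, DC, Finset.mem_filter, Finset.mem_univ, true_and]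
      exact ⟨hx.2.1, hx.2.2, mul_mem hx.2.1.2 hx.1⟩
    · rintro ⟨d, e⟩ hx
      simp only [Finset.mem_product, DC, Finset.mem_filter, Finset.mem_univ, true_and] at hx
      simp only [Finset.mem_sigma, Ck, mk, DC, Finset.mem_filter, Finset.mem_univ, true_and]
      exact ⟨mul_mem (inv_mem hx.1.2) hx.2.2, hx.1, by rw [mul_inv_cancel_left]; exact hx.2.1⟩
    · rintro ⟨k, d⟩ -
      simp
    · rintro ⟨d, e⟩ -
      simp
  -- one quotient
  have hone : ∀ k ∈ C, (Nk k).card + (mk k).card ≤ n * (mk k).card ∧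
      (k ≠ 1 → 0 < (mk k).card → (Nk k).card + (mk k).card < n * (mk k).card) := by
    intro k hk
    have hsq : ∀ d : G, IsConj τ d → d * d = 1 := fun d hd => by
      rw [← sq, ← hord d hd, pow_orderOf_eq_one]
    let X : Subgroup G :=
      { carrier := {g | g * k * g⁻¹ = k ∨ g * k * g⁻¹ = k⁻¹}
        one_mem' := Or.inl (by group)
        mul_mem' := by
          intro x y hx hy
          have h : x * y * k * (x * y)⁻¹ = x * (y * k * y⁻¹) * x⁻¹ := by group
          have h' : x * k⁻¹ * x⁻¹ = (x * k * x⁻¹)⁻¹ := by group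
          show x * y * k * (x * y)⁻¹ = k ∨ x * y * k * (x * y)⁻¹ = k⁻¹
          rw [h]
          rcases hy with hy | hy <;> rw [hy]
          · exact hx
          · rw [h']
            rcases hx with hx | hx <;> rw [hx]
            · exact Or.inr rfl
            · exact Or.inl (inv_inv k)
        inv_mem' := by
          intro x hx
          rcases hx with hx | hx
          · left
            calc x⁻¹ * k * x⁻¹⁻¹ = x⁻¹ * (x * k * x⁻¹) * x := by rw [hx]; group
              _ = k := by group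
          · right
            calc x⁻¹ * k * x⁻¹⁻¹ = (x⁻¹ * (x * k * x⁻¹) * x)⁻¹ := by rw [hx]; group
              _ = k⁻¹ := by group }
    let A : Finset G := D.filter fun d => IsConj τ (d * k)
    have hAX : ∀ d ∈ A, d ∈ X := by
      intro d hd
      simp only [A, D, Finset.mem_filter, Finset.mem_univ, true_and] at hd
      refine Or.inr (eq_inv_of_mul_eq_one_left ?_)
      rw [inv_eq_of_mul_eq_one_right (hsq d hd.1)]
      have := hsq _ hd.2
      simpa [mul_assoc] using this
    have hAconj : ∀ x ∈ X, ∀ d ∈ A, x * d * x⁻¹ ∈ A := by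
      intro x hx d hd
      have hdX : d * k * d⁻¹ = k ∨ d * k * d⁻¹ = k⁻¹ := hAX d hd
      simp only [A, D, Finset.mem_filter, Finset.mem_univ, true_and] at hd ⊢
      refine ⟨hd.1.trans (isConj_iff.2 ⟨x, rfl⟩), hd.2.trans ?_⟩
      rcases hx with hx | hx
      · refine isConj_iff.2 ⟨x, ?_⟩
        calc x * (d * k) * x⁻¹ = x * d * x⁻¹ * (x * k * x⁻¹) := by group
          _ = _ := by rw [hx]
      · have hdk : k * (d * k) * k⁻¹ = d * k⁻¹ := by
          have h1 := hsq _ hd.2
          have h2 := hsq _ hd.1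
          calc k * (d * k) * k⁻¹ = d⁻¹ * (d * k * (d * k)) * k⁻¹ := by group
            _ = d * k⁻¹ := by rw [h1, mul_one, inv_eq_of_mul_eq_one_right h2]
        refine isConj_iff.2 ⟨x * k, ?_⟩
        calc x * k * (d * k) * (x * k)⁻¹ = x * (k * (d * k) * k⁻¹) * x⁻¹ := by group
          _ = x * d * x⁻¹ * (x * k * x⁻¹)⁻¹ := by rw [hdk]; group
          _ = _ := by rw [hx, inv_inv]
    have hXinv : ∀ x ∈ X, β x ∈ X := by
      intro x hx
      rcases hx with hx | hx
      · left
        have h := congrArg β hx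
        rwa [map_mul, map_mul, map_inv, (mem_fixedBy β).1 hk] at h
      · right
        have h := congrArg β hx
        rwa [map_mul, map_mul, map_inv, map_inv, (mem_fixedBy β).1 hk] at h
    obtain ⟨S, hSX, hS, hSinv, hSmax⟩ := exists_fixed_sylow β hβ hp X hXinv
    have hSC : S ≤ C := invariant_le β hβ hp hfix hτ S hS hSinv
    have hex : ∀ d ∈ A, ∃ x ∈ X, x * d * x⁻¹ ∈ C := fun d hd => by
      obtain ⟨x, hx, h⟩ := hSmax (Subgroup.zpowers d)
        (Subgroup.zpowers_le.2 (hAX d hd)) (IsPGroup.of_card (n := 1) (by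
          rw [Nat.card_zpowers, hord d (Finset.mem_filter.1 (Finset.mem_filter.1 hd).1).2, pow_one]))
      exact ⟨x, hx, hSC (h d (Subgroup.mem_zpowers d))⟩
    let I : Finset (G ⧸ C) := (Finset.univ.filter fun x : G => x ∈ X).image fun x : G => (x : G ⧸ C)
    have hcard : A.card ≤ I.card * (mk k).card := by
      choose x hx hxC using hex
      have hrep : ∀ q ∈ I, ∃ r ∈ X, (r : G ⧸ C) = q := fun q hq => by
        simpa [I] using hq
      choose r hrX hr using hrep
      have hqI : ∀ d (hd : d ∈ A), (((x d hd)⁻¹ : G) : G ⧸ C) ∈ I := fun d hd =>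
        Finset.mem_image_of_mem _ (Finset.mem_filter.2 ⟨Finset.mem_univ _, inv_mem (hx d hd)⟩)
      rw [← Finset.card_product]
      refine Finset.card_le_card_of_injOn
        (fun d => if hd : d ∈ A then ((((x d hd)⁻¹ : G) : G ⧸ C),
            (r _ (hqI d hd))⁻¹ * d * r _ (hqI d hd)) else (((1 : G) : G ⧸ C), d)) ?_ ?_
      · intro d hd
        simp only [Finset.mem_coe] at hd
        simp only [dif_pos hd, Finset.mem_coe, Finset.mem_product]
        refine ⟨hqI d hd, ?_⟩
        set s := r _ (hqI d hd)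
        have hs : s ∈ X := hrX _ (hqI d hd)
        have h1 := hAconj s⁻¹ (inv_mem hs) d hd
        rw [inv_inv] at h1
        have hh : s⁻¹ * (x d hd)⁻¹ ∈ C := QuotientGroup.eq.1 (hr _ (hqI d hd))
        have h2 : s⁻¹ * d * s ∈ C := by
          have := mul_mem (mul_mem hh (hxC d hd)) (inv_mem hh)
          convert this using 1
          group
        simp only [A, D, Finset.mem_filter, Finset.mem_univ, true_and] at h1
        simp only [mk, DC, Finset.mem_filter, Finset.mem_univ, true_and]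
        exact ⟨⟨h1.1, h2⟩, h1.2⟩
      · intro d hd e he h
        simp only [Finset.mem_coe] at hd he
        simp only [dif_pos hd, dif_pos he, Prod.mk.injEq] at h
        obtain ⟨h1, h2⟩ := h
        have : r _ (hqI d hd) = r _ (hqI e he) := by simp only [h1]
        rw [this] at h2
        exact mul_left_cancel (mul_right_cancel h2)
    have hsplit : (Nk k).card + (mk k).card = A.card := by
      rw [add_comm, show mk k = A.filter (fun d => d ∈ C) by
          ext; simp [mk, A, DC, D]; tauto,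
        show Nk k = A.filter (fun d => ¬ d ∈ C) by ext; simp [Nk, A, DO, D]; tauto]
      exact Finset.card_filter_add_card_filter_not (fun d => d ∈ C)
    have hIn : I.card ≤ n := by
      show I.card ≤ Nat.card (G ⧸ C)
      rw [Nat.card_eq_fintype_card]; exact I.card_le_univ
    refine ⟨?_, fun hk1 hpos => ?_⟩
    · rw [hsplit]; exact hcard.trans (Nat.mul_le_mul_right _ hIn)
    · rw [hsplit]
      refine hcard.trans_lt (Nat.mul_lt_mul_of_pos_right (lt_of_le_of_ne hIn fun h => ?_) hpos)
      have hIu : I = Finset.univ :=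
        Finset.eq_univ_of_card _ (h.trans (Nat.card_eq_fintype_card (α := G ⧸ C)))
      have hkg : ∀ g : G, g⁻¹ * k * g ∈ C := by
        intro g
        have hg : (g : G ⧸ C) ∈ I := hIu ▸ Finset.mem_univ _
        simp only [I, Finset.mem_image, Finset.mem_filter, Finset.mem_univ, true_and] at hg
        obtain ⟨y, hy, hyg⟩ := hg
        have hc := QuotientGroup.eq.1 hyg
        rw [show g⁻¹ * k * g = (y⁻¹ * g)⁻¹ * (y⁻¹ * k * y⁻¹⁻¹) * (y⁻¹ * g) by group]
        rcases inv_mem hy with h | h <;> rw [h]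
        · exact mul_mem (mul_mem (inv_mem hc) hk) hc
        · exact mul_mem (mul_mem (inv_mem hc) (inv_mem hk)) hc
      have hle : Subgroup.normalClosure ({k} : Set G) ≤ C := by
        refine (Subgroup.closure_le _).2 fun y hy => ?_
        obtain ⟨z, rfl, hz⟩ := Group.mem_conjugatesOfSet_iff.1 hy
        obtain ⟨g, rfl⟩ := isConj_iff.1 hz
        simpa using hkg g⁻¹
      rcases Subgroup.Normal.eq_bot_or_eq_top
        (Subgroup.normalClosure_normal (s := ({k} : Set G))) with h | h
      · exact hk1 (Subgroup.mem_bot.1 (h ▸ Subgroup.subset_normalClosure rfl))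
      · exact hne (top_le_iff.1 (h ▸ hle))
  -- comparison
  have hlt : ∑ k ∈ Ck, ((Nk k).card + (mk k).card) < ∑ k ∈ Ck, n * (mk k).card := by
    refine Finset.sum_lt_sum (fun k hk => (hone k (Finset.mem_filter.1 hk).2).1)
      ⟨τ * c, by simp [Ck, mul_mem hτC hcC],
        (hone _ (mul_mem hτC hcC)).2 ?_ (Finset.card_pos.2 ⟨τ, ?_⟩)⟩
    · intro h
      exact hcτ (by rw [← inv_eq_of_mul_eq_one_right h, inv_eq_of_mul_eq_one_right
        (by rw [← sq, ← hτ, pow_orderOf_eq_one] : τ * τ = 1)])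
    · simp only [mk, DC, Finset.mem_filter, Finset.mem_univ, true_and]
      refine ⟨⟨IsConj.refl τ, hτC⟩, ?_⟩
      rw [← mul_assoc, ← sq, ← hτ, pow_orderOf_eq_one, one_mul]
      exact hc
  rw [Finset.sum_add_distrib, ← Finset.mul_sum, hmk] at hlt
  rw [← hQ] at hlt
  nlinarith

end CfsgLib.Invol.CoprimeFix
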