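import Cfsg.Agent.Lib.Invol.HomocyclicBlock
import Cfsg.Agent.Lib.Invol.GlaubermanZStar
import Cfsg.Prelude.Def_Transfer
import Cfsg.Prelude.Def_Local

/-!
# A non-simplicity criterion from a weakly closed central subgroup

If `W ≤ Z(T)` is weakly closed and, for every involution `x` of a coset `Wt` outside `W`, `W` lies in
`O_{2',2}(C(x))`, then on the columns of the principal block at these involutions every
`χ(w)/χ(1)` (`w ∈ W` an involution) acts with a fixed vector of too small norm.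
-/

set_option autoImplicit false

open scoped ComplexConjugate

namespace CfsgLib.Invol.CosetCriterion

universe u

variable {G : Type u} [Group G] [Finite G] (T : Sylow 2 G) {W : Subgroup G}
  (hwc : Cfsg.IsWeaklyClosed W (T : Subgroup G))
  (hWc : ∀ w ∈ W, ∀ s ∈ (T : Subgroup G), s * w = w * s)

omit [Finite G] in
/-- In a simple group only the principal character takes its degree at a nontrivial element. -/
theorem eq_principal_of_simple [Fintype G] [IsSimpleGroup G] (χ : Cfsg.IrrCharacter G) {w : G}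
    (hw : w ≠ 1) (h : (χ : G → ℂ) w = (χ : G → ℂ) 1) : χ = CfsgLib.Char.principalIrr := by
  obtain ⟨d, ρ, hρ, hχρ⟩ := χ.2
  have hρw : ρ w = 1 := by
    have h' := CfsgLib.Char.eq_smul_id_of_character_eq ρ w 1 (by simp) (by
      rw [hχρ, h, ← hχρ, Representation.char_one, mul_one])
    rw [h', one_smul]
    rfl
  have htop : MonoidHom.ker ρ = ⊤ :=
    ((MonoidHom.normal_ker ρ).eq_bot_or_eq_top).resolve_left fun hb =>
      hw (Subgroup.mem_bot.1 (hb ▸ (MonoidHom.mem_ker.2 hρw : w ∈ MonoidHom.ker ρ)))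
  have hall : ∀ g, ρ g = 1 := fun g => (htop ▸ Subgroup.mem_top g : g ∈ MonoidHom.ker ρ)
  have h1 := CfsgLib.CharKernel.finrank_eq_one_of_trivial ρ hall
  apply Subtype.ext
  funext g
  rw [← hχρ, CfsgLib.Char.principalIrr_apply, Representation.character, hall g,
    LinearMap.trace_one, h1, Nat.cast_one]

/-- The conjugate `gWg⁻¹`. -/
def cj (W : Subgroup G) (g : G) : Subgroup G := W.map (MulAut.conj g).toMonoidHom

omit [Finite G] in
theorem cj_mul (a b : G) : cj W (a * b) = cj (cj W b) a := by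
  simp only [cj, Subgroup.map_map, map_mul]
  rfl

omit [Finite G] in
theorem mem_cj {g x : G} : x ∈ cj W g ↔ ∃ w ∈ W, g * w * g⁻¹ = x := by
  simp [cj, Subgroup.mem_map]

omit [Finite G] in
theorem cj_one : cj W 1 = W := by
  ext x
  simp [mem_cj]

include hwc in
/-- A 2-subgroup contains at most one conjugate of `W`. -/
theorem eq_of_le (R : Subgroup G) (hR : IsPGroup 2 R) {g : G} (hW : W ≤ R) (hg : cj W g ≤ R) :
    cj W g = W := by
  have : Fact (Nat.Prime 2) := ⟨Nat.prime_two⟩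
  obtain ⟨Q, hQ⟩ := hR.exists_le_sylow
  obtain ⟨a, ha⟩ := MulAction.exists_smul_eq G Q T
  have hle : ∀ U : Subgroup G, U ≤ R → cj U a ≤ (T : Subgroup G) := by
    intro U hU x hx
    obtain ⟨y, hy, rfl⟩ := mem_cj.1 hx
    rw [← ha]
    exact Subgroup.smul_mem_pointwise_smul y (MulAut.conj a) (Q : Subgroup G) (hQ (hU hy))
  have h1 := hwc.2 a (hle W hW)
  have h2 := hwc.2 (a * g) (by
    have := hle _ hg
    rwa [← cj_mul] at this)
  change cj W a = W at h1
  change cj W (a * g) = W at h2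
  have hW' : cj W a⁻¹ = W := by
    conv_lhs => rw [← h1, ← cj_mul, inv_mul_cancel, cj_one]
  calc cj W g = cj (cj W (a * g)) a⁻¹ := by rw [← cj_mul, inv_mul_cancel_left]
    _ = W := by rw [h2, hW']

include hwc in
/-- Conjugates of `W` inside a subgroup are conjugate there. -/
theorem conj_in {H : Subgroup G} {g : G} (hW : W ≤ H) (hg : cj W g ≤ H) :
    ∃ h ∈ H, cj W g = cj W h := by
  have : Fact (Nat.Prime 2) := ⟨Nat.prime_two⟩
  have hW2 : IsPGroup 2 W := T.2.to_le hwc.1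
  have hg2 : IsPGroup 2 (cj W g) := hW2.map _
  obtain ⟨R, hR⟩ := (hW2.comap_of_injective H.subtype Subtype.val_injective :
    IsPGroup 2 (W.subgroupOf H)).exists_le_sylow
  obtain ⟨R', hR'⟩ := (hg2.comap_of_injective H.subtype Subtype.val_injective :
    IsPGroup 2 ((cj W g).subgroupOf H)).exists_le_sylow
  obtain ⟨h, hh⟩ := MulAction.exists_smul_eq H R' R
  have hWR : W ≤ (R : Subgroup H).map H.subtype := fun w hw =>
    ⟨⟨w, hW hw⟩, hR (Subgroup.mem_subgroupOf.2 hw), rfl⟩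
  have hgR : cj W ((h : G) * g) ≤ (R : Subgroup H).map H.subtype := by
    rw [cj_mul]
    intro x hx
    obtain ⟨y, hy, rfl⟩ := mem_cj.1 hx
    refine ⟨h * ⟨y, hg hy⟩ * h⁻¹, ?_, rfl⟩
    rw [SetLike.mem_coe, ← hh]
    exact Subgroup.smul_mem_pointwise_smul _ (MulAut.conj h) (R' : Subgroup H)
      (hR' (Subgroup.mem_subgroupOf.2 hy))
  have heq := eq_of_le T hwc _ (R.2.map _) hWR hgR
  refine ⟨(h : G)⁻¹, inv_mem h.2, ?_⟩
  calc cj W g = cj (cj W ((h : G) * g)) (h : G)⁻¹ := by rw [← cj_mul, inv_mul_cancel_left]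
    _ = _ := by rw [heq]

include hwc in
/-- If `W ≤ O_{2',2}(H)` then the conjugates of `W` in `H` form one orbit of `O(H)`. -/
theorem conj_core {H : Subgroup G} {g : G} (hW : W ≤ H) (hg : cj W g ≤ H)
    (hL : W.subgroupOf H ≤ Cfsg.pPrimePCore 2 H) :
    ∃ o ∈ (Cfsg.pPrimeCore 2 H).map H.subtype, cj W g = cj W o := by
  have : Fact (Nat.Prime 2) := ⟨Nat.prime_two⟩
  set L := Cfsg.pPrimePCore 2 H with hLdef
  haveI : (Cfsg.pCore 2 (H ⧸ Cfsg.pPrimeCore 2 H)).Normal := CfsgLib.Solvable.pCore_normal 2 _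
  haveI : L.Normal := by rw [hLdef, Cfsg.pPrimePCore]; infer_instance
  obtain ⟨h, hh, hgh⟩ := conj_in T hwc hW hg
  obtain ⟨R, hR⟩ := (((T.2.to_le hwc.1).comap_of_injective H.subtype Subtype.val_injective :
    IsPGroup 2 (W.subgroupOf H)).comap_of_injective L.subtype Subtype.val_injective :
    IsPGroup 2 ((W.subgroupOf H).subgroupOf L)).exists_le_sylow
  set R₀ : Subgroup G := ((R : Subgroup L).map L.subtype).map H.subtype with hR₀
  have hWR : W ≤ R₀ := fun w hw =>
    ⟨⟨w, hW hw⟩, ⟨⟨⟨w, hW hw⟩, hL (Subgroup.mem_subgroupOf.2 hw)⟩,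
      hR (Subgroup.mem_subgroupOf.2 (Subgroup.mem_subgroupOf.2 hw)), rfl⟩, rfl⟩
  have hR₀2 : IsPGroup 2 R₀ := (R.2.map _).map _
  have hsup := Sylow.normalizer_sup_eq_top R
  obtain ⟨l, hl, n, hn, hln⟩ := Subgroup.mem_sup_of_normal_left.1
    (show (⟨h, hh⟩ : H) ∈ L ⊔ Subgroup.normalizer (((R : Subgroup L).map L.subtype : Subgroup H) : Set H) by
      rw [sup_comm, hsup]; exact Subgroup.mem_top _)
  have hn' : cj W (n : G) = W := by
    refine eq_of_le T hwc R₀ hR₀2 hWR fun x hx => ?_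
    obtain ⟨w, hw, rfl⟩ := mem_cj.1 hx
    obtain ⟨y, hy, hyw⟩ := hWR hw
    refine ⟨n * y * n⁻¹, (Subgroup.mem_normalizer_iff.1 hn y).1 hy, ?_⟩
    rw [← hyw]; rfl
  -- `L` is the product of its core and `R`
  set OL := (Cfsg.pPrimeCore 2 H).subgroupOf L with hOL
  haveI : OL.Normal := (CfsgLib.Solvable.pPrimeCore_normal 2 H).subgroupOf L
  haveI := CfsgLib.Solvable.pPrimeCore_normal 2 H
  have h2 : IsPGroup 2 (L ⧸ OL) := by
    intro q
    induction q using QuotientGroup.induction_on with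
    | H a =>
      obtain ⟨k, hk⟩ := CfsgLib.Solvable.pCore_isPGroup (p := 2) (H ⧸ Cfsg.pPrimeCore 2 H)
        ⟨QuotientGroup.mk' (Cfsg.pPrimeCore 2 H) (a : H), a.2⟩
      refine ⟨k, ?_⟩
      rw [← QuotientGroup.mk_pow, QuotientGroup.eq_one_iff, hOL, Subgroup.mem_subgroupOf,
        ← QuotientGroup.eq_one_iff]
      exact congrArg Subtype.val hk
  have htop : OL ⊔ (R : Subgroup L) = ⊤ := by
    rw [← Subgroup.index_eq_one]
    obtain ⟨k, hk⟩ := h2.exists_card_eq
    have h1 : (OL ⊔ (R : Subgroup L)).index ∣ 2 ^ k := hk ▸ Subgroup.index_dvd_of_le le_sup_left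
    have h3 : ¬ 2 ∣ (OL ⊔ (R : Subgroup L)).index := fun h =>
      R.not_dvd_index (h.trans (Subgroup.index_dvd_of_le le_sup_right))
    exact Nat.eq_one_of_dvd_coprimes
      (((Nat.prime_two.coprime_iff_not_dvd.2 h3)).pow_left k) h1 dvd_rfl
  obtain ⟨o, ho, r, hr, hor⟩ := Subgroup.mem_sup_of_normal_left.1
    (htop ▸ Subgroup.mem_top (⟨l, hl⟩ : L) : (⟨l, hl⟩ : L) ∈ OL ⊔ (R : Subgroup L))
  have hr' : cj W ((r : H) : G) = W := by
    refine eq_of_le T hwc R₀ hR₀2 hWR fun x hx => ?_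
    obtain ⟨w, hw, rfl⟩ := mem_cj.1 hx
    obtain ⟨_, ⟨y, hy, rfl⟩, hyw⟩ := hWR hw
    refine ⟨_, ⟨r * y * r⁻¹, mul_mem (mul_mem hr hy) (inv_mem hr), rfl⟩, ?_⟩
    rw [← hyw]; rfl
  refine ⟨((o : H) : G), ⟨(o : H), Subgroup.mem_subgroupOf.1 ho, rfl⟩, ?_⟩
  have e : h = ((o : H) : G) * ((r : H) : G) * (n : G) := by
    have e1 : l * n = (⟨h, hh⟩ : H) := hln
    have e2 : (o : H) * (r : H) = l := congrArg Subtype.val hor
    rw [← e2] at e1
    exact (congrArg Subtype.val e1).symm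
  rw [hgh, e, cj_mul, hn', cj_mul, hr']

include hwc hWc in
/-- A conjugate of an element of `W` centralizing `W` lies in `W`. -/
theorem mem_of_conj_centralizes {w g : G} (hw : w ∈ W)
    (hv : ∀ w' ∈ W, Commute (g * w * g⁻¹) w') : g * w * g⁻¹ ∈ W := by
  set v := g * w * g⁻¹ with hvdef
  have hW : W ≤ Subgroup.centralizer ({v} : Set G) := fun x hx =>
    Subgroup.mem_centralizer_singleton_iff.2 (hv x hx).eq.symm
  have hg : cj W g ≤ Subgroup.centralizer ({v} : Set G) := fun x hx => by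
    obtain ⟨y, hy, rfl⟩ := mem_cj.1 hx
    refine Subgroup.mem_centralizer_singleton_iff.2 ?_
    have h := hWc w hw y (hwc.1 hy)
    calc g * y * g⁻¹ * v = g * (y * w) * g⁻¹ := by rw [hvdef]; group
      _ = v * (g * y * g⁻¹) := by rw [h, hvdef]; group
  obtain ⟨h, hh, hgh⟩ := conj_in T hwc hW hg
  obtain ⟨y, hy, hyv⟩ := mem_cj.1 (hgh ▸ mem_cj.2 ⟨w, hw, rfl⟩ : v ∈ cj W h)
  have hc := Subgroup.mem_centralizer_singleton_iff.1 hh
  have : y = v := by
    calc y = h⁻¹ * (h * y * h⁻¹) * h := by group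
      _ = h⁻¹ * (h * v) := by rw [hyv, hc]; group
      _ = v := inv_mul_cancel_left h v
  rwa [this] at hy

include hwc hWc in
/-- A product of an involution of the coset and a conjugate of an involution of `W` has the same
principal block values as some involution of the coset. -/
theorem exists_section {t x w : G} (htT : t ∈ (T : Subgroup G)) (htW : t ∉ W) (hxt : x * t⁻¹ ∈ W)
    (hx : orderOf x = 2) (hcos : ∀ u ∈ W, orderOf (u * t) = 2 →
      W.subgroupOf (Subgroup.centralizer ({u * t} : Set G)) ≤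
        Cfsg.pPrimePCore 2 ↥(Subgroup.centralizer ({u * t} : Set G)))
    (hw : w ∈ W) (hw2 : orderOf w = 2) (g : G) :
    ∃ i o y : G, i * t⁻¹ ∈ W ∧ orderOf i = 2 ∧ y ∈ Cfsg.centralizerPPrimeCore 2 i ∧
      o * (x * (g * w * g⁻¹)) * o⁻¹ = i * y := by
  have : Fact (Nat.Prime 2) := ⟨Nat.prime_two⟩
  set v := g * w * g⁻¹ with hv
  have hv2 : orderOf v = 2 := by rw [hv, orderOf_conj, hw2]
  have hxx : x * x = 1 := mul_self_eq_one hx
  have hvv : v * v = 1 := mul_self_eq_one hv2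
  set r := x * v with hr
  obtain ⟨a, b, hb, hab⟩ := Nat.exists_eq_pow_mul_and_not_dvd (orderOf_pos r).ne' 2 (by norm_num)
  -- a conjugate of `v` generating a 2-group with `x`
  obtain ⟨k, hk⟩ : ∃ k : ℤ, (b : ℤ) ∣ 1 - 2 * k := by
    obtain ⟨c, hc⟩ : Odd b := Nat.odd_iff.2 (by omega)
    exact ⟨(c : ℤ) + 1, ⟨-1, by rw [hc]; push_cast; ring⟩⟩
  have hxr : x * r * x⁻¹ = r⁻¹ := by
    rw [hr, inv_eq_of_mul_eq_one_right hxx, mul_inv_rev, inv_eq_of_mul_eq_one_right hxx,
      inv_eq_of_mul_eq_one_right hvv]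
    rw [← mul_assoc, hxx, one_mul]
  set v' := r ^ k * v * (r ^ k)⁻¹ with hv'
  have hprod : x * v' = r ^ (1 - 2 * k) := by
    have h := conj_zpow_of_inverts hxr k
    calc x * v' = (x * r ^ k * x⁻¹) * (x * v) * (r ^ k)⁻¹ := by rw [hv']; group
      _ = r ^ (-k) * r * r ^ (-k) := by rw [h, ← hr, zpow_neg]
      _ = _ := by rw [← zpow_add_one, ← zpow_add]; congr 1; ring
  have hv'2 : orderOf v' = 2 := by rw [hv', orderOf_conj, hv2]
  obtain ⟨k', hk', hk'e⟩ := (Nat.dvd_prime_pow Nat.prime_two).1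
    (show orderOf (x * v') ∣ 2 ^ a by
      refine orderOf_dvd_of_pow_eq_one ?_
      rw [hprod, ← zpow_natCast, ← zpow_mul, ← orderOf_dvd_iff_zpow_eq_one, hab]
      push_cast
      rw [mul_comm]
      exact mul_dvd_mul_right hk _)
  obtain ⟨Q, hQ⟩ := (isPGroup_two_closure_pair hx hv'2 hk'e).exists_le_sylow
  obtain ⟨c, hc⟩ := MulAction.exists_smul_eq G T Q
  have hQmem : ∀ s, s ∈ (Q : Subgroup G) → c⁻¹ * s * c ∈ (T : Subgroup G) := fun s hs => by
    rw [← hc] at hs
    obtain ⟨s', hs', rfl⟩ : ∃ s' ∈ (T : Subgroup G), c * s' * c⁻¹ = s := by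
      obtain ⟨s', hs', h'⟩ := (Subgroup.mem_map.1 hs : _)
      exact ⟨s', hs', h'⟩
    rwa [show c⁻¹ * (c * s' * c⁻¹) * c = s' by group]
  have hcomm : ∀ s ∈ (Q : Subgroup G), ∀ y ∈ cj W c, Commute s y := fun s hs y hy => by
    obtain ⟨y', hy', rfl⟩ := mem_cj.1 hy
    have h := hWc y' hy' _ (hQmem s hs)
    calc s * (c * y' * c⁻¹) = c * (c⁻¹ * s * c * y') * c⁻¹ := by group
      _ = c * y' * c⁻¹ * s := by rw [h]; group
  set u₀ := x * t⁻¹ with hu₀
  have hxe : x = u₀ * t := by rw [hu₀, inv_mul_cancel_right]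
  have hxT : x ∈ (T : Subgroup G) := hxe ▸ mul_mem (hwc.1 hxt) htT
  have hgood := hcos u₀ hxt (hxe ▸ hx)
  rw [← hxe] at hgood
  obtain ⟨o, ho, hco⟩ := conj_core T hwc
    (fun y hy => Subgroup.mem_centralizer_singleton_iff.2 (hWc y hy x hxT).symm)
    (fun y hy => Subgroup.mem_centralizer_singleton_iff.2
      (hcomm x (hQ (left_mem_closure_pair x v')) y hy).eq.symm) hgood
  have hox : o * x = x * o := by
    obtain ⟨o', -, rfl⟩ := ho
    exact Subgroup.mem_centralizer_singleton_iff.1 o'.2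
  set u := o⁻¹ * v' * o with hu
  have huW : u ∈ W := by
    have hue : u = (o⁻¹ * r ^ k * g) * w * (o⁻¹ * r ^ k * g)⁻¹ := by rw [hu, hv', hv]; group
    rw [hue]
    refine mem_of_conj_centralizes T hwc hWc hw fun y hy => ?_
    rw [← hue]
    have h := hcomm v' (hQ (right_mem_closure_pair x v')) (o * y * o⁻¹)
      (hco ▸ mem_cj.2 ⟨y, hy, rfl⟩)
    calc u * y = o⁻¹ * (v' * (o * y * o⁻¹)) * o := by rw [hu]; group
      _ = y * u := by rw [h.eq, hu]; group
  set i := x * u with hi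
  have hit : i * t⁻¹ ∈ W := by
    have : i * t⁻¹ = u₀ * u := by
      rw [hi, hxe, mul_assoc u₀ t u, hWc u huW t htT]; group
    rw [this]; exact mul_mem hxt huW
  have hii : i * i = 1 := by
    have hu2 : u * u = 1 := by
      rw [hu, show o⁻¹ * v' * o * (o⁻¹ * v' * o) = o⁻¹ * (v' * v') * o by group,
        mul_self_eq_one hv'2]
      group
    have : Commute x u := hWc u huW x hxT
    rw [hi, this.symm.mul_mul_mul_comm, hxx, hu2, one_mul]
  have hi1 : i ≠ 1 := fun h => htW (by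
    rw [h, one_mul] at hit
    exact inv_mem_iff.1 hit)
  have hi2 : orderOf i = 2 := orderOf_eq_two hi1 hii
  have hrel : o⁻¹ * r ^ (1 - 2 * k) * o = i := by
    have hox' : o⁻¹ * x * o = x := by rw [mul_assoc, ← hox, inv_mul_cancel_left]
    rw [← hprod, show o⁻¹ * (x * v') * o = (o⁻¹ * x * o) * (o⁻¹ * v' * o) by group, hox']
  set y := o⁻¹ * r ^ (2 * k) * o with hy
  have hiy : o⁻¹ * r * o = i * y := by
    rw [← hrel, hy, show o⁻¹ * r ^ (1 - 2 * k) * o * (o⁻¹ * r ^ (2 * k) * o) =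
      o⁻¹ * (r ^ (1 - 2 * k) * r ^ (2 * k)) * o by group, ← zpow_add,
      show (1 : ℤ) - 2 * k + 2 * k = 1 by ring, zpow_one]
  refine ⟨i, o⁻¹, y, hit, hi2, ?_, by rw [inv_inv, hiy]⟩
  -- `y` has odd order
  have hodd : Odd (orderOf y) := by
    have hri : (r ^ (1 - 2 * k)) ^ 2 = 1 ∧ r ^ (1 - 2 * k) ≠ 1 := by
      have e : r ^ (1 - 2 * k) = o * i * o⁻¹ := by rw [← hrel]; group
      rw [e]
      refine ⟨by rw [sq, show o * i * o⁻¹ * (o * i * o⁻¹) = o * (i * i) * o⁻¹ by group, hii]; group,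
        fun h => hi1 ?_⟩
      rw [← hrel, e, h]; group
    have hdvd : (orderOf r : ℤ) ∣ 2 * (1 - 2 * k) := by
      rw [orderOf_dvd_iff_zpow_eq_one, mul_comm, zpow_mul]
      exact_mod_cast hri.1
    rw [hab] at hdvd
    have ha1 : a ≤ 1 := by
      by_contra h
      push Not at h
      have h4 : ((2 ^ 2 : ℕ) : ℤ) ∣ 2 * (1 - 2 * k) :=
        (Int.natCast_dvd_natCast.2 ((pow_dvd_pow 2 h).trans (dvd_mul_right _ _))).trans hdvd
      norm_num at h4
      omega
    have he : orderOf y ∣ b := by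
      refine orderOf_dvd_of_pow_eq_one ?_
      have : (r ^ (2 * k)) ^ b = 1 := by
        rw [← zpow_natCast, ← zpow_mul, ← orderOf_dvd_iff_zpow_eq_one, hab]
        push_cast
        rw [mul_comm (2 * k) (b : ℤ), mul_comm ((2 : ℤ) ^ a)]
        refine mul_dvd_mul_left _ ((pow_dvd_pow (2 : ℤ) ha1).trans ?_)
        rw [pow_one]
        exact dvd_mul_right _ _
      rw [hy, show o⁻¹ * r ^ (2 * k) * o = o⁻¹ * r ^ (2 * k) * o⁻¹⁻¹ by rw [inv_inv], conj_pow, this]
      group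
    exact Odd.of_dvd_nat (Nat.odd_iff.2 (by omega)) he
  -- `u` inverts `y`
  have hxy : x * y * x⁻¹ = y⁻¹ := by
    have hox' : x * o⁻¹ = o⁻¹ * x := by
      rw [eq_inv_mul_iff_mul_eq, ← mul_assoc, hox, mul_inv_cancel_right]
    calc x * y * x⁻¹ = (x * o⁻¹) * r ^ (2 * k) * (x * o⁻¹)⁻¹ := by rw [hy]; group
      _ = o⁻¹ * (x * r ^ (2 * k) * x⁻¹) * o := by rw [hox']; group
      _ = y⁻¹ := by rw [conj_zpow_of_inverts hxr, hy]; group
  have hcy : Commute i y := by
    have hc := (Commute.refl r).zpow_zpow (1 - 2 * k) (2 * k)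
    have e : i * y = o⁻¹ * (r ^ (1 - 2 * k) * r ^ (2 * k)) * o := by rw [← hrel, hy]; group
    have e' : y * i = o⁻¹ * (r ^ (2 * k) * r ^ (1 - 2 * k)) * o := by rw [← hrel, hy]; group
    show i * y = y * i
    rw [e, e', hc.eq]
  have huy : u * y * u⁻¹ = y⁻¹ := by
    have hiy' : i * y * i⁻¹ = y := by rw [hcy.eq, mul_inv_cancel_right]
    have hxu : x⁻¹ * i = u := by rw [hi, inv_mul_cancel_left]
    calc u * y * u⁻¹ = x⁻¹ * (i * y * i⁻¹) * x := by rw [← hxu]; group
      _ = x * y * x⁻¹ := by rw [hiy', inv_eq_of_mul_eq_one_right hxx]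
      _ = y⁻¹ := hxy
  -- so it lies in the core
  set C := Subgroup.centralizer ({i} : Set G) with hC
  have hyC : y ∈ C := Subgroup.mem_centralizer_singleton_iff.2 hcy.eq.symm
  have huC : u ∈ C := Subgroup.mem_centralizer_singleton_iff.2 (by
    rw [hi, ← mul_assoc, ← hWc u huW x hxT, mul_assoc])
  have hgood' := hcos (i * t⁻¹) hit (by rwa [inv_mul_cancel_right])
  rw [inv_mul_cancel_right] at hgood'
  haveI : (Cfsg.pCore 2 (C ⧸ Cfsg.pPrimeCore 2 C)).Normal := CfsgLib.Solvable.pCore_normal 2 _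
  haveI := CfsgLib.Solvable.pPrimeCore_normal 2 C
  haveI : (Cfsg.pPrimePCore 2 C).Normal := by rw [Cfsg.pPrimePCore]; infer_instance
  have huL : (⟨u, huC⟩ : C) ∈ Cfsg.pPrimePCore 2 C := hgood' (Subgroup.mem_subgroupOf.2 huW)
  set Y : C := ⟨y, hyC⟩
  have hy2 : Y * Y ∈ Cfsg.pPrimePCore 2 C := by
    have hm := (mul_mem (Subgroup.Normal.conj_mem inferInstance _ huL Y) (inv_mem huL))
    convert hm using 1
    refine Subtype.ext ?_
    show y * y = y * u * y⁻¹ * u⁻¹
    rw [show y * u * y⁻¹ * u⁻¹ = y * (u * y * u⁻¹)⁻¹ by group, huy, inv_inv]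
  have hYodd : Odd (orderOf Y) := by rwa [Subgroup.orderOf_mk]
  obtain ⟨j, hj⟩ := hYodd
  have hY : Y ∈ Cfsg.pPrimePCore 2 C := by
    have h1 : (Y * Y) ^ (j + 1) = Y := by
      rw [← sq, ← pow_mul, show 2 * (j + 1) = (2 * j + 1) + 1 by ring, pow_succ, ← hj,
        pow_orderOf_eq_one, one_mul]
    exact h1 ▸ pow_mem hy2 _
  obtain ⟨e, he⟩ := CfsgLib.Solvable.pCore_isPGroup (p := 2) (C ⧸ Cfsg.pPrimeCore 2 C)
    ⟨QuotientGroup.mk' _ Y, hY⟩
  refine ⟨Y, ?_, rfl⟩
  rw [SetLike.mem_coe, ← QuotientGroup.eq_one_iff, ← orderOf_eq_one_iff]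
  have h1 : orderOf (QuotientGroup.mk' (Cfsg.pPrimeCore 2 C) Y) ∣ orderOf Y := orderOf_map_dvd _ _
  have h2 : orderOf (QuotientGroup.mk' (Cfsg.pPrimeCore 2 C) Y) ∣ 2 ^ e :=
    orderOf_dvd_of_pow_eq_one (congrArg Subtype.val he)
  exact Nat.eq_one_of_dvd_coprimes
    ((Nat.coprime_two_left.2 ⟨j, hj⟩).pow_left e) h2 h1

/-- A column norm of the principal block is at least the order of a 2-subgroup of the
centralizer. -/
theorem card_le_norm {M : Ideal Cfsg.AlgInt} (hM : Cfsg.IsPModular 2 M) {x : G}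
    (hx : orderOf x = 2) (R : Subgroup G) (hR : IsPGroup 2 R)
    (hRC : R ≤ Subgroup.centralizer ({x} : Set G)) :
    ∃ n : ℕ, Nat.card R ≤ n ∧
      ∑ χ ∈ BlockCol.pBlock M G, (χ : G → ℂ) x * conj ((χ : G → ℂ) x) = (n : ℂ) := by
  classical
  have : Fact (Nat.Prime 2) := ⟨Nat.prime_two⟩
  haveI := hM.2.1
  cases nonempty_fintype G
  set C := Subgroup.centralizer ({x} : Set G)
  set b := BlockCol.pBlock M C with hb
  have h1 : ¬ 2 ∣ orderOf (1 : C) := by simp
  have hsec : ∑ χ ∈ BlockCol.pBlock M G, (χ : G → ℂ) x * conj ((χ : G → ℂ) x) =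
      ∑ ψ ∈ b, (ψ : C → ℂ) 1 * conj ((ψ : C → ℂ) 1) := by
    have h := BlockCol.sum_section hM (x := x) ⟨1, by rw [pow_one, hx]⟩ 1 1 h1 h1
    simpa using h
  choose d hd using fun ψ : Cfsg.IrrCharacter C =>
    (⟨Cfsg.charDegree (ψ : C → ℂ), CfsgLib.Blk83.one_eq ψ⟩ : ∃ d : ℕ, (ψ : C → ℂ) 1 = (d : ℂ))
  choose m hm using fun ψ : Cfsg.IrrCharacter C =>
    CfsgLib.Blk83.exists_nat_sum_eq ψ (R.subgroupOf C)
  set n := ∑ ψ ∈ b, d ψ * d ψ with hn
  have hsum : ∑ ψ ∈ b, (ψ : C → ℂ) 1 * conj ((ψ : C → ℂ) 1) = (n : ℂ) := by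
    rw [hn, Nat.cast_sum]
    exact Finset.sum_congr rfl fun ψ _ => by rw [hd, map_natCast, Nat.cast_mul]
  have hpos : 0 < n := by
    refine Finset.sum_pos' (fun _ _ => Nat.zero_le _)
      ⟨CfsgLib.Char.principalIrr, BlockCol.mem_pBlock.2 CfsgLib.Blocks.principalIrr_mem_principalBlock, ?_⟩
    have := hd (CfsgLib.Char.principalIrr : Cfsg.IrrCharacter C)
    rw [CfsgLib.Char.principalIrr_apply] at this
    have hd1 : d (CfsgLib.Char.principalIrr : Cfsg.IrrCharacter C) = 1 := by exact_mod_cast this.symm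
    rw [hd1]; norm_num
  have hdvd : Nat.card R ∣ n := by
    refine ⟨∑ ψ ∈ b, d ψ * m ψ, ?_⟩
    have h : ∑ y : R.subgroupOf C, ∑ ψ ∈ b, (ψ : C → ℂ) y * conj ((ψ : C → ℂ) 1) =
        ∑ ψ ∈ b, (ψ : C → ℂ) 1 * conj ((ψ : C → ℂ) 1) := by
      rw [Finset.sum_eq_single (1 : R.subgroupOf C) (fun y _ hy => ?_)
        (fun h => absurd (Finset.mem_univ _) h), OneMemClass.coe_one]
      have ho : 2 ∣ orderOf ((y : C)) := by
        obtain ⟨k, hk⟩ := IsPGroup.iff_orderOf.1 (hR.comap_of_injective C.subtype Subtype.val_injective) y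
        have hk' : orderOf y = 2 ^ k := hk
        rw [Subgroup.orderOf_coe, hk']
        refine dvd_pow_self 2 fun h => hy ?_
        rw [h, pow_zero] at hk'
        exact orderOf_eq_one_iff.1 hk'
      have horth := CfsgLib.BlockReg.block_orth_swap hM CfsgLib.Blocks.isPBlock_principalBlock
        (1 : C) (y : C) h1 ho
      rwa [BlockCol.finsum_principal] at horth
    rw [hsum, Finset.sum_comm] at h
    have h' : (n : ℂ) = ((Nat.card R * ∑ ψ ∈ b, d ψ * m ψ : ℕ) : ℂ) := by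
      rw [← h, Nat.cast_mul, Nat.cast_sum, Finset.mul_sum]
      refine Finset.sum_congr rfl fun ψ _ => ?_
      rw [← Finset.sum_mul, hm ψ, hd, map_natCast,
        Nat.card_congr (Subgroup.subgroupOfEquivOfLe hRC).toEquiv, Nat.cast_mul]
      ring
    exact_mod_cast h'
  exact ⟨n, Nat.le_of_dvd hpos hdvd, by rw [hsec, hsum]⟩

include hwc hWc in
/-- The criterion. -/
theorem not_simple [IsSimpleGroup G] (hW1 : W ≠ ⊥) {t : G} (ht : orderOf t = 2)
    (htT : t ∈ (T : Subgroup G)) (htW : t ∉ W)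
    (hcos : ∀ w ∈ W, orderOf (w * t) = 2 →
      W.subgroupOf (Subgroup.centralizer ({w * t} : Set G)) ≤
        Cfsg.pPrimePCore 2 ↥(Subgroup.centralizer ({w * t} : Set G))) : False := by
  classical
  have : Fact (Nat.Prime 2) := ⟨Nat.prime_two⟩
  cases nonempty_fintype G
  obtain ⟨M, hM⟩ := CfsgLib.BlockReg.exists_isPModular Nat.prime_two
  haveI := hM.2.1
  obtain ⟨w, hwW, hw2⟩ : ∃ w ∈ W, orderOf w = 2 := by
    obtain ⟨k, hk⟩ := IsPGroup.iff_card.1 (T.2.to_le hwc.1)
    have hk0 : k ≠ 0 := fun h => hW1 (Subgroup.card_eq_one.1 (by rw [hk, h, pow_zero]))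
    obtain ⟨w, hw⟩ := exists_prime_orderOf_dvd_card' (G := W) 2 (hk ▸ dvd_pow_self 2 hk0)
    exact ⟨w, w.2, by rw [Subgroup.orderOf_coe, hw]⟩
  set B := BlockCol.pBlock M G with hBdef
  set X := Finset.univ.filter fun x : G => x * t⁻¹ ∈ W ∧ orderOf x = 2 with hXdef
  have hmemX : ∀ x, x ∈ X ↔ x * t⁻¹ ∈ W ∧ orderOf x = 2 := fun x => by simp [hXdef]
  choose v hv using fun (χ : Cfsg.IrrCharacter G) (x : {x : G // orderOf x = 2}) =>
    (Cfsg.Agent.S0944.result χ x.1 x.2).imp fun n h => h.1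
  let f : Cfsg.IrrCharacter G → G → ℝ := fun χ x => if h : orderOf x = 2 then (v χ ⟨x, h⟩ : ℝ) else 0
  have hf : ∀ (χ : Cfsg.IrrCharacter G) (x : G), orderOf x = 2 → (χ : G → ℂ) x = (f χ x : ℂ) := fun χ x hx => by
    simp only [f, dif_pos hx]; rw [hv χ ⟨x, hx⟩]; push_cast; rfl
  -- the Gram matrix
  choose n hn hnsum using fun (x : {x // x ∈ X}) => card_le_norm hM ((hmemX x).1 x.2).2
    (W ⊔ Subgroup.zpowers t) (T.2.to_le (sup_le hwc.1 (Subgroup.zpowers_le.2 htT)))
    (by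
      obtain ⟨hxt, hx⟩ := (hmemX x).1 x.2
      have hxT : (x : G) ∈ (T : Subgroup G) := by
        have := mul_mem (hwc.1 hxt) htT
        rwa [inv_mul_cancel_right] at this
      refine sup_le (fun y hy => Subgroup.mem_centralizer_singleton_iff.2 (hWc y hy x hxT).symm)
        (Subgroup.zpowers_le.2 (Subgroup.mem_centralizer_singleton_iff.2 ?_))
      calc t * (x : G) = t * ((x * t⁻¹) * t) := by rw [inv_mul_cancel_right]
        _ = (x * t⁻¹) * t * t := by rw [← mul_assoc, hWc _ hxt t htT]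
        _ = x * t := by rw [inv_mul_cancel_right])
  have hgram : ∀ x y : {x // x ∈ X}, ∑ χ ∈ B, f χ x * f χ y =
      if IsConj (x : G) y then (n x : ℝ) else 0 := by
    intro x y
    obtain ⟨-, hx⟩ := (hmemX x).1 x.2
    obtain ⟨-, hy⟩ := (hmemX y).1 y.2
    have hC : ((∑ χ ∈ B, f χ x * f χ y : ℝ) : ℂ) =
        ∑ χ ∈ B, (χ : G → ℂ) x * conj ((χ : G → ℂ) y) := by
      rw [Complex.ofReal_sum]
      exact Finset.sum_congr rfl fun χ _ => by
        rw [hf χ x hx, hf χ y hy, Complex.conj_ofReal, Complex.ofReal_mul]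
    split_ifs with hxy
    · have h : ((∑ χ ∈ B, f χ x * f χ y : ℝ) : ℂ) = ((n x : ℝ) : ℂ) := by
        rw [hC, Complex.ofReal_natCast, ← hnsum x]
        exact Finset.sum_congr rfl fun χ _ => by
          rw [CfsgLib.BlockReg.char_conj_invariant χ _ _ hxy]
      exact_mod_cast h
    · have h : ((∑ χ ∈ B, f χ x * f χ y : ℝ) : ℂ) = ((0 : ℝ) : ℂ) := by
        rw [hC, Complex.ofReal_zero]
        have h0 := HomocyclicBlock.sum_block_eq_zero hM (x := (x : G)) ⟨1, by rw [pow_one, hx]⟩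
          (fun χ => conj ((χ : G → ℂ) y)) (fun c hc hcreg => by
            rw [Finset.sum_congr rfl fun χ _ => mul_comm _ _, CfsgLib.Char.sum_mul_conj, if_neg]
            intro hconj
            obtain ⟨g, hg⟩ := isConj_iff.1 hconj
            have hc1 : c = 1 := HomocyclicBlock.eq_one_of_orderOf_mul (a := 1) (b := 1) hc
              (by rw [pow_one, hx]) hcreg (by rw [pow_one, ← hy, ← hg, orderOf_conj])
            rw [hc1, mul_one] at hconj
            exact hxy hconj)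
        rw [← h0]
        exact Finset.sum_congr rfl fun χ _ => mul_comm _ _
      exact_mod_cast h
  let mult : {x // x ∈ X} → ℕ := fun x => (Finset.univ.filter fun y : {y // y ∈ X} => IsConj (x : G) y).card
  have hmult : ∀ x, 1 ≤ mult x := fun x =>
    Finset.card_pos.2 ⟨x, Finset.mem_filter.2 ⟨Finset.mem_univ _, IsConj.refl _⟩⟩
  have hnpos : ∀ x, (0 : ℝ) < n x := fun x =>
    Nat.cast_pos.2 (lt_of_lt_of_le Nat.card_pos (hn x))
  let e : Cfsg.IrrCharacter G → ℝ := fun χ => ∑ x : {x // x ∈ X}, f χ x / (mult x * n x)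
  set c : ℝ := ∑ x : {x // x ∈ X}, 1 / ((mult x : ℝ) * n x) with hc
  have hcol : ∀ y : {x // x ∈ X}, ∑ χ ∈ B, f χ y * e χ = 1 := by
    intro y
    simp only [e, Finset.mul_sum]
    rw [Finset.sum_comm]
    have hterm : ∀ x : {x // x ∈ X}, ∑ χ ∈ B, f χ y * (f χ x / (mult x * n x)) =
        if IsConj (y : G) x then 1 / (mult y : ℝ) else 0 := by
      intro x
      simp only [mul_div_assoc', ← Finset.sum_div, hgram]
      split_ifs with h
      · have hm : mult x = mult y := by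
          simp only [mult]
          congr 1
          ext z
          simp only [Finset.mem_filter, Finset.mem_univ, true_and]
          exact ⟨fun hz => h.trans hz, fun hz => h.symm.trans hz⟩
        have hnn : (n y : ℝ) = n x := by
          have h1 := hgram y x
          have h2 := hgram x y
          rw [if_pos h] at h1
          rw [if_pos h.symm] at h2
          rw [← h1, ← h2]
          exact Finset.sum_congr rfl fun χ _ => mul_comm _ _
        rw [hm, hnn]
        have := (hnpos x).ne'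
        field_simp
      · rw [zero_div]
    simp only [hterm, ← Finset.sum_filter, Finset.sum_const, nsmul_eq_mul]
    have : (mult y : ℝ) ≠ 0 := Nat.cast_ne_zero.2 (by have := hmult y; omega)
    field_simp
    rfl
  have hee : ∑ χ ∈ B, e χ * e χ = c := by
    calc ∑ χ ∈ B, e χ * e χ = ∑ x : {x // x ∈ X}, ∑ χ ∈ B, f χ x * e χ / (mult x * n x) := by
          rw [Finset.sum_comm]
          refine Finset.sum_congr rfl fun χ _ => ?_
          rw [show e χ * e χ = (∑ x : {x // x ∈ X}, f χ x / (mult x * n x)) * e χ from rfl,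
            Finset.sum_mul]
          exact Finset.sum_congr rfl fun x _ => by ring
      _ = c := by
          simp only [← Finset.sum_div, hcol, hc]
  -- the operator given by `w`
  have hsec : ∀ (x : {x // x ∈ X}) (g : G), ∃ i : {x // x ∈ X}, ∀ χ ∈ B,
      (χ : G → ℂ) (g * w * g⁻¹ * x) = (χ : G → ℂ) (i : G) := by
    intro x g
    obtain ⟨i, o, y, hit, hi, hy, he⟩ := exists_section T hwc hWc htT htW ((hmemX x).1 x.2).1
      ((hmemX x).1 x.2).2 hcos hwW hw2 g
    refine ⟨⟨i, (hmemX i).2 ⟨hit, hi⟩⟩, fun χ hχ => ?_⟩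
    have h := principalBlockCoreConstant G M hM i y hi hy χ (BlockCol.mem_pBlock.1 hχ)
    rw [← h, ← he]
    exact CfsgLib.BlockReg.char_conj_invariant χ _ _ (isConj_iff.2 ⟨o * (x : G), by group⟩)
  choose pick hpick using hsec
  set a : Cfsg.IrrCharacter G → ℝ := fun χ => f χ w / Cfsg.charDegree (χ : G → ℂ) with ha
  have hdeg : ∀ χ : Cfsg.IrrCharacter G, (0 : ℝ) < Cfsg.charDegree (χ : G → ℂ) := fun χ =>
    Nat.cast_pos.2 (CfsgLib.Blk83.deg_pos χ)
  have hop : ∀ χ ∈ B, ∀ x : {x // x ∈ X},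
      (Fintype.card G : ℝ) * (a χ * f χ x) = ∑ g : G, f χ (pick x g) := by
    intro χ hχ x
    have h := CfsgLib.Blk83.sum_conj_mul χ w (x : G)
    rw [Finset.sum_congr rfl fun g _ => hpick x g χ hχ,
      Finset.sum_congr rfl fun g _ => hf χ _ ((hmemX _).1 (pick x g).2).2, hf χ w hw2,
      hf χ x ((hmemX x).1 x.2).2, CfsgLib.Blk83.one_eq] at h
    have h' : (∑ g : G, f χ (pick x g)) * (Cfsg.charDegree (χ : G → ℂ) : ℝ) =
        (Fintype.card G : ℝ) * (f χ w * f χ x) := by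
      apply Complex.ofReal_injective
      push_cast
      exact h
    have := (hdeg χ).ne'
    simp only [ha]
    field_simp
    linear_combination -h'
  have hae : ∑ χ ∈ B, a χ * (e χ * e χ) = c := by
    have hG : (Fintype.card G : ℝ) ≠ 0 := Nat.cast_ne_zero.2 Fintype.card_ne_zero
    refine mul_left_cancel₀ hG ?_
    calc (Fintype.card G : ℝ) * ∑ χ ∈ B, a χ * (e χ * e χ)
        = ∑ x : {x // x ∈ X}, ∑ χ ∈ B,
            (Fintype.card G : ℝ) * (a χ * f χ x) * e χ / (mult x * n x) := by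
          rw [Finset.mul_sum, Finset.sum_comm]
          refine Finset.sum_congr rfl fun χ _ => ?_
          rw [show e χ * e χ = (∑ x : {x // x ∈ X}, f χ x / (mult x * n x)) * e χ from rfl,
            Finset.sum_mul, Finset.mul_sum, Finset.mul_sum]
          exact Finset.sum_congr rfl fun x _ => by ring
      _ = ∑ x : {x // x ∈ X}, (Fintype.card G : ℝ) / (mult x * n x) := by
          refine Finset.sum_congr rfl fun x _ => ?_
          rw [← Finset.sum_div]
          congr 1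
          rw [Finset.sum_congr rfl fun χ hχ => by rw [hop χ hχ x, Finset.sum_mul],
            Finset.sum_comm]
          simp only [hcol, Finset.sum_const, Finset.card_univ, nsmul_eq_mul, mul_one]
      _ = (Fintype.card G : ℝ) * c := by
          rw [hc, Finset.mul_sum]
          exact Finset.sum_congr rfl fun x _ => by ring
  set p₀ : Cfsg.IrrCharacter G := CfsgLib.Char.principalIrr with hp₀
  have hp₀B : p₀ ∈ B := BlockCol.mem_pBlock.2 CfsgLib.Blocks.principalIrr_mem_principalBlock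
  have habs : ∀ χ : Cfsg.IrrCharacter G, |a χ| ≤ 1 := by
    intro χ
    rw [ha, abs_div, Nat.abs_cast, div_le_one (hdeg χ)]
    have h : ‖(χ : G → ℂ) w‖ ≤ (Cfsg.charDegree (χ : G → ℂ) : ℝ) :=
      CfsgLib.Char.IsCharacter.norm_apply_le (CfsgLib.Char.IsIrrCharacter.isCharacter χ.2) w
    rw [hf χ w hw2, Complex.norm_real, Real.norm_eq_abs] at h
    exact h
  have hzero : ∀ χ ∈ B, (1 - a χ) * (e χ * e χ) = 0 := by
    have hs : ∑ χ ∈ B, (1 - a χ) * (e χ * e χ) = 0 := by
      simp only [sub_mul, one_mul, Finset.sum_sub_distrib, hee, hae, sub_self]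
    exact (Finset.sum_eq_zero_iff_of_nonneg fun χ _ => mul_nonneg
      (by have := le_of_abs_le (habs χ); linarith) (mul_self_nonneg _)).1 hs
  have he0 : ∀ χ ∈ B, χ ≠ p₀ → e χ = 0 := by
    intro χ hχ hne
    rcases mul_eq_zero.1 (hzero χ hχ) with h | h
    · exfalso
      have haw : (χ : G → ℂ) w = (χ : G → ℂ) 1 := by
        rw [hf χ w hw2, CfsgLib.Blk83.one_eq]
        have : f χ w = (Cfsg.charDegree (χ : G → ℂ) : ℝ) := by
          have h1 : a χ = 1 := by linarith
          simp only [ha] at h1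
          field_simp [(hdeg χ).ne'] at h1
          linarith
        rw [this]; push_cast; rfl
      exact hne (eq_principal_of_simple χ (ne_one_of_invol hw2) haw)
    · exact mul_self_eq_zero.1 h
  have hep : e p₀ = c := by
    simp only [e, hc]
    refine Finset.sum_congr rfl fun x _ => ?_
    have h := hf p₀ x ((hmemX x).1 x.2).2
    rw [hp₀, CfsgLib.Char.principalIrr_apply] at h
    rw [show f p₀ x = 1 from (by exact_mod_cast h.symm)]
  have hc2 : c * c = c := by
    rw [← hee] at *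
    conv_rhs => rw [Finset.sum_eq_single p₀ (fun χ hχ hne => by rw [he0 χ hχ hne, zero_mul])
      (fun h => absurd hp₀B h)]
    rw [hep, hee]
  have hXne : (⟨t, (hmemX t).2 ⟨by rw [mul_inv_cancel]; exact one_mem W, ht⟩⟩ : {x // x ∈ X}) ∈
      (Finset.univ : Finset {x // x ∈ X}) := Finset.mem_univ _
  have hcpos : 0 < c := Finset.sum_pos
    (fun x _ => div_pos one_pos (mul_pos (Nat.cast_pos.2 (hmult x)) (hnpos x))) ⟨_, hXne⟩
  have hc1 : c = 1 := mul_left_cancel₀ hcpos.ne' (hc2.trans (mul_one c).symm)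
  -- but it is at most one half
  have hcard : 2 * Nat.card W ≤ Nat.card ↥(W ⊔ Subgroup.zpowers t) := by
    obtain ⟨k, hk⟩ := Subgroup.card_dvd_of_le (le_sup_left : W ≤ W ⊔ Subgroup.zpowers t)
    have hk0 : k ≠ 0 := fun h => by rw [h, mul_zero] at hk; exact Nat.card_pos.ne' hk
    have hk1 : k ≠ 1 := fun h => by
      rw [h, mul_one] at hk
      have := Subgroup.eq_of_le_of_card_ge (le_sup_left : W ≤ W ⊔ Subgroup.zpowers t) hk.le
      exact htW (this ▸ Subgroup.mem_sup_right (Subgroup.mem_zpowers t))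
    rw [hk, mul_comm]
    exact Nat.mul_le_mul_left _ (by omega)
  have hXW : Fintype.card {x // x ∈ X} ≤ Nat.card W := by
    rw [← Nat.card_eq_fintype_card]
    exact Nat.card_le_card_of_injective (fun x => (⟨(x : G) * t⁻¹, ((hmemX x).1 x.2).1⟩ : W))
      fun x y h => Subtype.ext (mul_right_cancel (congrArg Subtype.val h))
  have hbound : c ≤ (Fintype.card {x // x ∈ X} : ℝ) * (1 / (2 * Nat.card W)) := by
    refine (Finset.sum_le_card_nsmul _ _ (1 / (2 * (Nat.card W : ℝ))) fun x _ => ?_).trans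
      (le_of_eq (by rw [Finset.card_univ, nsmul_eq_mul]))
    refine div_le_div_of_nonneg_left zero_le_one (mul_pos two_pos (Nat.cast_pos.2 Nat.card_pos)) ?_
    have h1 : (2 * (Nat.card W : ℝ)) ≤ n x := by exact_mod_cast hcard.trans (hn x)
    have h2 : (1 : ℝ) ≤ mult x := by exact_mod_cast hmult x
    nlinarith [hnpos x]
  have hW0 : (0 : ℝ) < Nat.card W := Nat.cast_pos.2 Nat.card_pos
  have h3 : (Fintype.card {x // x ∈ X} : ℝ) ≤ Nat.card W := by exact_mod_cast hXW
  rw [hc1, mul_one_div, le_div_iff₀ (by positivity), one_mul] at hbound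
  linarith

end CfsgLib.Invol.CosetCriterion
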