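import Cfsg.Agent.Lib.Invol.Sunflower
import Cfsg.Agent.Lib.Invol.BlockColumns
import Cfsg.Agent.Lib.BlockRank.Subsection
import Cfsg.Agent.Lib.Blk83.PairCount
import Cfsg.Agent.Lib.BlockReg.Integral
import Cfsg.Agent.Lib.Blocks.Homocyclic
import Cfsg.Agent.Lib.Char.Linear
import Cfsg.Agent.Lib.Char.Virtual
import Cfsg.Agent.S0944
import Mathlib.GroupTheory.Transfer
import Mathlib.GroupTheory.FiniteAbelian.Duality
import Mathlib.Analysis.Complex.Polynomial.Basic
import Mathlib.RingTheory.RootsOfUnity.AlgebraicallyClosed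

/-!
# The principal 2-block for a Sylow 2-subgroup `Z/2^m × Z/2^m`, `m ≥ 2`, with fusion

It has two nontrivial linear characters trivial on the Sylow subgroup.
-/

set_option autoImplicit false

open scoped ComplexConjugate

namespace CfsgLib.Invol.HomocyclicBlock

universe u

variable {G : Type u} [Group G] [Finite G] {M : Ideal Cfsg.AlgInt}

/-- A combination of characters vanishing on a section vanishes on it after restriction to the
principal block. -/
theorem sum_block_eq_zero {p : ℕ} [Fact p.Prime] (hM : Cfsg.IsPModular p M) {x : G}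
    (hx : ∃ k : ℕ, orderOf x = p ^ k) (f : Cfsg.IrrCharacter G → ℂ)
    (h0 : ∀ c : G, Commute x c → ¬ p ∣ orderOf c →
      ∑ χ : Cfsg.IrrCharacter G, f χ * (χ : G → ℂ) (x * c) = 0) :
    ∑ χ ∈ BlockCol.pBlock M G, f χ * (χ : G → ℂ) x = 0 := by
  classical
  cases nonempty_fintype G
  haveI := hM.2.1
  set C := Subgroup.centralizer ({x} : Set G) with hC
  set b := Cfsg.principalBlock M C with hb
  haveI : Fintype b := Fintype.ofFinite _
  have h1 : ¬ p ∣ orderOf (1 : C) := by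
    rw [orderOf_one]; exact (Fact.out : p.Prime).not_dvd_one
  have hterm : ∀ χ : Cfsg.IrrCharacter G,
      Cfsg.blockPart b (fun c : C => (χ : G → ℂ) (x * (c : G))) 1 =
        if χ ∈ BlockCol.pBlock M G then (χ : G → ℂ) x else 0 := fun χ => by
    rw [BlockCol.blockPart_translate hM hx χ 1 h1, OneMemClass.coe_one, mul_one]
  calc ∑ χ ∈ BlockCol.pBlock M G, f χ * (χ : G → ℂ) x
      = ∑ χ : Cfsg.IrrCharacter G,
          f χ * Cfsg.blockPart b (fun c : C => (χ : G → ℂ) (x * (c : G))) 1 := by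
        simp only [hterm, mul_ite, mul_zero, Finset.sum_ite_mem, Finset.univ_inter]
    _ = ∑ c : C, CfsgLib.BlockRank.projKer b 1 c *
          ∑ χ : Cfsg.IrrCharacter G, f χ * (χ : G → ℂ) (x * (c : G)) := by
        simp only [CfsgLib.BlockRank.blockPart_eq_projKer, Finset.mul_sum]
        rw [Finset.sum_comm]
        exact Finset.sum_congr rfl fun c _ => Finset.sum_congr rfl fun χ _ => by ring
    _ = 0 := by
        refine Finset.sum_eq_zero fun c _ => ?_
        by_cases hc : p ∣ orderOf c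
        · rw [CfsgLib.BlockRank.projKer_eq_zero hM CfsgLib.Blocks.isPBlock_principalBlock
            (by simpa [Cfsg.IsPRegular] using h1) (by simpa [Cfsg.IsPRegular] using hc), zero_mul]
        · rw [h0 c (Subgroup.mem_centralizer_singleton_iff.1 c.2).symm
            (by rwa [Subgroup.orderOf_coe]), mul_zero]

omit [Finite G] in
theorem eq_one_of_orderOf_mul {z c : G} {a b : ℕ} (hzc : Commute z c) (hz : orderOf z = 2 ^ a)
    (hc : ¬ 2 ∣ orderOf c) (h : orderOf (z * c) = 2 ^ b) : c = 1 := by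
  have hcop : (orderOf z).Coprime (orderOf c) := by
    rw [hz]; exact ((Nat.prime_two.coprime_iff_not_dvd).2 hc).pow_left a
  rw [hzc.orderOf_mul_eq_mul_orderOf_of_coprime hcop] at h
  have hd : orderOf c ∣ 2 ^ b := h ▸ dvd_mul_left _ _
  exact orderOf_eq_one_iff.1 (Nat.dvd_one.1
    ((((Nat.prime_two.coprime_iff_not_dvd).2 hc).pow_left b) ▸ Nat.dvd_gcd hd dvd_rfl))

omit [Finite G] in
theorem left_mem_zpowers_mul {z c : G} (hzc : Commute z c)
    (hcop : (orderOf z).Coprime (orderOf c)) : z ∈ Subgroup.zpowers (z * c) := by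
  obtain ⟨u, v, huv⟩ := Nat.Coprime.isCoprime hcop
  refine Subgroup.mem_zpowers_iff.2 ⟨v * (orderOf c : ℤ), ?_⟩
  have hcv : c ^ (v * (orderOf c : ℤ)) = 1 := by
    rw [mul_comm, zpow_mul, zpow_natCast, pow_orderOf_eq_one, one_zpow]
  have hzu : z ^ (u * (orderOf z : ℤ)) = 1 := by
    rw [mul_comm, zpow_mul, zpow_natCast, pow_orderOf_eq_one, one_zpow]
  rw [hzc.mul_zpow, hcv, mul_one]
  calc z ^ (v * (orderOf c : ℤ)) = z ^ (u * (orderOf z : ℤ)) * z ^ (v * (orderOf c : ℤ)) := by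
        rw [hzu, one_mul]
    _ = z := by rw [← zpow_add, huv, zpow_one]

theorem conj_apply_hom {H : Type*} [Group H] [Finite H] (l : H →* ℂˣ) (z : H) :
    conj ((l z : ℂˣ) : ℂ) = ((l z⁻¹ : ℂˣ) : ℂ) := by
  have hpow : ((l z : ℂˣ) : ℂ) ^ orderOf z = 1 := by
    rw [← Units.val_pow_eq_pow_val, ← map_pow, pow_orderOf_eq_one, map_one, Units.val_one]
  have hn : ‖((l z : ℂˣ) : ℂ)‖ = 1 :=
    Complex.norm_eq_one_of_pow_eq_one hpow (orderOf_pos z).ne'
  rw [map_inv, Units.val_inv_eq_inv_val, Complex.inv_eq_conj hn]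

theorem sum_hom_apply {H : Type*} [Group H] [Fintype H] (l : H →* ℂˣ) [Decidable (l = 1)] :
    ∑ z : H, ((l z : ℂˣ) : ℂ) = if l = 1 then (Fintype.card H : ℂ) else 0 := by
  split_ifs with h
  · simp [h]
  · obtain ⟨a, ha⟩ : ∃ a, l a ≠ 1 := by
      by_contra hc
      push Not at hc
      exact h (MonoidHom.ext hc)
    have hs : ((l a : ℂˣ) : ℂ) * ∑ z : H, ((l z : ℂˣ) : ℂ) = ∑ z : H, ((l z : ℂˣ) : ℂ) := by
      rw [Finset.mul_sum]
      exact Fintype.sum_equiv (Equiv.mulLeft a) _ _ fun z => by simp [map_mul]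
    have h1 : ((l a : ℂˣ) : ℂ) - 1 ≠ 0 := sub_ne_zero.2 fun h => ha (Units.ext h)
    exact (mul_eq_zero.1 (by rw [sub_mul, one_mul, hs, sub_self] :
      (((l a : ℂˣ) : ℂ) - 1) * ∑ z : H, ((l z : ℂˣ) : ℂ) = 0)).resolve_left h1

theorem sum_dual_apply {H : Type*} [CommGroup H] [Finite H] [Fintype (H →* ℂˣ)] (z : H)
    [Decidable (z = 1)] :
    ∑ l : H →* ℂˣ, ((l z : ℂˣ) : ℂ) = if z = 1 then (Fintype.card (H →* ℂˣ) : ℂ) else 0 := by
  split_ifs with h
  · simp [h]
  · obtain ⟨a, ha⟩ := CommGroup.exists_apply_ne_one_of_hasEnoughRootsOfUnity H ℂ h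
    have hs : ((a z : ℂˣ) : ℂ) * ∑ l : H →* ℂˣ, ((l z : ℂˣ) : ℂ) =
        ∑ l : H →* ℂˣ, ((l z : ℂˣ) : ℂ) := by
      rw [Finset.mul_sum]
      exact Fintype.sum_equiv (Equiv.mulLeft a) _ _ fun l => by simp
    have h1 : ((a z : ℂˣ) : ℂ) - 1 ≠ 0 := sub_ne_zero.2 fun h => ha (Units.ext h)
    exact (mul_eq_zero.1 (by rw [sub_mul, one_mul, hs, sub_self] :
      (((a z : ℂˣ) : ℂ) - 1) * ∑ l : H →* ℂˣ, ((l z : ℂˣ) : ℂ) = 0)).resolve_left h1

/-- The degree bookkeeping. -/
theorem degrees_eq {q A B X : ℤ} (hq : 16 ≤ q) (hA : q ∣ A + 1) (hB : q ∣ B + 1) (hX : q ∣ X - 3)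
    (hsum : A + B + X = 1) (heq : B * X + A * X + 9 * (A * B) = A * B * X) : A = -1 := by
  by_cases hX3 : X = 3
  · subst hX3
    have hB' : B = -2 - A := by linarith
    subst hB'
    have h : (A + 1) * (A + 1) = 0 := by nlinarith
    have := mul_self_eq_zero.1 h
    linarith
  by_contra hA1
  obtain ⟨a, ha⟩ := hA
  obtain ⟨b, hb⟩ := hB
  obtain ⟨c, hc⟩ := hX
  have hcc : c ≠ 0 := fun h => hX3 (by rw [h, mul_zero] at hc; linarith)
  have haa : a ≠ 0 := fun h => hA1 (by rw [h, mul_zero] at ha; linarith)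
  have bound : ∀ (k : ℤ) (Y r : ℤ), k ≠ 0 → Y + r = q * k → (q - |r| : ℤ) ≤ |Y| := by
    intro k Y r hk h
    have h1 : q ≤ |q * k| := by
      rw [abs_mul, abs_of_nonneg (by linarith : (0 : ℤ) ≤ q)]
      nlinarith [Int.one_le_abs hk]
    have h2 : |Y + r| ≤ |Y| + |r| := abs_add_le Y r
    rw [h] at h2
    linarith
  have hAabs : (15 : ℤ) ≤ |A| := by
    have := bound a A 1 haa ha; norm_num at this; linarith
  have hXabs : (13 : ℤ) ≤ |X| := by
    have := bound c X (-3) hcc (by linarith); norm_num at this; linarith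
  have hAq : (15 : ℚ) ≤ |(A : ℚ)| := by exact_mod_cast hAabs
  have hXq : (13 : ℚ) ≤ |(X : ℚ)| := by exact_mod_cast hXabs
  have hA0 : (A : ℚ) ≠ 0 := fun h => by rw [h] at hAq; norm_num at hAq
  have hX0 : (X : ℚ) ≠ 0 := fun h => by rw [h] at hXq; norm_num at hXq
  have hBq : B = -1 ∨ (15 : ℚ) ≤ |(B : ℚ)| := by
    by_cases hbb : b = 0
    · left; rw [hbb, mul_zero] at hb; linarith
    · right
      have := bound b B 1 hbb hb; norm_num at this
      have : (15 : ℤ) ≤ |B| := by linarith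
      exact_mod_cast this
  have hB0 : (B : ℚ) ≠ 0 := by
    rcases hBq with h | h
    · rw [h]; norm_num
    · intro h0; rw [h0] at h; norm_num at h
  have he : (1 : ℚ) / A + 1 / B + 9 / X = 1 := by
    field_simp
    exact_mod_cast (show (B + A) * X + A * B * 9 = A * B * X by linear_combination heq)
  have e1 : |(1 : ℚ) / A| ≤ 1 / 15 := by
    rw [abs_div, abs_one]; exact div_le_div_of_nonneg_left zero_le_one (by norm_num) hAq
  have e3 : |(9 : ℚ) / X| ≤ 9 / 13 := by
    rw [abs_div, abs_of_nonneg (by norm_num : (0 : ℚ) ≤ 9)]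
    exact div_le_div_of_nonneg_left (by norm_num) (by norm_num) hXq
  have f1 := le_abs_self ((1 : ℚ) / A)
  have f3 := le_abs_self ((9 : ℚ) / X)
  rcases hBq with h | h
  · rw [h] at he
    norm_num at he
    norm_num at e1 f1
    linarith
  · have e2 : |(1 : ℚ) / B| ≤ 1 / 15 := by
      rw [abs_div, abs_one]; exact div_le_div_of_nonneg_left zero_le_one (by norm_num) h
    have f2 := le_abs_self ((1 : ℚ) / B)
    linarith

/-- A nontrivial linear character trivial on the Sylow subgroup. -/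
theorem exists_linear (P : Sylow 2 G) (k : ℕ) (hk : 1 ≤ k)
    (e : (P : Subgroup G) ≃* Multiplicative (ZMod (2 ^ (k + 1)) × ZMod (2 ^ (k + 1))))
    (h3 : (Subgroup.centralizer ((P : Subgroup G) : Set G)).relIndex
      (Subgroup.normalizer ((P : Subgroup G) : Set G)) = 3) :
    ∃ f : G →* ℂˣ, f ≠ 1 ∧ ∀ z ∈ (P : Subgroup G), f z = 1 := by
  classical
  have : Fact (Nat.Prime 2) := ⟨Nat.prime_two⟩
  obtain ⟨M, hM⟩ := CfsgLib.BlockReg.exists_isPModular Nat.prime_two
  haveI := hM.2.1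
  cases nonempty_fintype G
  obtain ⟨-, hfacts⟩ := CfsgLib.Blocks.Homocyclic.automizer_facts P k e
  obtain ⟨hCz, hinvol⟩ := hfacts (by rw [h3]; norm_num)
  set C := Subgroup.centralizer ((P : Subgroup G) : Set G) with hC
  set N := Subgroup.normalizer ((P : Subgroup G) : Set G) with hN
  letI : CommGroup ↥(P : Subgroup G) :=
    { (inferInstance : Group ↥(P : Subgroup G)) with
      mul_comm := fun a b => e.injective (by rw [map_mul, map_mul, mul_comm]) }
  set q := Nat.card (P : Subgroup G) with hqdef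
  have hqval : q = 2 ^ (k + 1) * 2 ^ (k + 1) := by
    rw [hqdef, Nat.card_congr e.toEquiv, Nat.card_congr Multiplicative.toAdd, Nat.card_prod,
      Nat.card_zmod]
  have hq16 : 16 ≤ q := by
    rw [hqval]
    have : 2 ^ 2 ≤ 2 ^ (k + 1) := Nat.pow_le_pow_right two_pos (by omega)
    nlinarith
  have hqC : (q : ℂ) ≠ 0 := by exact_mod_cast Nat.card_pos.ne'
  have hPC : (P : Subgroup G) ≤ C := fun x hx => Subgroup.mem_centralizer_iff.2 fun y hy =>
    congrArg Subtype.val (mul_comm (⟨y, hy⟩ : ↥(P : Subgroup G)) ⟨x, hx⟩)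
  -- the automorphism of order three
  obtain ⟨n₀, hn₀, hn₀C⟩ : ∃ n ∈ N, n ∉ C := by
    by_contra h
    push Not at h
    rw [Subgroup.relIndex_eq_one.2 fun x hx => h x hx] at h3
    norm_num at h3
  have hCnorm : ∀ n ∈ N, ∀ c ∈ C, n * c * n⁻¹ ∈ C := by
    intro n hn c hc
    refine Subgroup.mem_centralizer_iff.2 fun x hx => ?_
    have h1 : n⁻¹ * x * n ∈ (P : Subgroup G) := (Subgroup.mem_normalizer_iff''.1 hn x).1 hx
    have h2 := Subgroup.mem_centralizer_iff.1 hc _ h1
    calc x * (n * c * n⁻¹) = n * (n⁻¹ * x * n * c) * n⁻¹ := by group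
      _ = n * (c * (n⁻¹ * x * n)) * n⁻¹ := by rw [h2]
      _ = n * c * n⁻¹ * x := by group
  haveI : (C.subgroupOf N).Normal := ⟨fun c hc n =>
    Subgroup.mem_subgroupOf.2 (hCnorm n n.2 c (Subgroup.mem_subgroupOf.1 hc))⟩
  have hcosets : ∀ n ∈ N, ∃ i : Fin 3, (n₀ ^ (i : ℕ))⁻¹ * n ∈ C := by
    intro n hn
    have hcard : Nat.card (N ⧸ C.subgroupOf N) = 3 := h3
    set g := QuotientGroup.mk' (C.subgroupOf N) ⟨n₀, hn₀⟩ with hg
    have hgord : orderOf g = 3 := by
      rcases (Nat.dvd_prime Nat.prime_three).1 (hcard ▸ orderOf_dvd_natCard g) with h | h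
      · exact absurd (Subgroup.mem_subgroupOf.1 ((QuotientGroup.eq_one_iff _).1
          (orderOf_eq_one_iff.1 h))) hn₀C
      · exact h
    have htop : Subgroup.zpowers g = ⊤ :=
      Subgroup.eq_top_of_card_eq _ (by rw [Nat.card_zpowers, hgord, hcard])
    obtain ⟨i, hi, hie⟩ := Finset.mem_image.1 ((mem_zpowers_iff_mem_range_orderOf (x := g)).1
      (show QuotientGroup.mk' (C.subgroupOf N) ⟨n, hn⟩ ∈ Subgroup.zpowers g by
        rw [htop]; exact Subgroup.mem_top _))
    rw [Finset.mem_range, hgord] at hi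
    refine ⟨⟨i, hi⟩, ?_⟩
    rw [hg, ← map_pow] at hie
    exact Subgroup.mem_subgroupOf.1 (QuotientGroup.eq.1 hie)
  have hpowN : ∀ i : ℕ, n₀ ^ i ∈ N := fun i => pow_mem hn₀ i
  have hmemP : ∀ (i : ℕ) (z : ↥(P : Subgroup G)), n₀ ^ i * z * (n₀ ^ i)⁻¹ ∈ (P : Subgroup G) :=
    fun i z => (Subgroup.mem_normalizer_iff.1 (hpowN i) _).1 z.2
  let R : Fin 3 → ↥(P : Subgroup G) →* ↥(P : Subgroup G) := fun i =>
    { toFun := fun z => ⟨n₀ ^ (i : ℕ) * z * (n₀ ^ (i : ℕ))⁻¹, hmemP i z⟩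
      map_one' := Subtype.ext (by simp)
      map_mul' := fun a b => Subtype.ext (by simp only [Subgroup.coe_mul]; group) }
  have hRconj : ∀ (i : Fin 3) (z : ↥(P : Subgroup G)), IsConj (z : G) (R i z : G) :=
    fun i z => isConj_iff.2 ⟨_, rfl⟩
  have hR0 : ∀ z, R 0 z = z := fun z => Subtype.ext (by simp [R])
  have hn3 : n₀ ^ 3 ∈ C := by
    have h := Subgroup.pow_index_mem (C.subgroupOf N) ⟨n₀, hn₀⟩
    rw [show (C.subgroupOf N).index = 3 from h3] at h
    simpa [Subgroup.mem_subgroupOf] using h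
  have hfree : ∀ (z : ↥(P : Subgroup G)), z ≠ 1 → ∀ i j : Fin 3, R i z = R j z → i = j := by
    intro z hz1 i j hij
    by_contra hne
    wlog hlt : (i : ℕ) < j generalizing i j
    · exact this j i hij.symm (Ne.symm hne) (by
        rcases lt_trichotomy (i : ℕ) j with h | h | h
        · exact absurd h hlt
        · exact absurd (Fin.ext h) hne
        · exact h)
    obtain ⟨d, hd⟩ := Nat.exists_eq_add_of_lt hlt
    have hz' : n₀ ^ (d + 1) * (z : G) * (n₀ ^ (d + 1))⁻¹ = z := by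
      have h : n₀ ^ (i : ℕ) * (z : G) * (n₀ ^ (i : ℕ))⁻¹ = n₀ ^ (j : ℕ) * z * (n₀ ^ (j : ℕ))⁻¹ :=
        congrArg Subtype.val hij
      rw [hd, add_assoc, pow_add] at h
      calc n₀ ^ (d + 1) * (z : G) * (n₀ ^ (d + 1))⁻¹
          = (n₀ ^ (i : ℕ))⁻¹ * (n₀ ^ (i : ℕ) * n₀ ^ (d + 1) * z *
              (n₀ ^ (i : ℕ) * n₀ ^ (d + 1))⁻¹) * n₀ ^ (i : ℕ) := by group
        _ = z := by rw [← h]; group
    have hmem : n₀ ^ (d + 1) ∈ C := by
      have hle : n₀ ^ (d + 1) ∈ Subgroup.centralizer ({(z : G)} : Set G) ⊓ N :=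
        ⟨Subgroup.mem_centralizer_singleton_iff.2 (mul_inv_eq_iff_eq_mul.1 hz'), hpowN _⟩
      rwa [hCz z z.2 fun h => hz1 (Subtype.ext h)] at hle
    have hd2 : d + 1 = 1 ∨ d + 1 = 2 := by have := j.isLt; omega
    rcases hd2 with h | h <;> rw [h] at hmem
    · exact hn₀C (by rwa [pow_one] at hmem)
    · refine hn₀C ?_
      have := mul_mem hn3 (inv_mem hmem)
      rwa [pow_succ', mul_inv_cancel_right] at this
  have hfusion : ∀ z w : ↥(P : Subgroup G), IsConj (z : G) (w : G) → ∃ i, w = R i z := by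
    intro z w hzw
    obtain ⟨g, hg⟩ := isConj_iff.1 hzw
    obtain ⟨n, hn, hnz⟩ := P.conj_eq_normalizer_conj_of_mem_centralizer (z : G) g⁻¹ (hPC z.2)
      (by rw [inv_inv, hg]; exact hPC w.2)
    rw [inv_inv, hg] at hnz
    obtain ⟨i, hi⟩ := hcosets n⁻¹ (inv_mem hn)
    refine ⟨i, Subtype.ext ?_⟩
    set c := (n₀ ^ (i : ℕ))⁻¹ * n⁻¹ with hc
    have hcz : c * (z : G) = z * c := (Subgroup.mem_centralizer_iff.1 hi (z : G) z.2).symm
    show (w : G) = n₀ ^ (i : ℕ) * z * (n₀ ^ (i : ℕ))⁻¹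
    rw [hnz, show n⁻¹ * (z : G) * n = n₀ ^ (i : ℕ) * (c * z * c⁻¹) * (n₀ ^ (i : ℕ))⁻¹ by
      rw [hc]; group, hcz, mul_inv_cancel_right]
  -- centralisers have normal complements
  have hcompl : ∀ z : ↥(P : Subgroup G), z ≠ 1 →
      ∃ K : Subgroup (Subgroup.centralizer ({(z : G)} : Set G)), K.Normal ∧
        ¬ 2 ∣ Nat.card K ∧ K.index = q := by
    intro z hz1
    set H := Subgroup.centralizer ({(z : G)} : Set G) with hH
    have hPH : (P : Subgroup G) ≤ H := fun x hx => Subgroup.mem_centralizer_singleton_iff.2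
      (Subgroup.mem_centralizer_iff.1 (hPC z.2) x hx)
    let PH : Sylow 2 H := P.subtype hPH
    have hle : Subgroup.normalizer ((PH : Subgroup H) : Set H) ≤
        Subgroup.centralizer ((PH : Subgroup H) : Set H) := by
      intro n hn
      have hnN : (n : G) ∈ N := Subgroup.mem_normalizer_iff.2 fun x => by
        constructor
        · intro hx
          exact Subgroup.mem_subgroupOf.1 ((Subgroup.mem_normalizer_iff.1 hn ⟨x, hPH hx⟩).1 hx)
        · intro hx
          have hxH : x ∈ H := by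
            have := mul_mem (mul_mem (inv_mem n.2) (hPH hx)) n.2
            rwa [show (n : G)⁻¹ * (n * x * (n : G)⁻¹) * n = x by group] at this
          exact Subgroup.mem_subgroupOf.1 ((Subgroup.mem_normalizer_iff.1 hn ⟨x, hxH⟩).2 hx)
      have hnC : (n : G) ∈ C := by
        rw [← hCz z z.2 fun h => hz1 (Subtype.ext h)]
        exact ⟨n.2, hnN⟩
      exact Subgroup.mem_centralizer_iff.2 fun x hx =>
        Subtype.ext (Subgroup.mem_centralizer_iff.1 hnC _ (Subgroup.mem_subgroupOf.1 hx))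
    have hc := MonoidHom.ker_transferSylow_isComplement' PH hle
    refine ⟨(MonoidHom.transferSylow PH hle).ker, MonoidHom.normal_ker _, ?_, ?_⟩
    · rw [← hc.index_eq_card]
      exact PH.not_dvd_index
    · rw [hc.symm.index_eq_card]
      exact Nat.card_congr (Subgroup.subgroupOfEquivOfLe hPH).toEquiv
  have h2pow : ∀ z : ↥(P : Subgroup G), ∃ a : ℕ, orderOf (z : G) = 2 ^ a := fun z => by
    obtain ⟨a, ha⟩ := IsPGroup.iff_orderOf.1 P.2 z
    exact ⟨a, by rw [Subgroup.orderOf_coe, ha]⟩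
  obtain ⟨j₂, hj₂⟩ := IsPGroup.iff_card.1 P.2
  have hnorm : ∀ z : ↥(P : Subgroup G), z ≠ 1 →
      ∑ χ ∈ BlockCol.pBlock M G, (χ : G → ℂ) z * conj ((χ : G → ℂ) z) = q := by
    intro z hz1
    obtain ⟨K, hKn, hKodd, hKi⟩ := hcompl z hz1
    rw [BlockCol.sum_sq_of_complement hM (h2pow z) K hKodd (k := j₂) (hKi.trans hj₂), hKi]
  -- orthogonality of columns
  have hcol : ∀ z w : ↥(P : Subgroup G), z ≠ 1 →
      ∑ χ ∈ BlockCol.pBlock M G, (χ : G → ℂ) z * conj ((χ : G → ℂ) w) =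
        ∑ i : Fin 3, if w = R i z then (q : ℂ) else 0 := by
    intro z w hz1
    by_cases hzw : ∃ i, w = R i z
    · obtain ⟨i, hi⟩ := hzw
      rw [Finset.sum_eq_single i (fun j _ hj => if_neg fun h => hj (hfree z hz1 j i (h.symm.trans hi)))
        (fun h => absurd (Finset.mem_univ i) h), if_pos hi, ← hnorm z hz1]
      refine Finset.sum_congr rfl fun χ _ => ?_
      rw [hi, ← CfsgLib.BlockReg.char_conj_invariant χ _ _ (hRconj i z)]
    · rw [Finset.sum_eq_zero fun i _ => if_neg fun h => hzw ⟨i, h⟩]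
      obtain ⟨a, ha⟩ := h2pow z
      obtain ⟨b, hb⟩ := h2pow w
      have h := sum_block_eq_zero hM (h2pow z) (fun χ => conj ((χ : G → ℂ) w))
        (fun c hc hcreg => by
          rw [Finset.sum_congr rfl fun χ _ => mul_comm _ _, CfsgLib.Char.sum_mul_conj, if_neg]
          intro hconj
          obtain ⟨g, hg⟩ := isConj_iff.1 hconj
          have hc1 : c = 1 := eq_one_of_orderOf_mul hc ha hcreg
            (by rw [← hb, ← hg, orderOf_conj])
          rw [hc1, mul_one] at hconj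
          exact hzw (hfusion z w hconj))
      rw [← h]
      exact Finset.sum_congr rfl fun χ _ => mul_comm _ _
  -- multiplicities
  haveI : Fintype (↥(P : Subgroup G) →* ℂˣ) := Fintype.ofFinite _
  have hdual : Fintype.card (↥(P : Subgroup G) →* ℂˣ) = q := by
    rw [← Nat.card_eq_fintype_card]
    exact CommGroup.card_monoidHom_of_hasEnoughRootsOfUnity _ ℂ
  have hsumP : ∀ l : (↥(P : Subgroup G) →* ℂˣ), ∑ z : ↥(P : Subgroup G), ((l z : ℂˣ) : ℂ) = if l = 1 then (q : ℂ) else 0 :=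
    fun l => by rw [sum_hom_apply l, hqdef, Nat.card_eq_fintype_card]
  have hsumD : ∀ z : ↥(P : Subgroup G), ∑ l : (↥(P : Subgroup G) →* ℂˣ), ((l z : ℂˣ) : ℂ) = if z = 1 then (q : ℂ) else 0 :=
    fun z => by rw [sum_dual_apply z, hdual]
  have hmult : ∀ (χ : Cfsg.IrrCharacter G) (l : (↥(P : Subgroup G) →* ℂˣ)), ∃ n : ℕ,
      ∑ z : ↥(P : Subgroup G), (χ : G → ℂ) z * ((l z⁻¹ : ℂˣ) : ℂ) = (q : ℂ) * n := by
    intro χ l
    obtain ⟨n, hn⟩ := CfsgLib.Char.IsCharacter.exists_nat_classInner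
      (CfsgLib.Char.IsCharacter.restrict (CfsgLib.Char.IsIrrCharacter.isCharacter χ.2)
        (P : Subgroup G)) (CfsgLib.Char.isIrrCharacter_linear l)
    refine ⟨n, ?_⟩
    rw [← hn, Cfsg.classInner, ← mul_assoc, mul_inv_cancel₀ hqC, one_mul]
    exact Finset.sum_congr rfl fun z _ => by rw [conj_apply_hom]
  choose mu hmu using hmult
  let D : Cfsg.IrrCharacter G → (↥(P : Subgroup G) →* ℂˣ) → ℤ := fun χ l => (mu χ l : ℤ) - mu χ 1
  have hD : ∀ χ l, (q : ℂ) * (D χ l : ℂ) =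
      ∑ z : ↥(P : Subgroup G), (χ : G → ℂ) z * (((l z⁻¹ : ℂˣ) : ℂ) - 1) := by
    intro χ l
    simp only [D, Int.cast_sub, Int.cast_natCast, mul_sub, Finset.sum_sub_distrib, mul_one, ← hmu]
    simp
  have hinv : ∀ (χ : Cfsg.IrrCharacter G), ∀ z : ↥(P : Subgroup G), z ≠ 1 →
      (χ : G → ℂ) z = ∑ l : (↥(P : Subgroup G) →* ℂˣ), (D χ l : ℂ) * ((l z : ℂˣ) : ℂ) := by
    intro χ z hz1
    refine mul_left_cancel₀ hqC ?_
    rw [Finset.mul_sum]
    simp only [← mul_assoc, hD, Finset.sum_mul]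
    rw [Finset.sum_comm]
    have : ∀ y : ↥(P : Subgroup G),
        ∑ l : (↥(P : Subgroup G) →* ℂˣ), (χ : G → ℂ) y * (((l y⁻¹ : ℂˣ) : ℂ) - 1) * ((l z : ℂˣ) : ℂ) =
          (χ : G → ℂ) y * (if y = z then (q : ℂ) else 0) := by
      intro y
      simp only [mul_assoc, ← Finset.mul_sum, sub_mul, one_mul, Finset.sum_sub_distrib,
        ← Units.val_mul, ← map_mul, hsumD, hz1, if_false, sub_zero, inv_mul_eq_one]
    simp only [this, mul_ite, mul_zero, Finset.sum_ite_eq', Finset.mem_univ, if_true]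
    ring
  set p₀ : Cfsg.IrrCharacter G := CfsgLib.Char.principalIrr with hp₀
  have hp₀B : p₀ ∈ BlockCol.pBlock M G :=
    BlockCol.mem_pBlock.2 CfsgLib.Blocks.principalIrr_mem_principalBlock
  have hDp : ∀ l : (↥(P : Subgroup G) →* ℂˣ), l ≠ 1 → D p₀ l = -1 := by
    intro l hl
    have h := hD p₀ l
    simp only [hp₀, CfsgLib.Char.principalIrr_apply, one_mul, Finset.sum_sub_distrib] at h
    rw [Fintype.sum_equiv (Equiv.inv _) (fun z => ((l z⁻¹ : ℂˣ) : ℂ)) (fun z => ((l z : ℂˣ) : ℂ))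
      (fun z => by simp), hsumP, if_neg hl] at h
    simp only [zero_sub, Finset.sum_const, Finset.card_univ, nsmul_eq_mul, mul_one,
      ← Nat.card_eq_fintype_card, ← hqdef] at h
    have : (D p₀ l : ℂ) = -1 := mul_left_cancel₀ hqC (by rw [h, mul_neg, mul_one])
    exact_mod_cast this
  have hgram : ∀ l l' : (↥(P : Subgroup G) →* ℂˣ), l ≠ 1 → l' ≠ 1 →
      ∑ χ ∈ BlockCol.pBlock M G, (D χ l : ℂ) * (D χ l' : ℂ) =
        ∑ i : Fin 3, ((if l'.comp (R i) = l then (1 : ℂ) else 0) + 1) := by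
    intro l l' hl hl'
    have hD' : ∀ χ, (q : ℂ) * (D χ l' : ℂ) =
        ∑ w : ↥(P : Subgroup G), conj ((χ : G → ℂ) w) * (((l' w : ℂˣ) : ℂ) - 1) := by
      intro χ
      have h := congrArg conj (hD χ l')
      simpa only [map_mul, map_sum, map_natCast, map_intCast, map_sub, map_one, conj_apply_hom, inv_inv] using h
    refine mul_left_cancel₀ (mul_ne_zero hqC hqC) ?_
    rw [Finset.mul_sum]
    have hterm : ∀ χ : Cfsg.IrrCharacter G, (q : ℂ) * q * ((D χ l : ℂ) * (D χ l' : ℂ)) =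
        ∑ z : ↥(P : Subgroup G), ∑ w : ↥(P : Subgroup G),
          ((((l z⁻¹ : ℂˣ) : ℂ) - 1) * (((l' w : ℂˣ) : ℂ) - 1)) *
            ((χ : G → ℂ) z * conj ((χ : G → ℂ) w)) := by
      intro χ
      rw [mul_mul_mul_comm, hD, hD', Finset.sum_mul_sum]
      exact Finset.sum_congr rfl fun z _ => Finset.sum_congr rfl fun w _ => by ring
    simp only [hterm]
    rw [Finset.sum_comm]
    have hz : ∀ z : ↥(P : Subgroup G),
        ∑ χ ∈ BlockCol.pBlock M G, ∑ w : ↥(P : Subgroup G),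
          ((((l z⁻¹ : ℂˣ) : ℂ) - 1) * (((l' w : ℂˣ) : ℂ) - 1)) *
            ((χ : G → ℂ) z * conj ((χ : G → ℂ) w)) =
        (q : ℂ) * ∑ i : Fin 3, (((l⁻¹ * l'.comp (R i)) z : ℂˣ) - ((l⁻¹ z : ℂˣ) : ℂ) -
          ((l'.comp (R i) z : ℂˣ) : ℂ) + 1) := by
      intro z
      by_cases hz1 : z = 1
      · subst hz1; simp
      rw [Finset.sum_comm]
      simp only [← Finset.mul_sum, hcol z _ hz1]
      rw [Finset.mul_sum]
      rw [show ∑ w : ↥(P : Subgroup G), ((((l z⁻¹ : ℂˣ) : ℂ) - 1) * (((l' w : ℂˣ) : ℂ) - 1)) *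
          (∑ i : Fin 3, if w = R i z then (q : ℂ) else 0) =
          ∑ i : Fin 3, ((((l z⁻¹ : ℂˣ) : ℂ) - 1) * (((l' (R i z) : ℂˣ) : ℂ) - 1)) * q by
        simp only [Finset.mul_sum]
        rw [Finset.sum_comm]
        refine Finset.sum_congr rfl fun i _ => ?_
        simp only [mul_ite, mul_zero, Finset.sum_ite_eq', Finset.mem_univ, if_true]]
      refine Finset.sum_congr rfl fun i _ => ?_
      simp only [MonoidHom.mul_apply, MonoidHom.inv_apply, MonoidHom.comp_apply, map_inv,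
        Units.val_mul]
      ring
    simp only [hz]
    rw [← Finset.mul_sum, Finset.sum_comm]
    simp only [Finset.sum_add_distrib, Finset.sum_sub_distrib, hsumP, inv_eq_one, if_neg hl,
      inv_mul_eq_one, Finset.sum_const, Finset.card_univ, nsmul_eq_mul, mul_one]
    have hcomp : ∀ i, l'.comp (R i) ≠ 1 := by
      intro i h
      have hsurj : Function.Surjective (R i) := Finite.injective_iff_surjective.1 fun a b hab =>
        Subtype.ext (mul_left_cancel (mul_right_cancel (congrArg Subtype.val hab)))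
      exact hl' (MonoidHom.ext fun w => by
        obtain ⟨w, rfl⟩ := hsurj w
        exact DFunLike.congr_fun h w)
    simp only [if_neg (hcomp _), sub_zero, Finset.sum_const_zero,
      ← Nat.card_eq_fintype_card, ← hqdef, mul_add, Finset.mul_sum, Finset.sum_const,
      Finset.card_univ, Fintype.card_fin, nsmul_eq_mul]
    simp only [Nat.card_eq_fintype_card, Fintype.card_fin, eq_comm (a := l), mul_ite, mul_one,
      mul_zero, Nat.cast_ofNat]
    have hi1 : ∀ x : Fin 3, l⁻¹ * l'.comp (R x) = 1 ↔ l'.comp (R x) = l := fun x => by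
      constructor
      · intro h
        refine MonoidHom.ext fun w => ?_
        have := DFunLike.congr_fun h w
        simp only [MonoidHom.mul_apply, MonoidHom.inv_apply, MonoidHom.one_apply, inv_mul_eq_one] at this
        exact this.symm
      · intro h
        rw [h]
        exact MonoidHom.ext fun w => inv_mul_cancel (l w)
    have hl1 : ¬ l⁻¹ = 1 := fun h => hl (MonoidHom.ext fun w => inv_eq_one.1 (DFunLike.congr_fun h w))
    simp only [hi1, hl1, if_false, mul_ite, mul_zero, Finset.mul_sum, sub_zero, sq]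
    ring_nf
  have hoinj : ∀ l : (↥(P : Subgroup G) →* ℂˣ), l ≠ 1 → ∀ i j : Fin 3, l.comp (R i) = l.comp (R j) → i = j := by
    intro l hl i j h
    by_contra hne
    let d : ↥(P : Subgroup G) → ↥(P : Subgroup G) := fun z => R i z * (R j z)⁻¹
    have hinjd : Function.Injective d := by
      intro a b hab
      by_contra hab'
      have h1 : R i (a * b⁻¹) = R j (a * b⁻¹) := by
        have hab2 : R i a * (R j a)⁻¹ = R i b * (R j b)⁻¹ := hab
        rw [map_mul, map_mul, map_inv, map_inv, mul_inv_eq_iff_eq_mul]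
        calc R i a = R i a * (R j a)⁻¹ * R j a := by rw [inv_mul_cancel_right]
          _ = R j a * (R j b)⁻¹ * R i b := by rw [hab2]; ac_rfl
      exact hne (hfree _ (fun e => hab' (mul_inv_eq_one.1 e)) i j h1)
    apply hl
    ext w
    obtain ⟨a, rfl⟩ := (Finite.injective_iff_surjective.1 hinjd) w
    have := DFunLike.congr_fun h a
    simp only [MonoidHom.comp_apply] at this
    simp [d, this]
  -- the vectors
  set B' := (BlockCol.pBlock M G).erase p₀ with hB'
  let ι := {l : (↥(P : Subgroup G) →* ℂˣ) // l ≠ 1}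
  let v : ι → {χ // χ ∈ B'} → ℤ := fun l χ => D χ.1 l.1
  have hip : ∀ l l' : ι, ((∑ χ, v l χ * v l' χ : ℤ) : ℂ) =
      2 + ∑ i : Fin 3, if l'.1.comp (R i) = l.1 then (1 : ℂ) else 0 := by
    intro l l'
    have h := hgram l.1 l'.1 l.2 l'.2
    rw [← Finset.sum_erase_add _ _ hp₀B, hDp _ l.2, hDp _ l'.2, Finset.sum_add_distrib] at h
    simp only [Int.cast_sum, Int.cast_mul, v]
    rw [Finset.sum_coe_sort B' fun χ => ((D χ l.1 : ℂ) * (D χ l'.1 : ℂ))]
    push_cast at h
    simp only [Finset.sum_const, Finset.card_univ, Fintype.card_fin, nsmul_eq_mul] at h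
    linear_combination h
  have hip_same : ∀ (l l' : ι) (i : Fin 3), l'.1.comp (R i) = l.1 →
      ∑ χ, v l χ * v l' χ = 3 := by
    intro l l' i hi
    have h := hip l l'
    rw [Finset.sum_eq_single i (fun j _ hj => if_neg fun he =>
      hj (hoinj _ l'.2 j i (he.trans hi.symm))) (fun h => absurd (Finset.mem_univ i) h),
      if_pos hi] at h
    have h' : ((∑ χ, v l χ * v l' χ : ℤ) : ℂ) = ((3 : ℤ) : ℂ) := by rw [h]; norm_num
    exact_mod_cast h'
  have hR0' : ∀ l : (↥(P : Subgroup G) →* ℂˣ), l.comp (R 0) = l := fun l => MonoidHom.ext fun z => by simp [hR0]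
  have hnorm3 : ∀ l, ∑ χ, v l χ * v l χ = 3 := fun l => hip_same l l 0 (hR0' _)
  have hiff : ∀ l l' : ι, v l = v l' ↔ ∃ i, l'.1.comp (R i) = l.1 := by
    intro l l'
    constructor
    · intro h
      by_contra hno
      push Not at hno
      have h1 := hip l l'
      rw [Finset.sum_eq_zero fun i _ => if_neg (hno i), add_zero, ← h, hnorm3] at h1
      norm_num at h1
    · rintro ⟨i, hi⟩
      funext χ
      have h0 : ∑ χ, (v l χ - v l' χ) * (v l χ - v l' χ) = 0 := by
        simp only [sub_mul, mul_sub, Finset.sum_sub_distrib]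
        rw [Finset.sum_congr rfl fun χ _ => mul_comm (v l' χ) (v l χ), hnorm3, hnorm3,
          hip_same l l' i hi]
        norm_num
      rw [Finset.sum_eq_zero_iff_of_nonneg fun χ _ => mul_self_nonneg _] at h0
      exact sub_eq_zero.1 (mul_self_eq_zero.1 (h0 χ (Finset.mem_univ χ)))
  have hfib : ∀ l : ι, (Finset.univ.filter fun l' : ι => v l' = v l).card = 3 := by
    intro l
    have hcomp : ∀ i, l.1.comp (R i) ≠ 1 := fun i h => by
      have hsurj : Function.Surjective (R i) := Finite.injective_iff_surjective.1 fun a b hab =>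
        Subtype.ext (mul_left_cancel (mul_right_cancel (congrArg Subtype.val hab)))
      exact l.2 (MonoidHom.ext fun w => by
        obtain ⟨w, rfl⟩ := hsurj w
        exact DFunLike.congr_fun h w)
    let g : Fin 3 → ι := fun i => ⟨l.1.comp (R i), hcomp i⟩
    have hg : Function.Injective g := fun i j h => hoinj _ l.2 i j (congrArg Subtype.val h)
    rw [show (Finset.univ.filter fun l' : ι => v l' = v l) = Finset.univ.image g from ?_,
      Finset.card_image_of_injective _ hg, Finset.card_univ, Fintype.card_fin]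
    ext l'
    simp only [Finset.mem_filter, Finset.mem_univ, true_and, Finset.mem_image, hiff]
    exact ⟨fun ⟨i, hi⟩ => ⟨i, Subtype.ext hi⟩, fun ⟨i, hi⟩ => ⟨i, congrArg Subtype.val hi⟩⟩
  have hιcard : Fintype.card ι = q - 1 := by
    rw [Fintype.card_subtype_compl, Fintype.card_subtype_eq, hdual]
  have h5 : 5 ≤ (Finset.univ.image v).card := by
    have h := Finset.card_le_mul_card_image (f := v) (Finset.univ : Finset ι) 3 (fun u hu => by
      obtain ⟨l, -, rfl⟩ := Finset.mem_image.1 hu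
      exact (hfib l).le)
    rw [Finset.card_univ, hιcard] at h
    omega
  have hip2 : ∀ l l', v l ≠ v l' → ∑ χ, v l χ * v l' χ = 2 := by
    intro l l' hne
    have h := hip l l'
    rw [Finset.sum_eq_zero fun i _ => if_neg fun he => hne ((hiff l l').2 ⟨i, he⟩), add_zero] at h
    exact_mod_cast h
  obtain ⟨c₁, c₂, hc12, ε₁, ε₂, hε₁, hε₂, hrest⟩ := Sunflower.exists_core v hnorm3 hip2 h5
  choose π δ hπ₁ hπ₂ hδ hvec using hrest
  have hπeq : ∀ l l', π l = π l' → v l = v l' ∧ δ l = δ l' := by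
    intro l l' he
    by_cases hne : v l = v l'
    · refine ⟨hne, ?_⟩
      have h := congrFun hne (π l)
      rw [hvec l, hvec l'] at h
      simpa [hπ₁ l, hπ₂ l, he, hπ₁ l', hπ₂ l'] using h
    · exfalso
      have hδ0 : ∀ m, δ m ≠ 0 := fun m h => by have := hδ m; rw [h] at this; norm_num at this
      have h := (Sunflower.inter (hnorm3 l) (hnorm3 l') (hip2 l l' hne)).2 (π l)
        (by rw [hvec l]; simpa [hπ₁ l, hπ₂ l] using hδ0 l)
        (by rw [hvec l', he]; simpa [hπ₁ l', hπ₂ l'] using hδ0 l')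
      refine hne ?_
      have hdd : δ l = δ l' := by
        rw [hvec l, hvec l'] at h
        simpa [hπ₁ l, hπ₂ l, he, hπ₁ l', hπ₂ l'] using h
      rw [hvec l, hvec l', he, hdd]
  have hDone : ∀ χ, D χ 1 = 0 := fun χ => sub_self _
  have hsplit : ∀ (χ : {χ // χ ∈ B'}) (z : ↥(P : Subgroup G)), z ≠ 1 →
      (χ.1 : G → ℂ) z = ∑ l : ι, (v l χ : ℂ) * ((l.1 z : ℂˣ) : ℂ) := by
    intro χ z hz1
    rw [hinv _ z hz1, ← Finset.sum_erase_add _ _ (Finset.mem_univ (1 : (↥(P : Subgroup G) →* ℂˣ))), hDone, Int.cast_zero,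
      zero_mul, add_zero]
    refine Finset.sum_bij' (fun l hl => ⟨l, (Finset.mem_erase.1 hl).1⟩) (fun l _ => l.1)
      (fun l hl => Finset.mem_univ _) (fun l _ => Finset.mem_erase.2 ⟨l.2, Finset.mem_univ _⟩)
      (fun l hl => rfl) (fun l _ => rfl) (fun l hl => rfl)
  have hιsum : ∀ z : ↥(P : Subgroup G), z ≠ 1 → ∑ l : ι, ((l.1 z : ℂˣ) : ℂ) = -1 := by
    intro z hz1
    have h := hsumD z
    rw [if_neg hz1, ← Finset.sum_erase_add _ _ (Finset.mem_univ (1 : (↥(P : Subgroup G) →* ℂˣ)))] at h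
    rw [show ∑ l : ι, ((l.1 z : ℂˣ) : ℂ) = ∑ l ∈ Finset.univ.erase (1 : (↥(P : Subgroup G) →* ℂˣ)), ((l z : ℂˣ) : ℂ) from
      (Finset.sum_bij' (fun l hl => (⟨l, (Finset.mem_erase.1 hl).1⟩ : ι)) (fun l _ => l.1)
        (fun l hl => Finset.mem_univ _) (fun l _ => Finset.mem_erase.2 ⟨l.2, Finset.mem_univ _⟩)
        (fun l hl => rfl) (fun l _ => rfl) (fun l hl => rfl)).symm]
    rw [MonoidHom.one_apply, Units.val_one] at h
    linear_combination h
  have hval1 : ∀ z : ↥(P : Subgroup G), z ≠ 1 → (c₁.1 : G → ℂ) z = -(ε₁ : ℂ) := by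
    intro z hz1
    rw [hsplit _ z hz1, Finset.sum_congr rfl fun l _ => by
      rw [show v l c₁ = ε₁ by rw [hvec l]; simp], ← Finset.mul_sum, hιsum z hz1]
    ring
  have hval2 : ∀ z : ↥(P : Subgroup G), z ≠ 1 → (c₂.1 : G → ℂ) z = -(ε₂ : ℂ) := by
    intro z hz1
    rw [hsplit _ z hz1, Finset.sum_congr rfl fun l _ => by
      rw [show v l c₂ = ε₂ by rw [hvec l]; simp [hc12.symm]], ← Finset.mul_sum, hιsum z hz1]
    ring
  have hfilter : ∀ l, (Finset.univ.filter fun l' : ι => π l' = π l) =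
      Finset.univ.filter fun l' : ι => v l' = v l := by
    intro l
    ext l'
    simp only [Finset.mem_filter, Finset.mem_univ, true_and]
    refine ⟨fun h => (hπeq _ _ h).1, fun h => ?_⟩
    by_contra hne
    have h1 := congrFun h (π l')
    rw [hvec l, hvec l'] at h1
    simp [hπ₁ l', hπ₂ l', hne] at h1
    have := hδ l'
    rw [h1] at this
    norm_num at this
  let θ : ι → ↥(P : Subgroup G) → ℂ := fun l z => ∑ i : Fin 3, ((l.1 (R i z) : ℂˣ) : ℂ)
  have hval : ∀ l, ∀ z : ↥(P : Subgroup G), z ≠ 1 →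
      ((π l).1 : G → ℂ) z = (δ l : ℂ) * θ l z := by
    intro l z hz1
    rw [hsplit _ z hz1]
    have hv' : ∀ l' : ι, v l' (π l) = if v l' = v l then δ l else 0 := by
      intro l'
      have hmem : π l' = π l ↔ v l' = v l := by
        simpa using congrArg (fun s => l' ∈ s) (hfilter l)
      rw [hvec l']
      simp only [hπ₁ l, hπ₂ l, if_false]
      by_cases h : π l' = π l
      · rw [if_pos h.symm, ← hvec l', if_pos (hmem.1 h), (hπeq _ _ h).2]
      · rw [if_neg (Ne.symm h), ← hvec l', if_neg fun e => h (hmem.2 e)]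
    simp only [hv', Int.cast_ite, Int.cast_zero, ite_mul, zero_mul, ← Finset.sum_filter, ← Finset.mul_sum]
    congr 1
    have hcomp : ∀ i, l.1.comp (R i) ≠ 1 := fun i h => by
      have hsurj : Function.Surjective (R i) := Finite.injective_iff_surjective.1 fun a b hab =>
        Subtype.ext (mul_left_cancel (mul_right_cancel (congrArg Subtype.val hab)))
      exact l.2 (MonoidHom.ext fun w => by
        obtain ⟨w, rfl⟩ := hsurj w
        exact DFunLike.congr_fun h w)
    refine (Finset.sum_bij (fun (i : Fin 3) _ => (⟨l.1.comp (R i), hcomp i⟩ : ι)) ?_ ?_ ?_ ?_).symm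
    · intro i _
      exact Finset.mem_filter.2 ⟨Finset.mem_univ _, (hiff _ l).2 ⟨i, rfl⟩⟩
    · intro i _ j _ h
      exact hoinj _ l.2 i j (congrArg Subtype.val h)
    · intro l' hl'
      obtain ⟨i, hi⟩ := (hiff l' l).1 (Finset.mem_filter.1 hl').2
      exact ⟨i, Finset.mem_univ _, Subtype.ext hi⟩
    · intro i _
      rfl
  -- an involution and an element of larger order
  obtain ⟨t, ht⟩ : ∃ t : ↥(P : Subgroup G), orderOf (t : G) = 2 := by
    obtain ⟨t, ht⟩ := exists_prime_orderOf_dvd_card' (G := ↥(P : Subgroup G)) 2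
      (by rw [← hqdef, hqval]; exact dvd_mul_of_dvd_left (dvd_pow_self 2 (by omega)) _)
    exact ⟨t, by rw [Subgroup.orderOf_coe, ht]⟩
  have ht2 : (t : G) ^ 2 = 1 := orderOf_dvd_iff_pow_eq_one.1 (dvd_of_eq ht)
  have ht1 : t ≠ 1 := fun h => by rw [h, OneMemClass.coe_one, orderOf_one] at ht; norm_num at ht
  obtain ⟨z, hz⟩ : ∃ z : ↥(P : Subgroup G), z * z ≠ 1 := by
    refine ⟨e.symm (Multiplicative.ofAdd (1, 0)), fun h => ?_⟩
    rw [← map_mul, ← map_one e.symm, e.symm.injective.eq_iff, ← ofAdd_add, ← ofAdd_zero,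
      Multiplicative.ofAdd.injective.eq_iff, Prod.ext_iff] at h
    have h2 : ((2 : ℕ) : ZMod (2 ^ (k + 1))) = 0 := by
      simpa [← one_add_one_eq_two] using h.1
    rw [ZMod.natCast_eq_zero_iff] at h2
    have := Nat.le_of_dvd two_pos h2
    have : 2 ^ 2 ≤ 2 ^ (k + 1) := Nat.pow_le_pow_right two_pos (by omega)
    omega
  have hz1 : z ≠ 1 := fun h => hz (by rw [h, one_mul])
  -- every character of the block is nonzero at `t`
  have hnz : ∀ χ ∈ BlockCol.pBlock M G, (χ : G → ℂ) t ≠ 0 := by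
    intro χ hχ h0
    obtain ⟨Q, hQ⟩ : ∃ Q : Sylow 2 G, (Q : Subgroup G) ≤ Subgroup.centralizer ({(t : G)} : Set G) :=
      ⟨P, fun x hx => Subgroup.mem_centralizer_singleton_iff.2
        (Subgroup.mem_centralizer_iff.1 (hPC t.2) x hx)⟩
    have h := (BlockCol.mem_pBlock.1 hχ) (t : G)
    have h1 : Cfsg.centralChar (χ : G → ℂ) (t : G) = 0 := by
      rw [CfsgLib.BlockReg.centralChar_eq, h0, mul_zero, zero_div]
    have h2 : Cfsg.centralChar (fun _ : G => (1 : ℂ)) (t : G) =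
        (CfsgLib.BlockReg.csize (t : G) : ℂ) := by
      rw [Cfsg.centralChar, mul_one, div_one]; rfl
    rw [h1, h2, sub_zero] at h
    exact CfsgLib.BlockReg.not_memIdeal_natCast hM
      (fun hd => Q.not_dvd_index (hd.trans (Subgroup.index_dvd_of_le hQ))) h
  have hcover : ∀ χ : {χ // χ ∈ B'}, χ = c₁ ∨ χ = c₂ ∨ χ ∈ Finset.univ.image π := by
    intro χ
    by_contra hno
    push Not at hno
    refine hnz χ.1 (Finset.mem_of_mem_erase χ.2) ?_
    rw [hsplit χ t ht1]
    refine Finset.sum_eq_zero fun l _ => ?_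
    have : v l χ = 0 := by
      rw [hvec l]
      simp only [hno.1, hno.2.1, if_false, ite_eq_right_iff]
      intro he
      exact absurd (Finset.mem_image.2 ⟨l, Finset.mem_univ l, he.symm⟩) hno.2.2
    rw [this, Int.cast_zero, zero_mul]
  -- degrees
  choose dg hdg using fun χ : Cfsg.IrrCharacter G =>
    (⟨Cfsg.charDegree (χ : G → ℂ), CfsgLib.Blk83.one_eq χ⟩ :
      ∃ d : ℕ, (χ : G → ℂ) 1 = (d : ℂ))
  have hdpos : ∀ χ, (dg χ : ℂ) ≠ 0 := fun χ h => by
    have h' := hdg χ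
    rw [h, CfsgLib.Blk83.one_eq] at h'
    exact (CfsgLib.Blk83.deg_pos χ).ne' (by exact_mod_cast h')
  set A : ℤ := ε₁ * dg c₁.1 with hA
  set B : ℤ := ε₂ * dg c₂.1 with hB
  have hrel : ∀ l : ι, δ l * dg (π l).1 = 1 - A - B := by
    intro l
    have h : ∑ χ ∈ BlockCol.pBlock M G, (q : ℂ) * (D χ l.1 : ℂ) * conj ((χ : G → ℂ) 1) = 0 := by
      simp only [hD, Finset.sum_mul]
      rw [Finset.sum_comm]
      refine Finset.sum_eq_zero fun w _ => ?_
      by_cases hw1 : w = 1
      · subst hw1; simp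
      have horth := CfsgLib.BlockReg.block_orth_swap hM CfsgLib.Blocks.isPBlock_principalBlock
        (1 : G) (w : G) (by simp) (by
          obtain ⟨a, ha⟩ := h2pow w
          rw [ha]
          refine dvd_pow_self 2 fun h => hw1 (Subtype.ext ?_)
          rw [h, pow_zero, orderOf_eq_one_iff] at ha
          exact ha)
      rw [BlockCol.finsum_principal] at horth
      rw [← mul_zero (((l.1 w⁻¹ : ℂˣ) : ℂ) - 1), ← horth, Finset.mul_sum]
      exact Finset.sum_congr rfl fun χ _ => by ring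
    rw [← Finset.sum_erase_add _ _ hp₀B, hDp _ l.2, ← hB',
      ← Finset.sum_coe_sort B' (fun χ => (q : ℂ) * (D χ l.1 : ℂ) * conj ((χ : G → ℂ) 1))] at h
    simp only [hdg, map_natCast] at h
    have hD' : ∀ χ : {χ // χ ∈ B'}, D χ.1 l.1 =
        if χ = c₁ then ε₁ else if χ = c₂ then ε₂ else if χ = π l then δ l else 0 :=
      fun χ => congrFun (hvec l) χ
    simp only [hD'] at h
    rw [← Finset.sum_subset (Finset.subset_univ ({c₁, c₂, π l} : Finset _)) (fun χ _ hχ => by
      simp only [Finset.mem_insert, Finset.mem_singleton, not_or] at hχ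
      simp [hχ.1, hχ.2.1, hχ.2.2])] at h
    rw [Finset.sum_insert (by simp [hc12, Ne.symm (hπ₁ l)]),
      Finset.sum_insert (by simp [Ne.symm (hπ₂ l)]), Finset.sum_singleton] at h
    simp only [if_true, hπ₁ l, hπ₂ l, if_false, hc12.symm] at h
    have hp1 : (dg p₀ : ℂ) = 1 := by rw [← hdg, hp₀, CfsgLib.Char.principalIrr_apply]
    rw [hp1] at h
    have h' : (q : ℂ) * (((δ l * dg (π l).1 : ℤ) : ℂ) - ((1 - A - B : ℤ) : ℂ)) = 0 := by
      rw [hA, hB]
      push_cast at h ⊢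
      linear_combination h
    exact_mod_cast sub_eq_zero.1 ((mul_eq_zero.1 h').resolve_left hqC)
  obtain ⟨l₀⟩ : Nonempty ι := Fintype.card_pos_iff.1 (by omega)
  set X : ℤ := δ l₀ * dg (π l₀).1 with hX
  have hXall : ∀ l, δ l * (dg (π l).1 : ℤ) = X := fun l => by rw [hrel l, hX, hrel l₀]
  -- congruences
  have hcong : ∀ χ : Cfsg.IrrCharacter G, ∀ a : ℤ,
      ∑ w : ↥(P : Subgroup G), (χ : G → ℂ) w = (a : ℂ) → (q : ℤ) ∣ a := by
    intro χ a ha
    have h := hmu χ 1
    simp only [MonoidHom.one_apply, Units.val_one, mul_one, ha] at h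
    exact ⟨mu χ 1, by exact_mod_cast h⟩
  have hsumconst : ∀ (χ : Cfsg.IrrCharacter G) (ε : ℤ), (∀ w : ↥(P : Subgroup G), w ≠ 1 →
      (χ : G → ℂ) w = -(ε : ℂ)) → ε * ε = 1 → (q : ℤ) ∣ ε * dg χ + 1 := by
    intro χ ε hχ hεε
    have h := hcong χ ((dg χ : ℤ) - ε * ((q : ℤ) - 1)) (by
      rw [← Finset.sum_erase_add _ _ (Finset.mem_univ 1), Finset.sum_congr rfl fun w hw =>
        hχ w (Finset.mem_erase.1 hw).1, Finset.sum_const, Finset.card_erase_of_mem
        (Finset.mem_univ _), Finset.card_univ, ← Nat.card_eq_fintype_card, ← hqdef,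
        OneMemClass.coe_one, hdg, nsmul_eq_mul, Nat.cast_sub (by omega : 1 ≤ q)]
      push_cast
      ring)
    have he : ε * dg χ + 1 = ε * ((dg χ : ℤ) - ε * ((q : ℤ) - 1)) + q := by
      linear_combination (q - 1 : ℤ) * hεε
    rw [he]
    exact dvd_add (dvd_mul_of_dvd_right h _) dvd_rfl
  have hqX : (q : ℤ) ∣ X - 3 := by
    have h := hcong (π l₀).1 ((dg (π l₀).1 : ℤ) - 3 * δ l₀) (by
      have h3' : ∑ w : ↥(P : Subgroup G), (δ l₀ : ℂ) * θ l₀ w = 0 := by
        simp only [θ, Finset.mul_sum]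
        rw [Finset.sum_comm]
        refine Finset.sum_eq_zero fun i _ => ?_
        have hsurj : Function.Bijective (R i) := Finite.injective_iff_bijective.1 fun a b hab =>
          Subtype.ext (mul_left_cancel (mul_right_cancel (congrArg Subtype.val hab)))
        rw [← Finset.mul_sum, hsurj.sum_comp (fun w => ((l₀.1 w : ℂˣ) : ℂ)), hsumP, if_neg l₀.2,
          mul_zero]
      rw [← Finset.sum_erase_add _ _ (Finset.mem_univ 1), Finset.sum_congr rfl fun w hw =>
        hval l₀ w (Finset.mem_erase.1 hw).1, OneMemClass.coe_one, hdg]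
      rw [← Finset.sum_erase_add _ _ (Finset.mem_univ 1)] at h3'
      have hθ1 : θ l₀ 1 = 3 := by simp [θ]
      rw [hθ1] at h3'
      push_cast
      linear_combination h3')
    have he : X - 3 = δ l₀ * ((dg (π l₀).1 : ℤ) - 3 * δ l₀) := by
      rw [hX]; linear_combination (3 : ℤ) * hδ l₀
    rw [he]
    exact dvd_mul_of_dvd_right h _
  -- no product of two conjugates of `t` lies in the section of `z`
  have htriple : ∑ χ ∈ BlockCol.pBlock M G,
      (χ : G → ℂ) t * conj ((χ : G → ℂ) t) / (χ : G → ℂ) 1 * (χ : G → ℂ) z = 0 := by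
    obtain ⟨a, ha⟩ := h2pow z
    refine sum_block_eq_zero hM (h2pow z) _ fun c hc hcreg => ?_
    have h := CfsgLib.Blk83.sum_conj_mul_div (t : G) ((z : G) * c)
    rw [Finset.card_eq_zero.2 (Finset.filter_eq_empty_iff.2 fun a' _ hconj => ?_), Nat.cast_zero,
      zero_mul, mul_eq_zero] at h
    · rw [← h.resolve_left (by exact_mod_cast Fintype.card_pos.ne')]
      exact Finset.sum_congr rfl fun χ _ => by ring
    -- an involution inverting the product inverts `z`
    set s := a' * (t : G) * a'⁻¹ with hs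
    set w := (z : G) * c with hw
    obtain ⟨g, hg⟩ := isConj_iff.1 hconj
    have hs2 : s * s = 1 := by
      rw [← sq, hs, conj_pow, ht2, mul_one, mul_inv_cancel]
    have hu2 : s * w * (s * w) = 1 := by
      rw [← hg, ← sq, conj_pow, ht2, mul_one, mul_inv_cancel]
    have hsw : s * w * s⁻¹ = w⁻¹ := by
      rw [inv_eq_of_mul_eq_one_right hs2]
      exact eq_inv_of_mul_eq_one_left (by rw [mul_assoc, hu2])
    obtain ⟨j, hj⟩ := Subgroup.mem_zpowers_iff.1 (left_mem_zpowers_mul hc (by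
      rw [ha]; exact ((Nat.prime_two.coprime_iff_not_dvd).2 hcreg).pow_left a))
    have hsz : s * (z : G) * s⁻¹ = (z : G)⁻¹ := by
      rw [← hj, ← conj_zpow, hsw, inv_zpow]
    obtain ⟨i, hi⟩ := hfusion z z⁻¹ (isConj_iff.2 ⟨s, hsz⟩)
    have hzz : R i (R i z) = z := by
      rw [← hi, map_inv, ← hi, inv_inv]
    fin_cases i
    · exact hz (mul_eq_one_iff_eq_inv.2 (by
        have hh : z⁻¹ = z := hi.trans (hR0 z)
        exact hh.symm))
    all_goals
      have hzz' : n₀ ^ (_ : ℕ) * (n₀ ^ (_ : ℕ) * (z : G) * (n₀ ^ (_ : ℕ))⁻¹) * (n₀ ^ (_ : ℕ))⁻¹ = z :=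
        congrArg Subtype.val hzz
      first
        | exact absurd (hfree z hz1 2 0 (Subtype.ext (by
            show n₀ ^ 2 * (z : G) * (n₀ ^ 2)⁻¹ = n₀ ^ 0 * (z : G) * (n₀ ^ 0)⁻¹
            simp only [pow_zero, one_mul, inv_one, mul_one]
            exact (by group : n₀ ^ 2 * (z : G) * (n₀ ^ 2)⁻¹ =
              n₀ ^ 1 * (n₀ ^ 1 * (z : G) * (n₀ ^ 1)⁻¹) * (n₀ ^ 1)⁻¹).trans hzz'))) (by decide)
        | exact absurd (hfree z hz1 1 0 (Subtype.ext (by
            show n₀ ^ 1 * (z : G) * (n₀ ^ 1)⁻¹ = n₀ ^ 0 * (z : G) * (n₀ ^ 0)⁻¹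
            simp only [pow_zero, one_mul, inv_one, mul_one]
            have hc3 := Subgroup.mem_centralizer_iff.1 hn3 _
              (⟨n₀ ^ 1 * (z : G) * (n₀ ^ 1)⁻¹, hmemP 1 z⟩ : ↥(P : Subgroup G)).2
            calc n₀ ^ 1 * (z : G) * (n₀ ^ 1)⁻¹
                = (n₀ ^ 1 * (z : G) * (n₀ ^ 1)⁻¹ * n₀ ^ 3) * (n₀ ^ 3)⁻¹ := by group
              _ = n₀ ^ 3 * (n₀ ^ 1 * (z : G) * (n₀ ^ 1)⁻¹) * (n₀ ^ 3)⁻¹ := by rw [hc3]
              _ = n₀ ^ 2 * (n₀ ^ 2 * (z : G) * (n₀ ^ 2)⁻¹) * (n₀ ^ 2)⁻¹ := by group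
              _ = z := hzz'))) (by decide)
  -- evaluation
  set F : {χ // χ ∈ B'} → ℂ := fun χ =>
    (χ.1 : G → ℂ) t * conj ((χ.1 : G → ℂ) t) / (χ.1 : G → ℂ) 1 * (χ.1 : G → ℂ) z with hF
  have hXC : ∀ l, (δ l : ℂ) * (dg (π l).1 : ℂ) = (X : ℂ) := fun l => by exact_mod_cast hXall l
  have hX0 : (X : ℂ) ≠ 0 := by
    rw [← hXC l₀]
    exact mul_ne_zero (Int.cast_ne_zero.2 fun h => by have := hδ l₀; rw [h] at this; norm_num at this)
      (hdpos _)
  have hFπ : ∀ l, F (π l) = θ l t * θ l t * θ l z / (X : ℂ) := by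
    intro l
    have hr : conj (((π l).1 : G → ℂ) t) = ((π l).1 : G → ℂ) t := by
      obtain ⟨n, hn, -⟩ := Cfsg.Agent.S0944.result (π l).1 (t : G) ht
      rw [hn, map_intCast]
    simp only [hF, hr]
    simp only [hval l t ht1, hval l z hz1, hdg]
    have hdd : (δ l : ℂ) * (δ l : ℂ) = 1 := by exact_mod_cast hδ l
    have hδ0 : (δ l : ℂ) ≠ 0 := fun h => by rw [h] at hdd; norm_num at hdd
    rw [← hXC l]
    field_simp [hdpos, hδ0]
    linear_combination ((δ l : ℂ) ^ 2 + 1) * θ l t ^ 2 * θ l z * hdd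
  have hFc : ∀ (χ : {χ // χ ∈ B'}) (ε : ℤ), ε * ε = 1 →
      (∀ w : ↥(P : Subgroup G), w ≠ 1 → (χ.1 : G → ℂ) w = -(ε : ℂ)) →
      F χ = -(1 / ((ε * dg χ.1 : ℤ) : ℂ)) := by
    intro χ ε hεε hχ
    simp only [hF, hχ t ht1, hχ z hz1, map_neg, map_intCast, hdg]
    have hdd : (ε : ℂ) * (ε : ℂ) = 1 := by exact_mod_cast hεε
    have hε0 : (ε : ℂ) ≠ 0 := fun h => by rw [h] at hdd; norm_num at hdd
    push_cast
    field_simp [hdpos, hε0]
    linear_combination (-(ε : ℂ) ^ 2 - 1) * hdd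
  have hpet : ∑ χ ∈ Finset.univ.image π, F χ = -(9 / (X : ℂ)) := by
    have hall : ∑ l : (↥(P : Subgroup G) →* ℂˣ), (∑ i : Fin 3, ((l (R i t) : ℂˣ) : ℂ)) *
        (∑ i : Fin 3, ((l (R i t) : ℂˣ) : ℂ)) * (∑ i : Fin 3, ((l (R i z) : ℂˣ) : ℂ)) = 0 := by
      simp only [Finset.sum_mul, Finset.mul_sum]
      rw [Finset.sum_comm]
      refine Finset.sum_eq_zero fun i _ => ?_
      rw [Finset.sum_comm]
      refine Finset.sum_eq_zero fun i' _ => ?_
      rw [Finset.sum_comm]
      refine Finset.sum_eq_zero fun i'' _ => ?_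
      simp only [← Units.val_mul, ← map_mul, hsumD]
      refine if_neg fun h => hz ?_
      have hinj : ∀ i, Function.Injective (R i) := fun i a b hab =>
        Subtype.ext (mul_left_cancel (mul_right_cancel (congrArg Subtype.val hab)))
      have htt : t * t = 1 := Subtype.ext (by
        show (t : G) * t = 1
        rw [← sq, ht2])
      have hsq : ∀ i, R i t * R i t = 1 := fun i => by rw [← map_mul, htt, map_one]
      have h' := congrArg (fun w => w * w) h
      simp only [one_mul] at h'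
      have hrearr : ∀ a b c : ↥(P : Subgroup G),
          a * b * c * (a * b * c) = a * a * (b * b) * (c * c) := fun a b c => by ac_rfl
      simp only [hrearr, hsq, one_mul, mul_one, ← map_mul] at h'
      first
        | exact hinj i'' (h'.trans (map_one _).symm)
        | exact hinj i (h'.trans (map_one _).symm)
        | exact hinj i' (h'.trans (map_one _).symm)
    have hι : ∑ l : ι, θ l t * θ l t * θ l z = -27 := by
      rw [← Finset.sum_erase_add _ _ (Finset.mem_univ (1 : (↥(P : Subgroup G) →* ℂˣ)))] at hall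
      simp only [MonoidHom.one_apply, Units.val_one, Finset.sum_const, Finset.card_univ,
        Fintype.card_fin, nsmul_eq_mul, mul_one] at hall
      rw [show ∑ l : ι, θ l t * θ l t * θ l z = ∑ l ∈ Finset.univ.erase (1 : ↥(P : Subgroup G) →* ℂˣ),
          (∑ i : Fin 3, ((l (R i t) : ℂˣ) : ℂ)) * (∑ i : Fin 3, ((l (R i t) : ℂˣ) : ℂ)) *
            (∑ i : Fin 3, ((l (R i z) : ℂˣ) : ℂ)) from
        (Finset.sum_bij' (fun l hl => (⟨l, (Finset.mem_erase.1 hl).1⟩ : ι)) (fun l _ => l.1)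
          (fun l hl => Finset.mem_univ _) (fun l _ => Finset.mem_erase.2 ⟨l.2, Finset.mem_univ _⟩)
          (fun l hl => rfl) (fun l _ => rfl) (fun l hl => rfl)).symm]
      push_cast at hall
      linear_combination hall
    have h3F : ∑ l : ι, F (π l) = 3 * ∑ χ ∈ Finset.univ.image π, F χ := by
      rw [Finset.sum_comp F π, Finset.mul_sum]
      refine Finset.sum_congr rfl fun χ hχ => ?_
      obtain ⟨l, -, rfl⟩ := Finset.mem_image.1 hχ
      rw [hfilter l, hfib l, nsmul_eq_mul]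
      norm_num
    rw [Finset.sum_congr rfl fun l _ => hFπ l, ← Finset.sum_div, hι] at h3F
    linear_combination (-(1 : ℂ) / 3) * h3F
  have heq : (1 : ℂ) - 1 / (A : ℂ) - 1 / (B : ℂ) - 9 / (X : ℂ) = 0 := by
    rw [← Finset.sum_erase_add _ _ hp₀B, ← hB', ← Finset.sum_coe_sort B' fun χ =>
      (χ : G → ℂ) t * conj ((χ : G → ℂ) t) / (χ : G → ℂ) 1 * (χ : G → ℂ) z] at htriple
    have huniv : (Finset.univ : Finset {χ // χ ∈ B'}) =
        insert c₁ (insert c₂ (Finset.univ.image π)) := by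
      ext χ; simpa using hcover χ
    have h1 : c₁ ∉ insert c₂ (Finset.univ.image π) := by
      simp only [Finset.mem_insert, Finset.mem_image, Finset.mem_univ, true_and, not_or, not_exists]
      exact ⟨hc12, fun l => hπ₁ l⟩
    have h2 : c₂ ∉ Finset.univ.image π := by
      simp only [Finset.mem_image, Finset.mem_univ, true_and, not_exists]
      exact fun l => hπ₂ l
    change ∑ χ, F χ + _ = 0 at htriple
    rw [huniv, Finset.sum_insert h1, Finset.sum_insert h2, hpet, hFc c₁ ε₁ hε₁ hval1,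
      hFc c₂ ε₂ hε₂ hval2, ← hA, ← hB] at htriple
    simp only [hp₀, CfsgLib.Char.principalIrr_apply, map_one, mul_one, div_one] at htriple
    linear_combination htriple
  have hA0 : (A : ℂ) ≠ 0 := by
    rw [hA]; push_cast
    exact mul_ne_zero (Int.cast_ne_zero.2 fun h => by rw [h] at hε₁; norm_num at hε₁) (hdpos _)
  have hB0 : (B : ℂ) ≠ 0 := by
    rw [hB]; push_cast
    exact mul_ne_zero (Int.cast_ne_zero.2 fun h => by rw [h] at hε₂; norm_num at hε₂) (hdpos _)
  have hA1 : A = -1 := degrees_eq (q := (q : ℤ)) (by exact_mod_cast hq16)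
    (hsumconst _ _ hval1 hε₁) (hsumconst _ _ hval2 hε₂) hqX
    (by rw [hX, hrel l₀]; ring) (by
      field_simp at heq
      have hh : ((B * X + A * X + 9 * (A * B) : ℤ) : ℂ) = ((A * B * X : ℤ) : ℂ) := by
        push_cast
        linear_combination -heq
      exact_mod_cast hh)
  -- the linear character
  have hεd : ε₁ = -1 ∧ dg c₁.1 = 1 := by
    rw [hA] at hA1
    rcases mul_self_eq_one_iff.1 hε₁ with h | h <;> rw [h] at hA1
    · exfalso; omega
    · exact ⟨h, by omega⟩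
  obtain ⟨f, hf⟩ := CfsgLib.Char.IsCharacter.exists_linear
    (CfsgLib.Char.IsIrrCharacter.isCharacter c₁.1.2) (by rw [hdg, hεd.2, Nat.cast_one])
  refine ⟨f, fun h => (Finset.mem_erase.1 c₁.2).1 (Subtype.ext (funext fun g => ?_)), fun w hw => ?_⟩
  · rw [hf, h, MonoidHom.one_apply, Units.val_one]
    exact (CfsgLib.Char.principalIrr_apply g).symm
  · by_cases hw1 : w = 1
    · rw [hw1, map_one]
    · refine Units.ext ?_
      have h := hval1 ⟨w, hw⟩ (fun h => hw1 (congrArg Subtype.val h))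
      rw [hεd.1, hf] at h
      simpa using h

end CfsgLib.Invol.HomocyclicBlock
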