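import Cfsg.Agent.Lib.Invol.DihedralPairs
import Cfsg.Agent.Lib.Invol.BlockColumns
import Cfsg.Agent.Lib.Invol.HomocyclicBlock
import Cfsg.Agent.S0944
import Mathlib.GroupTheory.SpecificGroups.Cyclic
import Mathlib.Data.Nat.Totient

/-!
# Columns of the principal block at the rotations of a dihedral Sylow 2-subgroup
-/

set_option autoImplicit false

open scoped ComplexConjugate Pointwise

namespace CfsgLib.Invol.DihPairs

universe u

/-- A normal subgroup of odd order and 2-power index has the order of a Sylow 2-subgroup as index. -/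
theorem index_eq_card_sylow {C : Type u} [Group C] [Finite C] (N : Subgroup C)
    (hN : ¬ 2 ∣ Nat.card N) {l : ℕ} (hl : N.index = 2 ^ l) (T : Sylow 2 C) :
    N.index = Nat.card (T : Subgroup C) := by
  have : Fact (Nat.Prime 2) := ⟨Nat.prime_two⟩
  obtain ⟨m, hm⟩ := T.2.exists_card_eq
  have h1 := N.card_mul_index
  rw [hl, ← (T : Subgroup C).card_mul_index, hm] at h1
  have hcop : ∀ n e, ¬ 2 ∣ n → Nat.Coprime (2 ^ e) n := fun n e hn =>
    (Nat.prime_two.coprime_iff_not_dvd.2 hn).pow_left e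
  have e1 : 2 ^ l ∣ 2 ^ m :=
    (hcop _ l T.not_dvd_index).dvd_of_dvd_mul_right ⟨_, by rw [← h1, mul_comm]⟩
  have e2 : 2 ^ m ∣ 2 ^ l := (hcop _ m hN).dvd_of_dvd_mul_left ⟨_, h1⟩
  rw [hl, hm, Nat.dvd_antisymm e1 e2]

variable {G : Type u} [Group G] [Finite G] {P : Sylow 2 G} {σ τ : G} {h : ℕ}

theorem orderOf_pow_gt_two (d : DihData P σ τ h) {l : ℕ} (hl : ¬ h ∣ l) :
    2 < orderOf (σ ^ l) := by
  have h1 := orderOf_pos (σ ^ l)
  by_contra hle
  have hd : orderOf (σ ^ l) ∣ 2 := by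
    rcases (show orderOf (σ ^ l) = 1 ∨ orderOf (σ ^ l) = 2 by omega) with e | e <;> rw [e] <;> norm_num
  have h2 : 2 * h ∣ l * 2 := by
    rw [← d.ord, orderOf_dvd_iff_pow_eq_one, pow_mul, orderOf_dvd_iff_pow_eq_one.1 hd]
  rw [mul_comm l 2] at h2
  exact hl (Nat.dvd_of_mul_dvd_mul_left two_pos h2)

theorem refl_conj_zpow (d : DihData P σ τ h) (i : ℕ) (y : G) (hy : y ∈ Subgroup.zpowers σ) :
    σ ^ i * τ * y * (σ ^ i * τ)⁻¹ = y⁻¹ := by
  obtain ⟨j, rfl⟩ := Subgroup.mem_zpowers_iff.1 hy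
  calc σ ^ i * τ * σ ^ j * (σ ^ i * τ)⁻¹ = σ ^ i * (τ * σ ^ j * τ⁻¹) * (σ ^ i)⁻¹ := by group
    _ = (σ ^ j)⁻¹ := by rw [conj_zpow_of_inverts d.inv]; group

/-- A cyclic subgroup of order `2h` inside `P` is `⟨σ⟩`. -/
theorem zpowers_eq_of_orderOf (d : DihData P σ τ h) (h2 : 2 ≤ h) {a : G}
    (ha : a ∈ (P : Subgroup G)) (ho : orderOf a = 2 * h) :
    Subgroup.zpowers a = Subgroup.zpowers σ := by
  refine Subgroup.eq_of_le_of_card_ge (Subgroup.zpowers_le.2 ?_)
    (by rw [Nat.card_zpowers, Nat.card_zpowers, d.ord, ho])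
  obtain ⟨i, -, rfl | rfl⟩ := cases d ha
  · exact pow_mem (Subgroup.mem_zpowers σ) i
  · exfalso
    rw [orderOf_eq_prime (p := 2) (by rw [sq]; exact refl_sq d i)
      (fun e : σ ^ i * τ = 1 => refl_not_mem d i (by rw [e]; exact one_mem _))] at ho
    omega

/-- The centraliser of `σ ^ l` has a normal 2-complement of index `2h`. -/
theorem index_core_rot (d : DihData P σ τ h) (h2 : 2 ≤ h) {l : ℕ} (hl : ¬ h ∣ l) :
    (Cfsg.pPrimeCore 2 (Subgroup.centralizer ({σ ^ l} : Set G))).index = 2 * h ∧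
      ¬ 2 ∣ Nat.card (Cfsg.pPrimeCore 2 (Subgroup.centralizer ({σ ^ l} : Set G))) := by
  have : Fact (Nat.Prime 2) := ⟨Nat.prime_two⟩
  set C := Subgroup.centralizer ({σ ^ l} : Set G) with hC
  have hσC : Subgroup.zpowers σ ≤ C := Subgroup.zpowers_le.2
    (Subgroup.mem_centralizer_singleton_iff.2 (Commute.self_pow σ l).eq)
  have hσ2 : IsPGroup 2 (Subgroup.zpowers σ) := P.2.to_le (Subgroup.zpowers_le.2 d.hσ)
  obtain ⟨Q, hQ⟩ := (hσ2.comap_of_injective C.subtype Subtype.val_injective :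
    IsPGroup 2 ((Subgroup.zpowers σ).subgroupOf C)).exists_le_sylow
  set Q₀ := (Q : Subgroup C).map C.subtype with hQ₀
  have hσQ : Subgroup.zpowers σ ≤ Q₀ := fun x hx =>
    ⟨⟨x, hσC hx⟩, hQ (Subgroup.mem_subgroupOf.2 hx), rfl⟩
  obtain ⟨R, hR⟩ := (Q.2.map C.subtype).exists_le_sylow
  obtain ⟨g, hg⟩ := MulAction.exists_smul_eq G R P
  have hmem : ∀ x ∈ Q₀, g * x * g⁻¹ ∈ (P : Subgroup G) := fun x hx => by
    rw [← hg]
    exact Subgroup.smul_mem_pointwise_smul x (MulAut.conj g) (R : Subgroup G) (hR hx)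
  have ha := zpowers_eq_of_orderOf d h2 (hmem σ (hσQ (Subgroup.mem_zpowers σ)))
    (by rw [orderOf_conj, d.ord])
  have hy : g * σ ^ l * g⁻¹ ∈ Subgroup.zpowers σ := by
    rw [← ha, ← conj_pow]; exact pow_mem (Subgroup.mem_zpowers _) l
  have hQ_le : Q₀ ≤ Subgroup.zpowers σ := by
    intro x hx
    have hxC : x * σ ^ l = σ ^ l * x := by
      obtain ⟨c, -, rfl⟩ := hx
      exact Subgroup.mem_centralizer_singleton_iff.1 c.2
    have hx' : g * x * g⁻¹ ∈ Subgroup.zpowers σ := by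
      obtain ⟨i, -, hi | hi⟩ := cases d (hmem x hx)
      · rw [hi]; exact pow_mem (Subgroup.mem_zpowers σ) i
      · exfalso
        have hi' := refl_conj_zpow d i _ hy
        rw [← hi] at hi'
        have e : g * x * g⁻¹ * (g * σ ^ l * g⁻¹) * (g * x * g⁻¹)⁻¹ = g * σ ^ l * g⁻¹ := by
          rw [show g * x * g⁻¹ * (g * σ ^ l * g⁻¹) * (g * x * g⁻¹)⁻¹ =
            g * (x * σ ^ l) * x⁻¹ * g⁻¹ by group, hxC]; group
        rw [e] at hi'
        have : orderOf (g * σ ^ l * g⁻¹) ∣ 2 := orderOf_dvd_of_pow_eq_one (by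
          rw [sq]; nth_rw 1 [hi']; exact inv_mul_cancel _)
        rw [orderOf_conj] at this
        have := Nat.le_of_dvd two_pos this
        have := orderOf_pow_gt_two d hl
        omega
    rw [← ha] at hx'
    obtain ⟨j, hj⟩ := Subgroup.mem_zpowers_iff.1 hx'
    refine Subgroup.mem_zpowers_iff.2 ⟨j, ?_⟩
    rw [conj_zpow] at hj
    exact mul_left_cancel (mul_right_cancel hj)
  have hcyc : IsCyclic (Q : Subgroup C) := by
    have e : (Q : Subgroup C) ≃* Q₀ := (Q : Subgroup C).equivMapOfInjective _ Subtype.val_injective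
    haveI : IsCyclic Q₀ := by rw [le_antisymm hQ_le hσQ]; infer_instance
    exact e.isCyclic.2 inferInstance
  obtain ⟨k, hk⟩ := CfsgLib.Case.index_oddCore_of_cyclic (Q : Subgroup C) Q.2
    (Nat.odd_iff.2 (by have := Q.not_dvd_index; omega)) hcyc
  have hodd : ¬ 2 ∣ Nat.card (Cfsg.pPrimeCore 2 C) :=
    Nat.prime_two.coprime_iff_not_dvd.1 (CfsgLib.Solvable.pPrimeCore_card_coprime 2 C).symm
  refine ⟨?_, hodd⟩
  rw [index_eq_card_sylow _ hodd hk Q, ← d.ord, ← Nat.card_zpowers, ← le_antisymm hQ_le hσQ, hQ₀,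
    Subgroup.card_map_of_injective C.subtype_injective]

/-- Fusion of the rotations. -/
theorem rot_fusion (d : DihData P σ τ h) (h2 : 2 ≤ h) {b : ℕ} (hb : h = 2 ^ b) {l m : ℕ}
    (hm : ¬ h ∣ m) (hconj : IsConj (σ ^ l) (σ ^ m)) : σ ^ m = σ ^ l ∨ σ ^ m = (σ ^ l)⁻¹ := by
  classical
  have : Fact (Nat.Prime 2) := ⟨Nat.prime_two⟩
  obtain ⟨g, hg⟩ := isConj_iff.1 hconj
  set C := Subgroup.centralizer ({σ ^ m} : Set G) with hC
  obtain ⟨hidx, hodd⟩ := index_core_rot d h2 hm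
  have hσC : Subgroup.zpowers σ ≤ C := Subgroup.zpowers_le.2
    (Subgroup.mem_centralizer_singleton_iff.2 (Commute.self_pow σ m).eq)
  have hgC : Subgroup.zpowers (g * σ * g⁻¹) ≤ C := Subgroup.zpowers_le.2
    (Subgroup.mem_centralizer_singleton_iff.2 (by
      rw [← hg, show g * σ * g⁻¹ * (g * σ ^ l * g⁻¹) = g * (σ * σ ^ l) * g⁻¹ by group,
        (Commute.self_pow σ l).eq]; group))
  have hσ2 : IsPGroup 2 (Subgroup.zpowers σ) := P.2.to_le (Subgroup.zpowers_le.2 d.hσ)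
  -- both cyclic subgroups are Sylow subgroups of the centraliser
  have hmk : ∀ a : G, orderOf a = 2 * h → Subgroup.zpowers a ≤ C →
      ∃ T : Sylow 2 C, (T : Subgroup C) = (Subgroup.zpowers a).subgroupOf C := by
    intro a ho hle
    have hc : Nat.card ((Subgroup.zpowers a).subgroupOf C) = 2 * h := by
      rw [Nat.card_congr (Subgroup.subgroupOfEquivOfLe hle).toEquiv, Nat.card_zpowers, ho]
    have hp : IsPGroup 2 ((Subgroup.zpowers a).subgroupOf C) :=
      IsPGroup.of_card (n := b + 1) (by rw [hc, hb, pow_succ, mul_comm])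
    obtain ⟨T, hT⟩ := hp.exists_le_sylow
    refine ⟨T, (Subgroup.eq_of_le_of_card_ge hT ?_).symm⟩
    have hk : (Cfsg.pPrimeCore 2 C).index = 2 ^ (b + 1) := by rw [hidx, hb, pow_succ, mul_comm]
    rw [hc, ← hidx, index_eq_card_sylow _ hodd hk T]
  obtain ⟨T₁, hT₁⟩ := hmk σ d.ord hσC
  obtain ⟨T₂, hT₂⟩ := hmk (g * σ * g⁻¹) (by rw [orderOf_conj, d.ord]) hgC
  obtain ⟨c, hc⟩ := MulAction.exists_smul_eq C T₂ T₁
  set w := (c : G) * g with hw
  have hwσ : w * σ * w⁻¹ ∈ Subgroup.zpowers σ := by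
    have hin : (⟨g * σ * g⁻¹, hgC (Subgroup.mem_zpowers _)⟩ : C) ∈ (T₂ : Subgroup C) := by
      rw [hT₂, Subgroup.mem_subgroupOf]; exact Subgroup.mem_zpowers _
    have := Subgroup.smul_mem_pointwise_smul _ (MulAut.conj c) (T₂ : Subgroup C) hin
    rw [show MulAut.conj c • (T₂ : Subgroup C) = ((c • T₂ : Sylow 2 C) : Subgroup C) from rfl, hc, hT₁,
      Subgroup.mem_subgroupOf] at this
    rw [hw, show (c : G) * g * σ * ((c : G) * g)⁻¹ = (c : G) * (g * σ * g⁻¹) * (c : G)⁻¹ by group]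
    exact this
  have hwl : w * σ ^ l * w⁻¹ = σ ^ m := by
    rw [hw, show (c : G) * g * σ ^ l * ((c : G) * g)⁻¹ = (c : G) * (g * σ ^ l * g⁻¹) * (c : G)⁻¹ by
      group, hg, Subgroup.mem_centralizer_singleton_iff.1 c.2, mul_inv_cancel_right]
  -- the automorphisms induced on `⟨σ⟩` come from `P`
  set Z := Subgroup.zpowers σ with hZ
  set N := Subgroup.normalizer (Z : Set G) with hN
  have hwN : w ∈ N := by
    have he : Subgroup.zpowers (w * σ * w⁻¹) = Z :=
      Subgroup.eq_of_le_of_card_ge (Subgroup.zpowers_le.2 hwσ)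
        (by rw [Nat.card_zpowers, Nat.card_zpowers, orderOf_conj])
    refine Subgroup.mem_normalizer_iff.2 fun n => ⟨fun hn => ?_, fun hn => ?_⟩
    · obtain ⟨j, rfl⟩ := Subgroup.mem_zpowers_iff.1 hn
      rw [← conj_zpow]; exact zpow_mem hwσ j
    · rw [← he] at hn
      obtain ⟨j, hj⟩ := Subgroup.mem_zpowers_iff.1 hn
      rw [conj_zpow] at hj
      exact Subgroup.mem_zpowers_iff.2 ⟨j, mul_left_cancel (mul_right_cancel hj)⟩
  have hPN : (P : Subgroup G) ≤ N := fun s hs => by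
    have hconjmem : ∀ s ∈ (P : Subgroup G), ∀ n ∈ Z, s * n * s⁻¹ ∈ Z := by
      intro s hs n hn
      obtain ⟨i, -, rfl | rfl⟩ := cases d hs
      · exact mul_mem (mul_mem (pow_mem (Subgroup.mem_zpowers σ) i) hn)
          (inv_mem (pow_mem (Subgroup.mem_zpowers σ) i))
      · rw [refl_conj_zpow d i n hn]; exact inv_mem hn
    refine Subgroup.mem_normalizer_iff.2 fun n => ⟨fun hn => hconjmem s hs n hn, fun hn => ?_⟩
    have := hconjmem s⁻¹ (inv_mem hs) _ hn
    rwa [show s⁻¹ * (s * n * s⁻¹) * s⁻¹⁻¹ = n by group] at this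
  set φ := Subgroup.normalizerMonoidHom Z with hφ
  obtain ⟨k, hk⟩ : ∃ k, φ.ker.index ∣ 2 ^ k := by
    refine ⟨b, ?_⟩
    rw [Subgroup.index_ker]
    refine (Subgroup.card_subgroup_dvd_card _).trans ?_
    rw [IsCyclic.card_mulAut, Nat.card_zpowers, d.ord, hb, ← pow_succ',
      Nat.totient_prime_pow_succ Nat.prime_two]
    simp
  have htop : (P : Subgroup G).subgroupOf N ⊔ φ.ker = ⊤ := by
    rw [← Subgroup.index_eq_one]
    have h1 : ((P : Subgroup G).subgroupOf N ⊔ φ.ker).index ∣ 2 ^ k :=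
      (Subgroup.index_dvd_of_le le_sup_right).trans hk
    have h3 : ¬ 2 ∣ ((P : Subgroup G).subgroupOf N ⊔ φ.ker).index := fun h =>
      (P.subtype hPN).not_dvd_index (h.trans (Subgroup.index_dvd_of_le le_sup_left))
    exact Nat.eq_one_of_dvd_coprimes (((Nat.prime_two.coprime_iff_not_dvd.2 h3)).pow_left k) h1 dvd_rfl
  obtain ⟨p, hp, z, hz, hpz⟩ := Subgroup.mem_sup_of_normal_right.1
    (htop ▸ Subgroup.mem_top (⟨w, hwN⟩ : N) :
      (⟨w, hwN⟩ : N) ∈ (P : Subgroup G).subgroupOf N ⊔ φ.ker)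
  have hzl : (z : G) * σ ^ l * (z : G)⁻¹ = σ ^ l := by
    have h1 := DFunLike.congr_fun (MonoidHom.mem_ker.1 hz)
      (⟨σ ^ l, pow_mem (Subgroup.mem_zpowers σ) l⟩ : Z)
    exact congrArg Subtype.val h1
  have hwp : w = (p : G) * z := congrArg Subtype.val hpz.symm
  rw [← hwl, hwp, show (p : G) * z * σ ^ l * ((p : G) * z)⁻¹ =
    (p : G) * ((z : G) * σ ^ l * (z : G)⁻¹) * (p : G)⁻¹ by group, hzl]
  obtain ⟨i, -, hi | hi⟩ := cases d (Subgroup.mem_subgroupOf.1 hp)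
  · left
    rw [hi, (Commute.pow_pow_self σ i l).eq, mul_inv_cancel_right]
  · right
    rw [hi]
    exact refl_conj_zpow d i _ (pow_mem (Subgroup.mem_zpowers σ) l)

theorem apply_neg (d : DihData P σ τ h) (χ : Cfsg.IrrCharacter G) {l : ℕ} (hl : l ≤ 2 * h) :
    (χ : G → ℂ) (σ ^ (2 * h - l)) = (χ : G → ℂ) (σ ^ l) := by
  refine (CfsgLib.BlockReg.char_conj_invariant χ _ _ (isConj_iff.2 ⟨τ, ?_⟩)).symm
  have hc := conj_zpow_of_inverts d.inv (l : ℤ)
  rw [zpow_natCast, zpow_neg, zpow_natCast] at hc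
  rw [hc, inv_eq_iff_mul_eq_one, ← pow_add, Nat.add_sub_cancel' hl, ← d.ord, pow_orderOf_eq_one]

theorem apply_real (d : DihData P σ τ h) (χ : Cfsg.IrrCharacter G) (l : ℕ) :
    conj ((χ : G → ℂ) (σ ^ l)) = (χ : G → ℂ) (σ ^ l) := by
  rw [← CfsgLib.BlockReg.char_inv]
  refine (CfsgLib.BlockReg.char_conj_invariant χ _ _ (isConj_iff.2 ⟨τ, ?_⟩)).symm
  have hc := conj_zpow_of_inverts d.inv (l : ℤ)
  rwa [zpow_natCast, zpow_neg, zpow_natCast] at hc

variable {M : Ideal Cfsg.AlgInt}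

/-- The column products. -/
theorem column_mul (hM : Cfsg.IsPModular 2 M) (d : DihData P σ τ h) (h2 : 2 ≤ h) {b : ℕ}
    (hb : h = 2 ^ b) {l m : ℕ} (hl0 : 0 < l) (hl : l < 2 * h) (hm0 : 0 < m) (hm : m < 2 * h) :
    ∑ χ ∈ BlockCol.pBlock M G, (χ : G → ℂ) (σ ^ l) * (χ : G → ℂ) (σ ^ m) =
      (2 * h : ℂ) * ((if m = l then 1 else 0) + (if m + l = 2 * h then 1 else 0)) := by
  classical
  have : Fact (Nat.Prime 2) := ⟨Nat.prime_two⟩
  cases nonempty_fintype G
  haveI := hM.2.1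
  have hord : ∀ i, ∃ k, orderOf (σ ^ i) = 2 ^ k := fun i => by
    obtain ⟨k, -, hk⟩ := (Nat.dvd_prime_pow Nat.prime_two).1
      (show orderOf (σ ^ i) ∣ 2 ^ (b + 1) by
        rw [pow_succ', ← hb, ← d.ord]; exact orderOf_pow_dvd i)
    exact ⟨k, hk⟩
  have hdvd : ∀ i, 0 < i → i < 2 * h → (h ∣ i ↔ i = h) := fun i hi0 hi => by
    refine ⟨fun ⟨q, hq⟩ => ?_, fun e => e ▸ dvd_rfl⟩
    have : q < 2 := by subst hq; nlinarith
    interval_cases q <;> simp_all
  have hinj : ∀ {i j}, i < 2 * h → j < 2 * h → σ ^ i = σ ^ j → i = j := fun {i j} hi hj e =>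
    pow_injOn_Iio_orderOf (x := σ) (by rw [Set.mem_Iio, d.ord]; exact hi)
      (by rw [Set.mem_Iio, d.ord]; exact hj) e
  have hinv : ∀ i, i ≤ 2 * h → (σ ^ i)⁻¹ = σ ^ (2 * h - i) := fun i hi => by
    rw [inv_eq_iff_mul_eq_one, ← pow_add, Nat.add_sub_cancel' hi, ← d.ord, pow_orderOf_eq_one]
  by_cases hsame : m = l ∨ m + l = 2 * h
  · have hval : ∀ χ : Cfsg.IrrCharacter G, (χ : G → ℂ) (σ ^ m) = (χ : G → ℂ) (σ ^ l) := fun χ => by
      rcases hsame with rfl | e
      · rfl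
      · rw [show m = 2 * h - l by omega, apply_neg d χ hl.le]
    have hsq : ∀ (K : Subgroup (Subgroup.centralizer ({σ ^ l} : Set G))) (k : ℕ),
        K.Normal → ¬ 2 ∣ Nat.card K → K.index = 2 ^ k →
        ∑ χ ∈ BlockCol.pBlock M G, (χ : G → ℂ) (σ ^ l) * (χ : G → ℂ) (σ ^ m) = (K.index : ℂ) := by
      intro K k hK h1 h3
      rw [← BlockCol.sum_sq_of_complement hM (hord l) K h1 h3]
      exact Finset.sum_congr rfl fun χ _ => by rw [hval, apply_real d]
    by_cases hlh : l = h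
    · subst hlh
      obtain ⟨hi, ho⟩ := index_core d
      rw [hsq _ (b + 2) (CfsgLib.Solvable.pPrimeCore_normal 2 _) ho (by rw [hi, hb]; ring), hi,
        if_pos (by omega), if_pos (by omega)]
      push_cast; ring
    · obtain ⟨hi, ho⟩ := index_core_rot d h2 (l := l) (fun hd => hlh ((hdvd l hl0 hl).1 hd))
      rw [hsq _ (b + 1) (CfsgLib.Solvable.pPrimeCore_normal 2 _) ho (by rw [hi, hb]; ring), hi]
      rcases hsame with e | e
      · rw [if_pos e, if_neg (by omega)]; push_cast; ring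
      · rw [if_neg (by omega), if_pos e]; push_cast; ring
  · push Not at hsame
    rw [if_neg hsame.1, if_neg hsame.2, add_zero, mul_zero]
    have hnc : ¬ IsConj (σ ^ l) (σ ^ m) := by
      intro hc
      by_cases hmh : m = h
      · have := orderOf_conj (Classical.choose (isConj_iff.1 hc)) (σ ^ l)
        rw [Classical.choose_spec (isConj_iff.1 hc), hmh, orderOf_J d] at this
        have := orderOf_pow_gt_two d (l := l) (fun hd => hsame.1 (hmh.trans ((hdvd l hl0 hl).1 hd).symm))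
        omega
      · rcases rot_fusion d h2 hb (fun hd => hmh ((hdvd m hm0 hm).1 hd)) hc with e | e
        · exact hsame.1 (hinj hm hl e)
        · rw [hinv l hl.le] at e
          have := hinj hm (by omega) e
          omega
    have h0 := HomocyclicBlock.sum_block_eq_zero hM (x := σ ^ l) (hord l)
      (fun χ => conj ((χ : G → ℂ) (σ ^ m))) (fun c hc hcreg => by
        rw [Finset.sum_congr rfl fun χ _ => mul_comm _ _, CfsgLib.Char.sum_mul_conj, if_neg]
        intro hconj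
        obtain ⟨g, hg⟩ := isConj_iff.1 hconj
        obtain ⟨a, ha⟩ := hord l
        obtain ⟨a', ha'⟩ := hord m
        have hc1 : c = 1 := HomocyclicBlock.eq_one_of_orderOf_mul (a := a) (b := a') hc ha hcreg
          (by rw [← ha', ← hg, orderOf_conj])
        rw [hc1, mul_one] at hconj
        exact hnc hconj)
    rw [← h0]
    exact Finset.sum_congr rfl fun χ _ => by rw [apply_real d, mul_comm]

/-- No character of the principal block vanishes at the central involution. -/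
theorem apply_J_ne_zero (hM : Cfsg.IsPModular 2 M) (d : DihData P σ τ h)
    {χ : Cfsg.IrrCharacter G} (hχ : χ ∈ BlockCol.pBlock M G) : (χ : G → ℂ) (σ ^ h) ≠ 0 := by
  have : Fact (Nat.Prime 2) := ⟨Nat.prime_two⟩
  intro h0
  have hc := (BlockCol.mem_pBlock.1 hχ) (σ ^ h)
  have h1 : Cfsg.centralChar (χ : G → ℂ) (σ ^ h) = 0 := by
    rw [CfsgLib.BlockReg.centralChar_eq, h0, mul_zero, zero_div]
  have h2 : Cfsg.centralChar (fun _ : G => (1 : ℂ)) (σ ^ h) =
      (CfsgLib.BlockReg.csize (σ ^ h) : ℂ) := by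
    rw [Cfsg.centralChar, mul_one, div_one]
    rfl
  rw [h1, h2, sub_zero] at hc
  refine CfsgLib.BlockReg.not_memIdeal_natCast hM (fun hd => ?_) hc
  exact P.not_dvd_index (hd.trans (Subgroup.index_dvd_of_le (le_centralizer d)))

/-- The columns at the rotations are orthogonal to the regular ones. -/
theorem column_regular (hM : Cfsg.IsPModular 2 M) (d : DihData P σ τ h) {b : ℕ} (hb : h = 2 ^ b)
    {l : ℕ} (hl0 : 0 < l) (hl : l < 2 * h) {ρ : G} (hρ : ¬ 2 ∣ orderOf ρ) :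
    ∑ χ ∈ BlockCol.pBlock M G, (χ : G → ℂ) ρ * (χ : G → ℂ) (σ ^ l) = 0 := by
  have : Fact (Nat.Prime 2) := ⟨Nat.prime_two⟩
  haveI := hM.2.1
  obtain ⟨k, -, hk⟩ := (Nat.dvd_prime_pow Nat.prime_two).1
    (show orderOf (σ ^ l) ∣ 2 ^ (b + 1) by
      rw [pow_succ', ← hb, ← d.ord]; exact orderOf_pow_dvd l)
  have hk0 : k ≠ 0 := fun e => by
    rw [e, pow_zero, orderOf_eq_one_iff] at hk
    have := Nat.le_of_dvd hl0 (orderOf_dvd_of_pow_eq_one hk)
    rw [d.ord] at this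
    omega
  have h0 := CfsgLib.BlockReg.block_orthogonality hM CfsgLib.Blocks.isPBlock_principalBlock ρ (σ ^ l)
    hρ (hk ▸ dvd_pow_self 2 hk0)
  rw [BlockCol.finsum_principal] at h0
  rw [← h0]
  exact Finset.sum_congr rfl fun χ _ => by rw [apply_real d]

end CfsgLib.Invol.DihPairs
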