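import Cfsg.Agent.Lib.Invol.DihedralPairs
import Cfsg.Agent.Lib.Invol.Counting

/-!
# Counting involution pairs over a coset of the core
-/

set_option autoImplicit false

open scoped ComplexConjugate

namespace CfsgLib.Invol.DihPairs

universe u

variable {G : Type u} [Group G] [Finite G] {P : Sylow 2 G} {σ τ : G} {h : ℕ}

/-- The number of involutions in the coset `core (σ ^ h) * σ ^ i τ`. -/
noncomputable def fib (σ τ : G) (h i : ℕ) : ℕ :=
  Nat.card {o : core (σ ^ h) // (o : G) * (σ ^ i * τ) * ((o : G) * (σ ^ i * τ)) = 1}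

theorem centralizer_pair_mem {a b x : G} :
    x ∈ Subgroup.centralizer ({a, b} : Set G) ↔ x * a = a * x ∧ x * b = b * x := by
  constructor
  · intro hx
    exact ⟨(Subgroup.mem_centralizer_iff.1 hx a (by simp)).symm,
      (Subgroup.mem_centralizer_iff.1 hx b (by simp)).symm⟩
  · rintro ⟨h1, h2⟩
    refine Subgroup.mem_centralizer_iff.2 fun y hy => ?_
    rcases hy with rfl | rfl
    · exact h1.symm
    · exact h2.symm

omit [Finite G] in
theorem refl_mem (d : DihData P σ τ h) (i : ℕ) : σ ^ i * τ ∈ (P : Subgroup G) :=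
  mul_mem (pow_mem d.hσ i) d.hτ

omit [Finite G] in
theorem refl_ne (d : DihData P σ τ h) (i j : ℕ) : σ ^ i * τ ≠ σ ^ j := fun he =>
  refl_not_mem d i (he ▸ pow_mem (Subgroup.mem_zpowers σ) j)

/-- The centraliser of a reflection in `P` has four elements. -/
theorem card_centralizer_refl (d : DihData P σ τ h) (i : ℕ) :
    Nat.card {s : G // s ∈ (P : Subgroup G) ∧ s * (σ ^ i * τ) = (σ ^ i * τ) * s} = 4 := by
  classical
  set t := σ ^ i * τ with ht
  have hrot : ∀ j, σ ^ j * t = t * σ ^ j → σ ^ j = 1 ∨ σ ^ j = σ ^ h := by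
    intro j hj
    have e := refl_conj d j i
    rw [← ht, hj, mul_inv_cancel_right, add_comm, pow_add, mul_assoc, ← ht] at e
    have e1 : σ ^ (2 * j) = 1 := (mul_eq_right.1 e.symm)
    have hd : 2 * h ∣ 2 * j := d.ord ▸ orderOf_dvd_of_pow_eq_one e1
    obtain ⟨q, rfl⟩ := (Nat.mul_dvd_mul_iff_left two_pos).1 hd
    rw [pow_mul]
    rcases q.even_or_odd with ⟨r, rfl⟩ | ⟨r, rfl⟩
    · left
      rw [← two_mul, pow_mul, ← pow_mul σ h 2, mul_comm h 2, ← d.ord, pow_orderOf_eq_one, one_pow]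
    · right
      rw [pow_succ, pow_mul, ← pow_mul σ h 2, mul_comm h 2, ← d.ord, pow_orderOf_eq_one, one_pow,
        one_mul]
  have hJt : σ ^ h * t = t * σ ^ h := (comm_J d (refl_mem d i)).symm
  set F : Finset G := {1, σ ^ h, t, σ ^ h * t} with hF
  have hmem : ∀ s, (s ∈ (P : Subgroup G) ∧ s * t = t * s) ↔ s ∈ F := by
    intro s
    simp only [hF, Finset.mem_insert, Finset.mem_singleton]
    constructor
    · rintro ⟨hs, hc⟩
      obtain ⟨j, -, rfl | rfl⟩ := cases d hs
      · rcases hrot j hc with e | e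
        · exact Or.inl e
        · exact Or.inr (Or.inl e)
      · have hc2 : Commute (σ ^ j * τ * t) t := Commute.mul_left hc (Commute.refl t)
        obtain ⟨k, -, hk | hk⟩ := cases d (mul_mem hs (refl_mem d i))
        · rw [hk] at hc2
          have hs' : σ ^ j * τ = σ ^ k * t := by
            rw [← hk, mul_assoc _ t t, refl_sq d, mul_one]
          rcases hrot k hc2 with e | e
          · exact Or.inr (Or.inr (Or.inl (by rw [hs', e, one_mul])))
          · exact Or.inr (Or.inr (Or.inr (by rw [hs', e])))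
        · exfalso
          refine refl_not_mem d k (hk ▸ ?_)
          have e : σ ^ j * τ * (σ ^ i * τ) = σ ^ j * (σ ^ i)⁻¹ := by
            have hc := conj_zpow_of_inverts d.inv (i : ℤ)
            rw [zpow_natCast, inv_eq_of_mul_eq_one_right d.sq, zpow_neg, zpow_natCast] at hc
            rw [← hc]; group
          rw [e]
          exact mul_mem (pow_mem (Subgroup.mem_zpowers σ) j)
            (inv_mem (pow_mem (Subgroup.mem_zpowers σ) i))
    · rintro (rfl | rfl | rfl | rfl)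
      · exact ⟨one_mem _, by simp⟩
      · exact ⟨pow_mem d.hσ h, hJt⟩
      · exact ⟨refl_mem d i, rfl⟩
      · exact ⟨mul_mem (pow_mem d.hσ h) (refl_mem d i), (Commute.mul_left hJt (Commute.refl t)).eq⟩
  rw [Nat.card_congr (Equiv.subtypeEquivRight hmem), Nat.card_eq_fintype_card, Fintype.card_coe, hF]
  have hJ1 : σ ^ h ≠ 1 := ne_one_of_invol (orderOf_J d)
  have ht1 : t ≠ 1 := fun e => refl_ne d i 0 (by rw [pow_zero, ← ht]; exact e)
  have htJ : t ≠ σ ^ h := refl_ne d i h
  rw [Finset.card_insert_of_notMem, Finset.card_insert_of_notMem, Finset.card_pair]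
  · simp [hJ1]
  · simp only [Finset.mem_insert, Finset.mem_singleton, not_or]
    exact ⟨Ne.symm htJ, fun e => ht1 (left_eq_mul.1 e)⟩
  · simp only [Finset.mem_insert, Finset.mem_singleton, not_or]
    refine ⟨Ne.symm hJ1, Ne.symm ht1, fun e => htJ ?_⟩
    rw [eq_comm, mul_eq_one_iff_eq_inv] at e
    rw [e, inv_eq_of_mul_eq_one_right (show t * t = 1 from refl_sq d i)]

/-- The involutions in a coset form one orbit of the core. -/
theorem fib_mul_card (d : DihData P σ τ h) (i : ℕ) :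
    fib σ τ h i * Nat.card (Subgroup.centralizer ({σ ^ h, σ ^ i * τ} : Set G)) =
      4 * Nat.card (core (σ ^ h)) := by
  classical
  set t := σ ^ i * τ with ht
  have htt : t * t = 1 := refl_sq d i
  have hti : t⁻¹ = t := inv_eq_of_mul_eq_one_right htt
  have htJ : t * σ ^ h = σ ^ h * t := comm_J d (refl_mem d i)
  set O := core (σ ^ h) with hO
  set S : Subgroup O := (Subgroup.centralizer ({t} : Set G)).subgroupOf O with hS
  -- conjugation gives the orbit
  have hmem : ∀ o : O, (o : G) * (t * (o : G)⁻¹ * t) ∈ O := fun o => by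
    refine mul_mem o.2 ?_
    have := core_conj_mem htJ (inv_mem o.2)
    rwa [hti] at this
  let f : O ⧸ S → {o : O // (o : G) * t * ((o : G) * t) = 1} :=
    Quotient.lift (fun o : O => ⟨⟨_, hmem o⟩, by
      show (o : G) * (t * (o : G)⁻¹ * t) * t * ((o : G) * (t * (o : G)⁻¹ * t) * t) = 1
      simp [mul_assoc, htt]
      rw [← mul_assoc t t, htt, one_mul, mul_inv_cancel]⟩) (fun a b hab => by
      have hm := Subgroup.mem_centralizer_singleton_iff.1
        (Subgroup.mem_subgroupOf.1 (QuotientGroup.leftRel_apply.1 hab))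
      rw [Subgroup.coe_mul, Subgroup.coe_inv] at hm
      refine Subtype.ext (Subtype.ext ?_)
      show (a : G) * (t * (a : G)⁻¹ * t) = (b : G) * (t * (b : G)⁻¹ * t)
      calc (a : G) * (t * (a : G)⁻¹ * t) = (a : G) * (t * ((a : G)⁻¹ * b) * (b : G)⁻¹ * t) := by group
        _ = _ := by rw [← hm]; group)
  have hf : Function.Bijective f := by
    refine ⟨fun p q => ?_, fun x => ?_⟩
    · induction p using QuotientGroup.induction_on with
      | H a =>
        induction q using QuotientGroup.induction_on with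
        | H b =>
          intro e
          have e' : (a : G) * (t * (a : G)⁻¹ * t) = (b : G) * (t * (b : G)⁻¹ * t) :=
            congrArg (fun z => ((z.1 : O) : G)) e
          rw [QuotientGroup.eq, hS, Subgroup.mem_subgroupOf, Subgroup.mem_centralizer_singleton_iff,
            Subgroup.coe_mul, Subgroup.coe_inv]
          simp only [← mul_assoc] at e'
          have e'' := mul_right_cancel e'
          calc (a : G)⁻¹ * b * t = (a : G)⁻¹ * ((b : G) * t * (b : G)⁻¹) * b := by group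
            _ = _ := by rw [← e'']; group
    · obtain ⟨o, ho⟩ := x
      have hodd : Odd (orderOf (t * ((o : G) * t))) := by
        rw [show t * ((o : G) * t) = t * o * t⁻¹ by rw [hti]; exact (mul_assoc _ _ _).symm, orderOf_conj,
          Nat.odd_iff]
        have := core_odd d o.2
        omega
      obtain ⟨z, hz, hzt⟩ := exists_conj_of_odd htt ho hodd
      obtain ⟨k, hk⟩ := (mem_closure_pair_iff htt ho).1 hz
      have hrO : t * ((o : G) * t) ∈ O := by
        have := core_conj_mem htJ o.2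
        rwa [hti, mul_assoc] at this
      have key : ∃ y : O, (y : G) * t * (y : G)⁻¹ = (o : G) * t := by
        rcases hk with rfl | rfl
        · exact ⟨⟨_, zpow_mem hrO k⟩, hzt⟩
        · refine ⟨⟨t * (t * ((o : G) * t)) ^ k * t⁻¹, core_conj_mem htJ (zpow_mem hrO k)⟩, ?_⟩
          refine Eq.trans ?_ hzt; group
      obtain ⟨y, hy⟩ := key
      refine ⟨QuotientGroup.mk y, Subtype.ext (Subtype.ext ?_)⟩
      show (y : G) * (t * (y : G)⁻¹ * t) = o
      rw [show (y : G) * (t * (y : G)⁻¹ * t) = (y : G) * t * (y : G)⁻¹ * t by group, hy, mul_assoc,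
        htt, mul_one]
  have hC : Nat.card (Subgroup.centralizer ({σ ^ h, t} : Set G)) = Nat.card S * 4 := by
    rw [← card_centralizer_refl d i, ← Nat.card_prod]
    symm
    refine Nat.card_eq_of_bijective (fun q => ⟨((q.1 : O) : G) * (q.2 : G), ?_⟩) ⟨?_, ?_⟩
    · refine centralizer_pair_mem.2 ⟨?_, ?_⟩
      · rw [mul_assoc, comm_J d q.2.2.1, ← mul_assoc,
          Subgroup.mem_centralizer_singleton_iff.1 (core_le _ (q.1 : O).2), mul_assoc]
      · rw [mul_assoc, q.2.2.2, ← mul_assoc,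
          Subgroup.mem_centralizer_singleton_iff.1 (Subgroup.mem_subgroupOf.1 q.1.2), mul_assoc]
    · intro q q' e
      obtain ⟨e1, e2⟩ := decomp_unique d (q.1 : O).2 (q'.1 : O).2 q.2.2.1 q'.2.2.1
        (congrArg Subtype.val e)
      exact Prod.ext (Subtype.ext (Subtype.ext e1)) (Subtype.ext e2)
    · rintro ⟨c, hc⟩
      obtain ⟨h1, h2⟩ := centralizer_pair_mem.1 hc
      obtain ⟨o, ho, s, hs, rfl⟩ := exists_decomp d h1
      have e : t * o * t⁻¹ * (t * s * t⁻¹) = o * s := by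
        rw [show t * o * t⁻¹ * (t * s * t⁻¹) = t * (o * s) * t⁻¹ by group, ← h2,
          mul_inv_cancel_right]
      obtain ⟨e1, e2⟩ := decomp_unique d (core_conj_mem htJ ho) ho
        (mul_mem (mul_mem (refl_mem d i) hs) (inv_mem (refl_mem d i))) hs e
      exact ⟨(⟨⟨o, ho⟩, Subgroup.mem_subgroupOf.2 (Subgroup.mem_centralizer_singleton_iff.2
        (mul_inv_eq_iff_eq_mul.1 e1).symm)⟩, ⟨s, hs, (mul_inv_eq_iff_eq_mul.1 e2).symm⟩), rfl⟩
  rw [fib, ← ht, ← Nat.card_eq_of_bijective f hf, hC, ← mul_assoc,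
    ← Subgroup.card_eq_card_quotient_mul_card_subgroup, mul_comm]

theorem card_centralizer_shift (d : DihData P σ τ h) (i : ℕ) :
    Nat.card (Subgroup.centralizer ({σ ^ h, σ ^ (i + 2) * τ} : Set G)) =
      Nat.card (Subgroup.centralizer ({σ ^ h, σ ^ i * τ} : Set G)) := by
  have hc := refl_conj d 1 i
  rw [mul_one, pow_one] at hc
  rw [← hc]
  symm
  refine Nat.card_congr (Equiv.subtypeEquiv (MulAut.conj σ).toEquiv fun x => ?_)
  simp only [centralizer_pair_mem, MulEquiv.toEquiv_eq_coe, MulEquiv.coe_toEquiv, MulAut.conj_apply]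
  refine and_congr ?_ (Commute.conj_iff σ).symm
  have e : σ * σ ^ h * σ⁻¹ = σ ^ h := by
    rw [(Commute.self_pow σ h).eq, mul_inv_cancel_right]
  conv_rhs => rw [← e]
  exact (Commute.conj_iff σ).symm

theorem fib_mod (d : DihData P σ τ h) (i : ℕ) : fib σ τ h i = fib σ τ h (i % 2) := by
  have hc : ∀ i, Nat.card (Subgroup.centralizer ({σ ^ h, σ ^ i * τ} : Set G)) =
      Nat.card (Subgroup.centralizer ({σ ^ h, σ ^ (i % 2) * τ} : Set G)) := fun i => by
    induction i using Nat.strong_induction_on with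
    | _ i ih =>
      rcases lt_or_ge i 2 with hi | hi
      · rw [Nat.mod_eq_of_lt hi]
      · obtain ⟨j, rfl⟩ : ∃ j, i = j + 2 := ⟨i - 2, by omega⟩
        rw [card_centralizer_shift d j, ih j (by omega), Nat.add_mod_right]
  have h1 := fib_mul_card d i
  rw [hc, ← fib_mul_card d (i % 2)] at h1
  exact Nat.eq_of_mul_eq_mul_right Nat.card_pos h1

theorem pow_in_J {l e : ℕ} (d : DihData P σ τ h) (he : σ ^ (l * e) = σ ^ h) {o : G}
    (ho : o ∈ core (σ ^ h)) :
    (σ ^ l * o) ^ (e * Nat.card (core (σ ^ h))) = σ ^ h := by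
  set C := Subgroup.centralizer ({σ ^ h} : Set G)
  set O := Cfsg.pPrimeCore 2 C
  haveI : O.Normal := CfsgLib.Solvable.pPrimeCore_normal 2 _
  obtain ⟨y, hy, rfl⟩ := ho
  set x : C := ⟨σ, le_centralizer d d.hσ⟩
  have hm : QuotientGroup.mk' O ((x ^ l * y) ^ e) = QuotientGroup.mk' O (x ^ h) := by
    have e' : x ^ (l * e) = x ^ h := Subtype.ext (by simpa using he)
    rw [map_pow, map_mul, show QuotientGroup.mk' O y = 1 from (QuotientGroup.eq_one_iff y).2 hy,
      mul_one, ← map_pow, ← pow_mul, e']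
  obtain ⟨z, hz, hze⟩ : ∃ z ∈ O, x ^ h * z = (x ^ l * y) ^ e :=
    ⟨_, QuotientGroup.eq.1 (show ((x ^ h : C) : C ⧸ O) = (((x ^ l * y) ^ e : C) : C ⧸ O) from
      hm.symm), mul_inv_cancel_left _ _⟩
  have hcard : Nat.card (core (σ ^ h)) = Nat.card O :=
    Subgroup.card_map_of_injective C.subtype_injective
  have hcomm : Commute (x ^ h) z := Subtype.ext (by
    simpa using (Subgroup.mem_centralizer_singleton_iff.1 z.2).symm)
  have hJO : (x ^ h) ^ Nat.card O = x ^ h := by
    obtain ⟨r, hr⟩ : Odd (Nat.card O) := Nat.odd_iff.2 (by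
      have h2 : ¬ 2 ∣ Nat.card O := (index_core d).2
      omega)
    have h2 : (x ^ h) ^ 2 = 1 := Subtype.ext (by
      simpa [sq] using mul_self_eq_one (orderOf_J d))
    rw [hr, pow_succ, pow_mul, h2, one_pow, one_mul]
  have hzO : z ^ Nat.card O = 1 := congrArg Subtype.val (pow_card_eq_one' (x := (⟨z, hz⟩ : O)))
  have := congrArg Subtype.val (show ((x ^ l * y) ^ e) ^ Nat.card O = x ^ h by
    rw [← hze, hcomm.mul_pow, hJO, hzO, mul_one])
  rw [hcard, pow_mul]
  simpa using this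

/-- Pairs of involutions with product in `σ ^ l O`. -/
theorem card_pairs [Fintype G] [DecidableEq G] [DecidablePred (· ∈ core (σ ^ h))]
    (d : DihData P σ τ h) {l e : ℕ} (hl : l < 2 * h) (hl0 : 0 < l)
    (he : σ ^ (l * e) = σ ^ h) :
    (Finset.univ.filter fun su : G × G => su.1 * su.1 = 1 ∧ su.1 ≠ 1 ∧ su.2 * su.2 = 1 ∧
        su.2 ≠ 1 ∧ (σ ^ l)⁻¹ * (su.1 * su.2) ∈ core (σ ^ h)).card =
      ∑ i ∈ Finset.range (2 * h), fib σ τ h (i % 2) * fib σ τ h ((i + l) % 2) := by
  classical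
  have hpowmod : ∀ n, σ ^ n = σ ^ (n % (2 * h)) := fun n => by
    rw [← d.ord, pow_mod_orderOf]
  set j : ℕ → ℕ := fun i => (i + (2 * h - l)) % (2 * h) with hj
  have hjmod : ∀ i, j i % 2 = (i + l) % 2 := fun i => by
    rw [hj]
    simp only
    rw [Nat.mod_mul_right_mod]
    omega
  have hprod : ∀ i, σ ^ i * τ * (σ ^ (j i) * τ) = σ ^ l := fun i => by
    have hc := conj_zpow_of_inverts d.inv (j i : ℤ)
    rw [zpow_natCast, inv_eq_of_mul_eq_one_right d.sq, zpow_neg, zpow_natCast] at hc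
    rw [show σ ^ i * τ * (σ ^ (j i) * τ) = σ ^ i * (τ * σ ^ (j i) * τ) by group, hc,
      mul_inv_eq_iff_eq_mul, hj]
    simp only
    rw [← hpowmod, ← pow_add, show l + (i + (2 * h - l)) = i + 2 * h by omega, pow_add, ← d.ord,
      pow_orderOf_eq_one, mul_one]
  rw [Finset.sum_congr rfl fun i _ => by rw [← fib_mod d i, ← hjmod i, ← fib_mod d (j i)],
    ← Fintype.card_subtype, ← Nat.card_eq_fintype_card,
    ← Fin.sum_univ_eq_sum_range (fun i => fib σ τ h i * fib σ τ h (j i))]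
  simp only [fib, ← Nat.card_prod]
  rw [← Nat.card_sigma]
  symm
  let g : (i : Fin (2 * h)) × ({o : core (σ ^ h) // (o : G) * (σ ^ (i : ℕ) * τ) *
      ((o : G) * (σ ^ (i : ℕ) * τ)) = 1} × {o : core (σ ^ h) // (o : G) * (σ ^ (j i) * τ) *
      ((o : G) * (σ ^ (j i) * τ)) = 1}) → {su : G × G // su.1 * su.1 = 1 ∧ su.1 ≠ 1 ∧
      su.2 * su.2 = 1 ∧ su.2 ≠ 1 ∧ (σ ^ l)⁻¹ * (su.1 * su.2) ∈ core (σ ^ h)} := fun x =>
    ⟨((x.2.1.1 : G) * (σ ^ (x.1 : ℕ) * τ), (x.2.2.1 : G) * (σ ^ (j x.1) * τ)), x.2.1.2, fun e => by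
      obtain ⟨-, e2⟩ := decomp_unique d x.2.1.1.2 (one_mem _) (refl_mem d _) (one_mem _)
        (e.trans (one_mul 1).symm)
      exact refl_ne d _ 0 (e2.trans (pow_zero σ).symm), x.2.2.2, fun e => by
      obtain ⟨-, e2⟩ := decomp_unique d x.2.2.1.2 (one_mem _) (refl_mem d _) (one_mem _)
        (e.trans (one_mul 1).symm)
      exact refl_ne d _ 0 (e2.trans (pow_zero σ).symm), by
      have hk : ∀ {o}, o ∈ core (σ ^ h) → (σ ^ l)⁻¹ * o * σ ^ l ∈ core (σ ^ h) := fun {o} ho => by
        have h2 := core_conj_mem (comm_J d (inv_mem (pow_mem d.hσ l))) ho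
        rwa [inv_inv] at h2
      have ho2 := core_conj_mem (comm_J d (refl_mem d (x.1 : ℕ))) x.2.2.1.2
      have e : (σ ^ l)⁻¹ * ((x.2.1.1 : G) * (σ ^ (x.1 : ℕ) * τ) *
          ((x.2.2.1 : G) * (σ ^ (j x.1) * τ))) = (σ ^ l)⁻¹ * ((x.2.1.1 : G) *
          (σ ^ (x.1 : ℕ) * τ * (x.2.2.1 : G) * (σ ^ (x.1 : ℕ) * τ)⁻¹)) * σ ^ l := by
        conv_rhs => arg 2; rw [← hprod x.1]
        group
      simp only
      rw [e]
      exact hk (mul_mem x.2.1.1.2 ho2)⟩
  refine Nat.card_eq_of_bijective g ⟨?_, ?_⟩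
  · rintro ⟨i, a, b⟩ ⟨i', a', b'⟩ e
    have e' := congrArg Subtype.val e
    obtain ⟨e1, e2⟩ := decomp_unique d a.1.2 a'.1.2 (refl_mem d _) (refl_mem d _) (congrArg Prod.fst e')
    obtain ⟨e3, -⟩ := decomp_unique d b.1.2 b'.1.2 (refl_mem d _) (refl_mem d _) (congrArg Prod.snd e')
    have hii : i = i' := by
      refine Fin.ext (pow_injOn_Iio_orderOf (x := σ) ?_ ?_ (mul_right_cancel e2))
      · rw [Set.mem_Iio, d.ord]; exact i.2
      · rw [Set.mem_Iio, d.ord]; exact i'.2
    subst hii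
    have h1 : a = a' := Subtype.ext (Subtype.ext e1)
    have h2 : b = b' := Subtype.ext (Subtype.ext e3)
    rw [h1, h2]
  · rintro ⟨⟨s, u⟩, hss, hs1, huu, hu1, hsu⟩
    simp only at hss hs1 huu hu1 hsu
    set r := s * u with hr
    have hrJ : r ^ (e * Nat.card (core (σ ^ h))) = σ ^ h := by
      have := pow_in_J d he hsu
      rwa [mul_inv_cancel_left] at this
    have hsJ : s * σ ^ h = σ ^ h * s := by
      have hi := conj_zpow_of_inverts (conj_prod hss huu) (e * Nat.card (core (σ ^ h)) : ℕ)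
      rw [← hr, zpow_natCast, zpow_neg, zpow_natCast, hrJ, inv_eq_self (orderOf_J d)] at hi
      exact mul_inv_eq_iff_eq_mul.1 hi
    have huJ : u * σ ^ h = σ ^ h * u := by
      have hrc : r * σ ^ h = σ ^ h * r := by rw [← hrJ, ← pow_succ, ← pow_succ']
      have : u = s * r := by rw [hr, ← mul_assoc, hss, one_mul]
      rw [this]
      exact (Commute.mul_left hsJ hrc).eq
    obtain ⟨o, ho, p, hp, rfl⟩ := exists_decomp d hsJ
    obtain ⟨o', ho', p', hp', rfl⟩ := exists_decomp d huJ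
    have hpp : p * p' = σ ^ l := by
      obtain ⟨w, hw⟩ : ∃ w ∈ core (σ ^ h), r = w * σ ^ l := by
        refine ⟨σ ^ l * ((σ ^ l)⁻¹ * r) * (σ ^ l)⁻¹, core_conj_mem (comm_J d (pow_mem d.hσ l)) hsu, ?_⟩
        group
      have e1 : r = (o * (p * o' * p⁻¹)) * (p * p') := by rw [hr]; group
      exact (decomp_unique d (mul_mem ho (core_conj_mem (comm_J d hp) ho')) hw.1
        (mul_mem hp hp') (pow_mem d.hσ l) (e1.symm.trans hw.2)).2
    have hinvol : ∀ {o p : G}, o ∈ core (σ ^ h) → p ∈ (P : Subgroup G) → o * p * (o * p) = 1 →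
        o * p ≠ 1 → p * p = 1 ∧ p ≠ 1 := by
      intro o p ho hp h2 h1
      have e2 : (o * (p * o * p⁻¹)) * (p * p) = 1 * 1 := by rw [one_mul, ← h2]; group
      refine ⟨(decomp_unique d (mul_mem ho (core_conj_mem (comm_J d hp) ho)) (one_mem _)
        (mul_mem hp hp) (one_mem _) e2).2, fun hp1 => h1 ?_⟩
      subst hp1
      rw [mul_one] at h2 ⊢
      have hd : orderOf o ∣ 2 := orderOf_dvd_of_pow_eq_one (by rw [sq]; exact h2)
      rcases (Nat.dvd_prime Nat.prime_two).1 hd with h' | h'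
      · exact orderOf_eq_one_iff.1 h'
      · exact absurd (h' ▸ dvd_rfl) (core_odd d ho)
    obtain ⟨hp2, hp1⟩ := hinvol ho hp hss hs1
    obtain ⟨hp'2, hp'1⟩ := hinvol ho' hp' huu hu1
    have hrefl : ∃ i, i < 2 * h ∧ p = σ ^ i * τ := by
      obtain ⟨i, hi, hi' | hi'⟩ := cases d hp
      · exfalso
        have hpJ : p = σ ^ h := by
          have hd : 2 * h ∣ 2 * i := d.ord ▸ orderOf_dvd_of_pow_eq_one (by
            rw [mul_comm 2 i, pow_mul, sq, ← hi', hp2])
          obtain ⟨q, rfl⟩ := (Nat.mul_dvd_mul_iff_left two_pos).1 hd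
          have : q < 2 := by nlinarith
          interval_cases q
          · simp [hi'] at hp1
          · rw [hi', mul_one]
        obtain ⟨k, hk, hk' | hk'⟩ := cases d hp'
        · have hd : 2 * h ∣ 2 * k := d.ord ▸ orderOf_dvd_of_pow_eq_one (by
            rw [mul_comm 2 k, pow_mul, sq, ← hk', hp'2])
          obtain ⟨q, rfl⟩ := (Nat.mul_dvd_mul_iff_left two_pos).1 hd
          have : q < 2 := by nlinarith
          interval_cases q
          · simp [hk'] at hp'1
          · rw [hpJ, hk', mul_one, mul_self_eq_one (orderOf_J d)] at hpp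
            have := Nat.le_of_dvd hl0 (orderOf_dvd_of_pow_eq_one hpp.symm)
            rw [d.ord] at this
            omega
        · refine refl_not_mem d k (hk' ▸ ?_)
          have : p' = p⁻¹ * σ ^ l := by rw [← hpp, inv_mul_cancel_left]
          rw [this, hpJ]
          exact mul_mem (inv_mem (pow_mem (Subgroup.mem_zpowers σ) h))
            (pow_mem (Subgroup.mem_zpowers σ) l)
      · exact ⟨i, hi, hi'⟩
    obtain ⟨i, hi, rfl⟩ := hrefl
    have hp'e : p' = σ ^ (j i) * τ := by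
      rw [← hprod i] at hpp
      exact mul_left_cancel hpp
    subst hp'e
    exact ⟨⟨⟨i, hi⟩, ⟨⟨o, ho⟩, hss⟩, ⟨⟨o', ho'⟩, huu⟩⟩, rfl⟩

theorem sum_range_mod_two (F : ℕ → ℕ) (n : ℕ) :
    ∑ i ∈ Finset.range (2 * n), F (i % 2) = n * (F 0 + F 1) := by
  induction n with
  | zero => simp
  | succ n ih =>
    rw [show 2 * (n + 1) = 2 * n + 1 + 1 by ring, Finset.sum_range_succ, Finset.sum_range_succ, ih,
      show (2 * n) % 2 = 0 by omega, show (2 * n + 1) % 2 = 1 by omega]
    ring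

theorem sum_fib_odd (m : ℕ → ℕ) (n : ℕ) {l : ℕ} (hl : Odd l) :
    ∑ i ∈ Finset.range (2 * n), m (i % 2) * m ((i + l) % 2) = n * (2 * (m 0 * m 1)) := by
  rw [Finset.sum_congr rfl (g := fun i => (fun r => m r * m ((r + 1) % 2)) (i % 2)) (fun i _ => by
    obtain ⟨c, rfl⟩ := hl
    congr 2
    omega), sum_range_mod_two (fun r => m r * m ((r + 1) % 2))]
  show n * (m 0 * m 1 + m 1 * m 0) = _
  ring

theorem sum_fib_even (m : ℕ → ℕ) (n : ℕ) {l : ℕ} (hl : Even l) :
    ∑ i ∈ Finset.range (2 * n), m (i % 2) * m ((i + l) % 2) = n * (m 0 * m 0 + m 1 * m 1) := by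
  rw [Finset.sum_congr rfl (g := fun i => (fun r => m r * m r) (i % 2)) (fun i _ => by
    obtain ⟨c, rfl⟩ := hl
    congr 2
    omega), sum_range_mod_two (fun r => m r * m r)]

end CfsgLib.Invol.DihPairs
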