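import Cfsg.Agent.Lib.DihedralEight.Simple
import Cfsg.Agent.Lib.InvChar.ElemFour
import Cfsg.Agent.Lib.Invol.KleinSylow
import Cfsg.Agent.Lib.Case.TwoNilpotent
import Cfsg.Prelude.Def_CaseTheorems

/-!
# An involution centraliser dihedral of order eight and a subgroup of index two
-/

set_option autoImplicit false

namespace CfsgLib.Invol.D8IndexTwo

open DihedralGroup
open scoped Pointwise

theorem d8_mem_of_index_two {K : Subgroup (DihedralGroup 4)} (hK : K.index = 2) : r 2 ∈ K := by
  have h := K.mul_self_mem_of_index_two hK (r 1)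
  rwa [show (r 1 : DihedralGroup 4) * r 1 = r 2 by decide] at h

variable {G : Type*} [Group G] [Finite G] {t : G}
  (e : Subgroup.centralizer ({t} : Set G) ≃* DihedralGroup 4) (ht : orderOf t = 2)

include e in
theorem card_centralizer : Nat.card (Subgroup.centralizer ({t} : Set G)) = 8 := by
  rw [Nat.card_congr e.toEquiv, DihedralGroup.nat_card]

include e ht in
theorem t_mem (H : Subgroup G) [H.Normal] (hH : H.index = 2) : t ∈ H := by
  set K := (H.subgroupOf (Subgroup.centralizer ({t} : Set G))).map e.toMonoidHom with hK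
  have hidx : K.index = (H.subgroupOf (Subgroup.centralizer ({t} : Set G))).index :=
    Subgroup.index_map_equiv _ e
  have hd : (H.subgroupOf (Subgroup.centralizer ({t} : Set G))).index ∣ 2 :=
    hH ▸ Subgroup.relIndex_dvd_index_of_normal H _
  rcases (Nat.dvd_prime Nat.prime_two).1 hd with h | h
  · exact Subgroup.mem_subgroupOf.1 (show (⟨t, Subgroup.mem_centralizer_singleton_iff.2 rfl⟩ :
      Subgroup.centralizer ({t} : Set G)) ∈ H.subgroupOf _ from (Subgroup.index_eq_one.1 h) ▸
        Subgroup.mem_top _)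
  · obtain ⟨x, hx, hxe⟩ := d8_mem_of_index_two (hidx.trans h)
    have h2 : DihedralEight.emb e (r 2) = t := DihedralEight.emb_two e ht
    have : (x : G) = t :=
      (DihedralEight.emb_apply e x.2).symm.trans ((congrArg (DihedralEight.emb e) hxe).trans h2)
    exact this ▸ hx

include e in
/-- The centraliser of an involution of order eight and a normal odd subgroup of index `8`. -/
theorem sup_core_eq_top (N : Subgroup G) [N.Normal] (hN : ¬ 2 ∣ Nat.card N) (hidx : N.index = 8) :
    Subgroup.centralizer ({t} : Set G) ⊔ Cfsg.oddCore G = ⊤ := by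
  have hle : N ≤ Cfsg.oddCore G := CfsgLib.Solvable.le_pPrimeCore (p := 2) inferInstance
    (Nat.prime_two.coprime_iff_not_dvd.2 hN).symm
  rw [← top_le_iff]
  refine le_trans (le_of_eq ?_) (sup_le_sup_left hle _)
  refine (Subgroup.eq_top_of_card_eq _ (Nat.dvd_antisymm (Subgroup.card_subgroup_dvd_card _) ?_)).symm
  rw [← N.card_mul_index, hidx]
  refine Nat.Coprime.mul_dvd_of_dvd_of_dvd ?_ (Subgroup.card_dvd_of_le le_sup_right) ?_
  · rw [show (8 : ℕ) = 2 ^ 3 by norm_num]
    exact ((Nat.prime_two.coprime_iff_not_dvd.2 hN).pow_left 3).symm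
  · rw [← card_centralizer e]
    exact Subgroup.card_dvd_of_le le_sup_left

include e ht in
/-- The Sylow 2-subgroup of the subgroup of index two. -/
theorem exists_sylow (H : Subgroup G) [H.Normal] (hH : H.index = 2) :
    ∃ U : Sylow 2 H, Nat.card (U : Subgroup H) = 4 ∧
      (U : Subgroup H) = Subgroup.centralizer ({⟨t, t_mem e ht H hH⟩} : Set H) := by
  have : Fact (Nat.Prime 2) := ⟨Nat.prime_two⟩
  set C := Subgroup.centralizer ({t} : Set G) with hC
  have htH := t_mem e ht H hH
  have hnot : ¬ C ≤ H := fun hle => by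
    have h1 := Subgroup.index_dvd_of_le hle
    rw [hH] at h1
    exact Nat.not_even_iff_odd.2 (DihedralEight.index_odd e ht) (even_iff_two_dvd.2 h1)
  set U₀ := C.subgroupOf H with hU₀
  have hU₀c : Nat.card U₀ = 4 := by
    have h1 : (H.subgroupOf C).index ∣ 2 := hH ▸ Subgroup.relIndex_dvd_index_of_normal H _
    have h2 : (H.subgroupOf C).index ≠ 1 := fun h => hnot fun x hx => by
      have := (Subgroup.index_eq_one.1 h) ▸ Subgroup.mem_top (⟨x, hx⟩ : C)
      exact Subgroup.mem_subgroupOf.1 this
    have h3 := ((Nat.dvd_prime Nat.prime_two).1 h1).resolve_left h2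
    have h4 := (H.subgroupOf C).card_mul_index
    rw [h3, card_centralizer e] at h4
    have h5 : Nat.card U₀ = Nat.card (H.subgroupOf C) :=
      Nat.card_congr ⟨fun x => ⟨⟨((x : H) : G), x.2⟩, (x : H).2⟩, fun x => ⟨⟨((x : C) : G), x.2⟩, (x : C).2⟩,
        fun _ => rfl, fun _ => rfl⟩
    omega
  have hodd : ¬ 2 ∣ U₀.index := by
    intro h2
    have hi := U₀.card_mul_index
    have hHc := H.card_mul_index
    have hCc := C.card_mul_index
    rw [hU₀c] at hi
    rw [hH] at hHc
    rw [card_centralizer e] at hCc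
    obtain ⟨q, hq⟩ := DihedralEight.index_odd e ht
    obtain ⟨r, hr⟩ := h2
    rw [hr] at hi
    rw [hC] at hCc
    omega
  obtain ⟨U, hU⟩ : ∃ U : Sylow 2 H, (U : Subgroup H) = U₀ :=
    ⟨(IsPGroup.of_card (n := 2) (by rw [hU₀c]; norm_num)).toSylow hodd, rfl⟩
  refine ⟨U, by rw [hU, hU₀c], ?_⟩
  rw [hU]
  ext x
  rw [hU₀, Subgroup.mem_subgroupOf, hC, Subgroup.mem_centralizer_singleton_iff,
    Subgroup.mem_centralizer_singleton_iff, Subtype.ext_iff]
  rfl

include e in
/-- A normal 2-complement in the subgroup of index two. -/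
theorem of_complement (H : Subgroup G) [H.Normal] (hH : H.index = 2) (U : Sylow 2 H)
    (hU : Nat.card (U : Subgroup H) = 4) {k : ℕ} (hk : (Cfsg.pPrimeCore 2 H).index = 2 ^ k) :
    Subgroup.centralizer ({t} : Set G) ⊔ Cfsg.oddCore G = ⊤ := by
  have : Fact (Nat.Prime 2) := ⟨Nat.prime_two⟩
  have hodd : ¬ 2 ∣ Nat.card (Cfsg.pPrimeCore 2 H) :=
    Nat.prime_two.coprime_iff_not_dvd.1 (CfsgLib.Solvable.pPrimeCore_card_coprime 2 H).symm
  haveI : (Cfsg.pPrimeCore 2 H).Characteristic := CfsgLib.Solvable.pPrimeCore_characteristic 2 H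
  set N := (Cfsg.pPrimeCore 2 H).map H.subtype with hN
  haveI : N.Normal := ConjAct.normal_of_characteristic_of_normal
  have hNc : Nat.card N = Nat.card (Cfsg.pPrimeCore 2 H) := by
    rw [hN, Subgroup.card_map_of_injective H.subtype_injective]
  refine sup_core_eq_top e N (hNc ▸ hodd) ?_
  have h1 := (Cfsg.pPrimeCore 2 H).card_mul_index
  have hidx : (Cfsg.pPrimeCore 2 H).index = 4 := by
    rw [← hU, hk]
    obtain ⟨m, hm⟩ := U.2.exists_card_eq
    have hcop : ∀ n e, ¬ 2 ∣ n → Nat.Coprime (2 ^ e) n := fun n e hn =>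
      (Nat.prime_two.coprime_iff_not_dvd.2 hn).pow_left e
    have h2 := (U : Subgroup H).card_mul_index
    rw [← h1, hk, hm] at h2
    have e1 : 2 ^ k ∣ 2 ^ m := (hcop _ k U.not_dvd_index).dvd_of_dvd_mul_right ⟨_, by rw [h2, mul_comm]⟩
    have e2 : 2 ^ m ∣ 2 ^ k := (hcop _ m hodd).dvd_of_dvd_mul_left ⟨_, h2.symm⟩
    rw [hm, Nat.dvd_antisymm e1 e2]
  have h3 := N.card_mul_index
  rw [← H.card_mul_index, hH, ← h1, hidx, hNc, mul_assoc] at h3
  exact Nat.eq_of_mul_eq_mul_left Nat.card_pos (h3.trans rfl)

include e ht in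
/-- A group of order 24 here is `S₄` unless it has a normal Sylow 3-subgroup. -/
theorem order_twentyfour (hG : Nat.card G = 24) :
    Subgroup.centralizer ({t} : Set G) ⊔ Cfsg.oddCore G = ⊤ ∨
      Nonempty (G ≃* Equiv.Perm (Fin 4)) := by
  have : Fact (Nat.Prime 3) := ⟨Nat.prime_three⟩
  obtain ⟨T⟩ : Nonempty (Sylow 3 G) := inferInstance
  have hT : Nat.card (T : Subgroup G) = 3 := by
    rw [Sylow.card_eq_multiplicity, hG, show (24 : ℕ) = 3 ^ 1 * 8 by norm_num,
      Nat.factorization_mul (by norm_num) (by norm_num), Finsupp.add_apply,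
      Nat.Prime.factorization_pow Nat.prime_three, Finsupp.single_eq_same,
      Nat.factorization_eq_zero_of_not_dvd (show ¬ 3 ∣ 8 by norm_num)]
    norm_num
  have hTi : (T : Subgroup G).index = 8 := by
    have h := (T : Subgroup G).card_mul_index
    rw [hT, hG] at h
    omega
  have hn : Nat.card (Sylow 3 G) = 1 ∨ Nat.card (Sylow 3 G) = 4 := by
    have hd : Nat.card (Sylow 3 G) ∣ 8 := hTi ▸ T.card_dvd_index
    have hm : Nat.card (Sylow 3 G) % 3 = 1 := card_sylow_modEq_one 3 G
    have := Nat.le_of_dvd (by norm_num) hd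
    interval_cases Nat.card (Sylow 3 G) <;> omega
  rcases hn with h | h
  · haveI := DihedralEight.normal_of_unique T h
    exact Or.inl (sup_core_eq_top e (T : Subgroup G) (by rw [hT]; norm_num) hTi)
  right
  let f := MulAction.toPermHom G (Sylow 3 G)
  have hker : f.ker = ⊥ := by
    have hle : ∀ Q : Sylow 3 G, f.ker ≤ Subgroup.normalizer ((Q : Subgroup G) : Set G) := by
      intro Q g hg
      refine (Sylow.smul_eq_iff_mem_normalizer).1 ?_
      exact DFunLike.congr_fun (MonoidHom.mem_ker.1 hg) Q
    have hNc : Nat.card (Subgroup.normalizer ((T : Subgroup G) : Set G)) = 6 := by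
      have h1 := (Subgroup.normalizer ((T : Subgroup G) : Set G)).card_mul_index
      rw [DihedralEight.index_normalizer, h, hG] at h1
      omega
    have hd : Nat.card f.ker ∣ 6 := hNc ▸ Subgroup.card_dvd_of_le (hle T)
    have h3 : ¬ 3 ∣ Nat.card f.ker := by
      intro h3
      -- every Sylow 3-subgroup would lie in the kernel
      obtain ⟨Q⟩ : Nonempty (Sylow 3 f.ker) := inferInstance
      have hQ : ∀ R : Sylow 3 G, (R : Subgroup G) ≤ f.ker := by
        obtain ⟨x, hx⟩ := exists_prime_orderOf_dvd_card' 3 h3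
        rw [← Subgroup.orderOf_coe] at hx
        obtain ⟨R₀, hR₀⟩ := (IsPGroup.of_card (G := Subgroup.zpowers (x : G)) (p := 3) (n := 1)
          (by rw [Nat.card_zpowers, hx, pow_one])).exists_le_sylow
        have hR₀e : Subgroup.zpowers (x : G) = R₀ := by
          refine Subgroup.eq_of_le_of_card_ge hR₀ ?_
          rw [Nat.card_zpowers, hx, Nat.card_congr (Sylow.equiv R₀ T).toEquiv, hT]
        intro R
        obtain ⟨g, hg⟩ := MulAction.exists_smul_eq G R₀ R
        rw [← hg]
        intro y hy
        obtain ⟨z, hz, rfl⟩ := (Subgroup.mem_map.1 hy : _)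
        rw [← hR₀e] at hz
        change MulAut.conj g z ∈ f.ker
        rw [MulAut.conj_apply]
        exact (MonoidHom.normal_ker f).conj_mem z (Subgroup.zpowers_le.2 x.2 hz) g
      obtain ⟨R, hR⟩ : ∃ R : Sylow 3 G, R ≠ T := by
        by_contra! hall
        have : Nat.card (Sylow 3 G) ≤ 1 := Finite.card_le_one_iff_subsingleton.2
          ⟨fun A B => (hall A).trans (hall B).symm⟩
        omega
      -- both lie in a normaliser where the Sylow 3-subgroup is normal
      have hle' : (R : Subgroup G) ≤ Subgroup.normalizer ((T : Subgroup G) : Set G) :=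
        (hQ R).trans (hle T)
      have hp := IsPGroup.to_sup_of_normal_right' R.2 T.2 hle'
      exact hR (Sylow.ext ((R.3 hp le_sup_left).symm.trans (T.3 hp le_sup_right)))
    rcases (show Nat.card f.ker = 1 ∨ Nat.card f.ker = 2 by
      have := Nat.le_of_dvd (by norm_num) hd
      interval_cases hc : Nat.card f.ker <;> omega) with hk | hk
    · exact Subgroup.card_eq_one.1 hk
    · exfalso
      obtain ⟨⟨w, hw⟩, hwo⟩ := exists_prime_orderOf_dvd_card' 2 (dvd_of_eq hk.symm)
      rw [Subgroup.orderOf_mk] at hwo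
      have hwc : ∀ g, g * w * g⁻¹ = w := fun g => by
        haveI : f.ker.Normal := MonoidHom.normal_ker f
        have hmem := (MonoidHom.normal_ker f).conj_mem w hw g
        have hle2 : Subgroup.zpowers w = f.ker := Subgroup.eq_of_le_of_card_ge
          (Subgroup.zpowers_le.2 hw) (by rw [Nat.card_zpowers, hwo, hk])
        rw [← hle2] at hmem
        obtain ⟨i, hi⟩ := Subgroup.mem_zpowers_iff.1 hmem
        rcases Int.even_or_odd i with ⟨j, rfl⟩ | ⟨j, rfl⟩
        · rw [zpow_add, ← (Commute.refl w).mul_zpow, CfsgLib.Invol.mul_self_eq_one hwo, one_zpow,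
            eq_comm, conj_eq_one_iff] at hi
          exact absurd hi (CfsgLib.Invol.ne_one_of_invol hwo)
        · rw [← hi, zpow_add, two_mul, zpow_add, ← (Commute.refl w).mul_zpow,
            CfsgLib.Invol.mul_self_eq_one hwo, one_zpow, one_mul, zpow_one]
      have hwt : w = t := by
        have hwC : w ∈ Subgroup.centralizer ({t} : Set G) :=
          Subgroup.mem_centralizer_singleton_iff.2 (mul_inv_eq_iff_eq_mul.1 (hwc t)).symm
        refine (DihedralEight.emb_apply e hwC).symm.trans ((congrArg _ (DihedralEight.center_d8 _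
          (fun d => ?_) fun h1 => ?_)).trans (DihedralEight.emb_two e ht))
        · obtain ⟨⟨c, hc⟩, rfl⟩ := e.surjective d
          rw [← map_mul, ← map_mul]
          exact congrArg e (Subtype.ext (mul_inv_eq_iff_eq_mul.1 (hwc c)).symm)
        · rw [map_eq_one_iff _ e.injective] at h1
          exact CfsgLib.Invol.ne_one_of_invol hwo (congrArg Subtype.val h1)
      have hle : (⊤ : Subgroup G) ≤ Subgroup.centralizer ({t} : Set G) := fun g _ =>
        Subgroup.mem_centralizer_singleton_iff.2 (hwt ▸ mul_inv_eq_iff_eq_mul.1 (hwc g))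
      have := Subgroup.card_le_of_le hle
      rw [Subgroup.card_top, hG, card_centralizer e] at this
      omega
  have hinj : Function.Injective f := (MonoidHom.ker_eq_bot_iff f).1 hker
  have eS : Sylow 3 G ≃ Fin 4 := (Finite.equivFinOfCardEq h)
  let g : G →* Equiv.Perm (Fin 4) := eS.permCongrHom.toMonoidHom.comp f
  have hg : Function.Injective g := eS.permCongrHom.injective.comp hinj
  have hb := (Nat.bijective_iff_injective_and_card g).2 ⟨hg, by
    rw [hG, Nat.card_perm, Nat.card_eq_fintype_card, Fintype.card_fin]; rfl⟩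
  exact ⟨MulEquiv.ofBijective g hb⟩

include e ht in
/-- `A₅` of index two gives `S₅`. -/
theorem order_one_twenty (H : Subgroup G) [H.Normal] (hH : H.index = 2)
    (eA : H ≃* alternatingGroup (Fin 5)) : Nonempty (G ≃* Equiv.Perm (Fin 5)) := by
  have : Fact (Nat.Prime 2) := ⟨Nat.prime_two⟩
  haveI : IsSimpleGroup H := by
    haveI := alternatingGroup.isSimpleGroup_five
    exact eA.isSimpleGroup
  have hHc : Nat.card H = 60 := by
    rw [Nat.card_congr eA.toEquiv, nat_card_alternatingGroup, Nat.card_eq_fintype_card, Fintype.card_fin]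
    rfl
  have hGc : Nat.card G = 120 := by rw [← H.card_mul_index, hH, hHc]
  obtain ⟨U, hUc, hUC⟩ := exists_sylow e ht H hH
  set N := Subgroup.normalizer ((U : Subgroup H) : Set H) with hN
  have hn : Nat.card (Sylow 2 H) = 5 := by
    have hUi : (U : Subgroup H).index = 15 := by
      have h1 := (U : Subgroup H).card_mul_index
      rw [hUc, hHc] at h1
      omega
    have hd : Nat.card (Sylow 2 H) ∣ 15 := hUi ▸ U.card_dvd_index
    have hne1 : Nat.card (Sylow 2 H) ≠ 1 := fun h => by
      rcases IsSimpleGroup.eq_bot_or_eq_top_of_normal (U : Subgroup H)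
        (DihedralEight.normal_of_unique U h) with hb | hb <;> rw [hb] at hUc
      · rw [Subgroup.card_bot] at hUc; omega
      · rw [Subgroup.card_top, hHc] at hUc; omega
    have hne3 : Nat.card (Sylow 2 H) ≠ 3 := fun h => by
      let f := MulAction.toPermHom H (Sylow 2 H)
      rcases IsSimpleGroup.eq_bot_or_eq_top_of_normal f.ker inferInstance with hb | hb
      · have := Nat.card_le_card_of_injective f ((MonoidHom.ker_eq_bot_iff f).1 hb)
        rw [Nat.card_perm, h, hHc] at this
        simp [Nat.factorial] at this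
      · apply hne1
        rw [Nat.card_eq_one_iff_unique]
        refine ⟨⟨fun P Q => ?_⟩, inferInstance⟩
        obtain ⟨g, hg⟩ := MulAction.exists_smul_eq H P Q
        have hg1 : f g = 1 := MonoidHom.mem_ker.1 (hb ▸ Subgroup.mem_top g)
        exact (DFunLike.congr_fun hg1 P).symm.trans hg
    have hne15 : Nat.card (Sylow 2 H) ≠ 15 := fun h => by
      have hNU : N = U := by
        refine (Subgroup.eq_of_le_of_card_ge Subgroup.le_normalizer ?_).symm
        have h1 := N.card_mul_index
        rw [hN, DihedralEight.index_normalizer, h, hHc] at h1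
        rw [hUc]
        omega
      refine DihedralEight.not_normalizer_le_centralizer U ?_ ?_ ?_
      · intro hb; rw [hb, Subgroup.card_bot] at hUc; omega
      · intro hb; rw [hb, Subgroup.card_top, hHc] at hUc; omega
      · rw [← hN, hNU]
        intro x hx
        refine Subgroup.mem_centralizer_iff.2 fun y hy => ?_
        exact congrArg Subtype.val
          ((IsPGroup.commutative_of_card_eq_prime_sq (p := 2) (by rw [hUc]; norm_num))
            (⟨y, hy⟩ : (U : Subgroup H)) ⟨x, hx⟩)
    have := Nat.le_of_dvd (by norm_num) hd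
    interval_cases Nat.card (Sylow 2 H) <;> omega
  -- the coset action on the normaliser
  set U' := (U : Subgroup H).map H.subtype with hU'
  set NG := Subgroup.normalizer (U' : Set G) with hNG
  have htop : NG ⊔ H = ⊤ := Sylow.normalizer_sup_eq_top U
  have hidx : NG.index = 5 := by
    have h1 : NG.subgroupOf H = N := by
      ext x
      rw [Subgroup.mem_subgroupOf, hNG, hN, hU', Subgroup.mem_normalizer_iff, Subgroup.mem_normalizer_iff]
      constructor
      · intro hx n
        rw [← Subgroup.mem_map_iff_mem H.subtype_injective (x := n), hx,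
          ← Subgroup.mem_map_iff_mem H.subtype_injective (x := x * n * x⁻¹)]
        rfl
      · intro hx n
        constructor
        · rintro ⟨m, hm, rfl⟩
          exact ⟨x * m * x⁻¹, (hx m).1 hm, rfl⟩
        · rintro ⟨m, hm, hmn⟩
          refine ⟨x⁻¹ * m * x, (hx _).2 ?_, ?_⟩
          · rwa [show x * (x⁻¹ * m * x) * x⁻¹ = m by group]
          · have : (m : G) = (x : G) * n * (x : G)⁻¹ := hmn
            simp only [Subgroup.coe_subtype, Subgroup.coe_mul, Subgroup.coe_inv, this]
            group
    have h2 : NG.relIndex H = 5 := by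
      rw [← hn, ← DihedralEight.index_normalizer U, ← hN, ← h1]
      rfl
    have h3 : H.relIndex NG = 2 := by
      rw [← Subgroup.relIndex_sup_right, htop, Subgroup.relIndex_top_right, hH]
    have h4 := Subgroup.relIndex_mul_index (inf_le_left : NG ⊓ H ≤ NG)
    have h5 := Subgroup.relIndex_mul_index (inf_le_right : NG ⊓ H ≤ H)
    rw [Subgroup.inf_relIndex_left, h3] at h4
    rw [Subgroup.inf_relIndex_right, h2, hH] at h5
    omega
  let f := MulAction.toPermHom G (G ⧸ NG)
  have hker : f.ker = ⊥ := by
    haveI : (f.ker.subgroupOf H).Normal := (MonoidHom.normal_ker f).subgroupOf H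
    have hle : f.ker ≤ NG := by
      rw [show f.ker = NG.normalCore from (Subgroup.normalCore_eq_ker NG).symm]
      exact Subgroup.normalCore_le NG
    rcases IsSimpleGroup.eq_bot_or_eq_top_of_normal (f.ker.subgroupOf H) inferInstance with hb | hb
    · rw [Subgroup.subgroupOf_eq_bot, disjoint_iff] at hb
      -- the kernel centralises `H`
      by_contra hne
      obtain ⟨w, hw, hw1⟩ := f.ker.bot_or_exists_ne_one.resolve_left hne
      have hcomm : ∀ x ∈ H, x * w = w * x := fun x hx => by
        have h1 : x * w * x⁻¹ * w⁻¹ ∈ f.ker ⊓ H := ⟨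
          mul_mem ((MonoidHom.normal_ker f).conj_mem w hw x) (f.ker.inv_mem hw), by
            have := ‹H.Normal›.conj_mem x⁻¹ (H.inv_mem hx) w
            have h2 := mul_mem hx this
            rwa [show x * (w * x⁻¹ * w⁻¹) = x * w * x⁻¹ * w⁻¹ by group] at h2⟩
        rw [hb, Subgroup.mem_bot, mul_inv_eq_one, mul_inv_eq_iff_eq_mul] at h1
        exact h1
      have hwC : w ∈ Subgroup.centralizer ({t} : Set G) :=
        Subgroup.mem_centralizer_singleton_iff.2 (hcomm t (t_mem e ht H hH)).symm
      have hwH : w ∉ H := fun h => hw1 (by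
        have : w ∈ f.ker ⊓ H := ⟨hw, h⟩
        rwa [hb, Subgroup.mem_bot] at this)
      -- it would be central in the centraliser
      have hcen : ∀ c ∈ Subgroup.centralizer ({t} : Set G), w * c = c * w := by
        intro c hc
        by_cases hcH : c ∈ H
        · exact (hcomm c hcH).symm
        · have hm : w⁻¹ * c ∈ H := (Subgroup.mul_mem_iff_of_index_two hH).2
            (iff_of_false (fun h => hwH (by simpa using H.inv_mem h)) hcH)
          have := hcomm _ hm
          rw [mul_inv_cancel_left, mul_assoc, inv_mul_eq_iff_eq_mul] at this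
          exact this.symm
      have : w = t := by
        refine (DihedralEight.emb_apply e hwC).symm.trans ((congrArg _ (DihedralEight.center_d8 _
          (fun d => ?_) fun h1 => ?_)).trans (DihedralEight.emb_two e ht))
        · obtain ⟨⟨c, hc⟩, rfl⟩ := e.surjective d
          rw [← map_mul, ← map_mul]
          exact congrArg e (Subtype.ext (hcen c hc))
        · rw [map_eq_one_iff _ e.injective] at h1
          exact hw1 (congrArg Subtype.val h1)
      exact hwH (this ▸ t_mem e ht H hH)
    · exfalso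
      rw [Subgroup.subgroupOf_eq_top] at hb
      have : (⊤ : Subgroup G) ≤ NG := htop ▸ sup_le le_rfl (hb.trans hle)
      rw [top_le_iff.1 this, Subgroup.index_top] at hidx
      omega
  have hinj : Function.Injective f := (MonoidHom.ker_eq_bot_iff f).1 hker
  have h5 : Nat.card (G ⧸ NG) = 5 := hidx
  let eS : (G ⧸ NG) ≃ Fin 5 := Finite.equivFinOfCardEq h5
  let g : G →* Equiv.Perm (Fin 5) := eS.permCongrHom.toMonoidHom.comp f
  have hb := (Nat.bijective_iff_injective_and_card g).2 ⟨eS.permCongrHom.injective.comp hinj, by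
    rw [hGc, Nat.card_perm, Nat.card_eq_fintype_card, Fintype.card_fin]; rfl⟩
  exact ⟨MulEquiv.ofBijective g hb⟩

include e ht in
/-- The case of a subgroup of index two. -/
theorem classify (H : Subgroup G) (hH : H.index = 2) :
    Subgroup.centralizer ({t} : Set G) ⊔ Cfsg.oddCore G = ⊤ ∨
      Nonempty (G ≃* Equiv.Perm (Fin 4)) ∨ Nonempty (G ≃* Equiv.Perm (Fin 5)) := by
  have : Fact (Nat.Prime 2) := ⟨Nat.prime_two⟩
  haveI := Subgroup.normal_of_index_eq_two hH
  obtain ⟨U, hUc, hUC⟩ := exists_sylow e ht H hH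
  set z : H := ⟨t, t_mem e ht H hH⟩ with hz
  have hzo : orderOf z = 2 := by rw [hz, Subgroup.orderOf_mk, ht]
  by_cases hcyc : IsCyclic (U : Subgroup H)
  · obtain ⟨k, hk⟩ := CfsgLib.Case.index_oddCore_of_cyclic (U : Subgroup H) U.2
      (Nat.odd_iff.2 (by have := U.not_dvd_index; omega)) hcyc
    exact Or.inl (of_complement e H hH U hUc hk)
  by_cases hnc : Cfsg.HasNormalPComplement 2 H
  · obtain ⟨P, N, hN, hcomp⟩ := hnc
    obtain ⟨m, hm⟩ := P.2.exists_card_eq
    obtain ⟨k, hk⟩ := CfsgLib.Case.index_oddCore_of_complement N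
      (Nat.odd_iff.2 (by
        have h1 := P.not_dvd_index
        rw [hcomp.index_eq_card] at h1
        omega)) m (by rw [hcomp.symm.index_eq_card, hm])
    exact Or.inl (of_complement e H hH U hUc hk)
  have hexp : ∀ c ∈ (U : Subgroup H), c * c = 1 := by
    intro x hx
    have hd : orderOf (⟨x, hx⟩ : (U : Subgroup H)) ∣ 2 ^ 2 := by
      rw [show (2 : ℕ) ^ 2 = 4 by norm_num, ← hUc]; exact orderOf_dvd_natCard _
    obtain ⟨i, hi, he⟩ := (Nat.dvd_prime_pow Nat.prime_two).1 hd
    rcases (show i = 2 ∨ i ≤ 1 by omega) with rfl | hi1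
    · exact absurd (isCyclic_of_orderOf_eq_card (⟨x, hx⟩ : (U : Subgroup H)) (by rw [he, hUc]; norm_num)) hcyc
    · rw [Subgroup.orderOf_mk] at he
      have : orderOf x ∣ 2 := he ▸ (pow_dvd_pow 2 hi1).trans (by norm_num)
      have h2 := orderOf_dvd_iff_pow_eq_one.1 this
      rwa [sq] at h2
  have hC4 : Nat.card (Subgroup.centralizer ({z} : Set H)) = 4 := hUC ▸ hUc
  have hCe : ∀ c ∈ Subgroup.centralizer ({z} : Set H), c ^ 2 = 1 := fun c hc => by
    rw [sq]; exact hexp c (hUC ▸ hc)
  have hK : IsKleinFour (U : Subgroup H) := by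
    refine ⟨hUc, ?_⟩
    have : Nontrivial (U : Subgroup H) := Finite.one_lt_card_iff_nontrivial.1 (by omega)
    refine ((Nat.dvd_prime Nat.prime_two).1 (Monoid.exponent_dvd_iff_forall_pow_eq_one.2 fun x => ?_)).resolve_left ?_
    · exact Subtype.ext (by rw [sq]; exact hexp x x.2)
    · rw [Monoid.exp_eq_one_iff]
      exact not_subsingleton _
  by_cases hne : ∀ E : Subgroup H, E.Normal → Cfsg.IsElementaryAbelian 2 E →
      Nat.card E ≠ 2 ∧ Nat.card E ≠ 4
  · obtain ⟨eA⟩ := CfsgLib.InvChar.ElemFour.main z hzo hC4 hCe hnc hne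
    exact Or.inr (Or.inr (order_one_twenty e ht H hH eA))
  push Not at hne
  obtain ⟨E, hEn, hEe, hE24⟩ := hne
  have hone : ∀ s : H, orderOf s = 2 → IsConj z s := by
    rcases klein_sylow_dichotomy U hK with ⟨hN, -⟩ | ⟨-, h1⟩
    · exfalso
      refine hnc ⟨U, (MonoidHom.transferSylow U hN).ker, inferInstance, ?_⟩
      exact MonoidHom.ker_transferSylow_isComplement' U hN
    · intro s hs
      rw [Nat.card_eq_one_iff_unique] at h1
      exact ConjClasses.mk_eq_mk_iff_isConj.1
        (congrArg Subtype.val (h1.1.elim ⟨_, z, hzo, rfl⟩ ⟨_, s, hs, rfl⟩))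
  by_cases hE2 : Nat.card E = 2
  · -- a central involution
    obtain ⟨⟨u, huE⟩, huo⟩ := exists_prime_orderOf_dvd_card' 2 (dvd_of_eq hE2.symm)
    rw [Subgroup.orderOf_mk] at huo
    have hEu : Subgroup.zpowers u = E := Subgroup.eq_of_le_of_card_ge (Subgroup.zpowers_le.2 huE)
      (by rw [Nat.card_zpowers, huo, hE2])
    have hcen : ∀ g : H, g * u = u * g := fun g => by
      have hmem := hEn.conj_mem u huE g
      rw [← hEu] at hmem
      obtain ⟨i, hi⟩ := Subgroup.mem_zpowers_iff.1 hmem
      rcases Int.even_or_odd i with ⟨j, rfl⟩ | ⟨j, rfl⟩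
      · rw [zpow_add, ← (Commute.refl u).mul_zpow, CfsgLib.Invol.mul_self_eq_one huo, one_zpow,
          eq_comm, conj_eq_one_iff] at hi
        exact absurd hi (CfsgLib.Invol.ne_one_of_invol huo)
      · refine mul_inv_eq_iff_eq_mul.1 (hi.symm.trans ?_)
        rw [zpow_add, two_mul, zpow_add, ← (Commute.refl u).mul_zpow,
          CfsgLib.Invol.mul_self_eq_one huo, one_zpow, one_mul, zpow_one]
    have huz : u = z := by
      obtain ⟨g, hg⟩ := isConj_iff.1 (hone u huo).symm
      rw [← hg, hcen g, mul_inv_cancel_right]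
    have htop : Subgroup.centralizer ({z} : Set H) = ⊤ :=
      eq_top_iff.2 fun g _ => Subgroup.mem_centralizer_singleton_iff.2 (huz ▸ hcen g)
    have hHc : Nat.card H = 4 := by rw [← Subgroup.card_top (G := H), ← htop, hC4]
    left
    have htopC : Subgroup.centralizer ({t} : Set G) = ⊤ := Subgroup.eq_top_of_card_eq _ (by
      rw [card_centralizer e, ← H.card_mul_index, hH, hHc])
    rw [htopC, top_sup_eq]
  · have hE4 : Nat.card E = 4 := by
      by_contra h
      exact h (hE24 hE2)
    have hEU : E = U := by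
      have hp : IsPGroup 2 E := IsPGroup.of_card (n := 2) (by rw [hE4]; norm_num)
      obtain ⟨Q, hQ⟩ := hp.exists_le_sylow
      obtain ⟨g, hg⟩ := MulAction.exists_smul_eq H Q U
      refine Subgroup.eq_of_le_of_card_ge ?_ (by rw [hE4, hUc])
      intro x hx
      rw [← hg]
      have h2 : g⁻¹ * x * g ∈ E := by simpa using hEn.conj_mem x hx g⁻¹
      have := Subgroup.smul_mem_pointwise_smul _ (MulAut.conj g) (Q : Subgroup H) (hQ h2)
      change x ∈ MulAut.conj g • (Q : Subgroup H)
      simpa [mul_assoc] using this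
    -- `H` permutes the three involutions of `E`
    haveI := hEn
    let f : H →* MulAut E := MulAut.conjNormal
    let r : MulAut E →* Equiv.Perm {x : E // x ≠ 1} :=
      { toFun := fun a => a.toEquiv.subtypeEquiv fun x => by simp
        map_one' := rfl
        map_mul' := fun _ _ => rfl }
    have hker : (r.comp f).ker ≤ (U : Subgroup H) := by
      intro x hx
      rw [hUC, Subgroup.mem_centralizer_singleton_iff, ← mul_inv_eq_iff_eq_mul]
      have hzE : z ∈ E := by
        rw [hEU, hUC]; exact Subgroup.mem_centralizer_singleton_iff.2 rfl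
      have h1 := DFunLike.congr_fun (MonoidHom.mem_ker.1 hx)
        (⟨⟨z, hzE⟩, fun h => CfsgLib.Invol.ne_one_of_invol hzo (congrArg Subtype.val h)⟩ :
          {x : E // x ≠ 1})
      have h2 := congrArg (fun w => ((w.1 : E) : H)) h1
      simpa [r, f] using h2
    have h6 : Nat.card (Equiv.Perm {x : E // x ≠ 1}) = 6 := by
      rw [Nat.card_perm]
      have h3 : Nat.card {x : E // x ≠ 1} = 3 := by
        classical
        have := Fintype.ofFinite E
        rw [Nat.card_eq_fintype_card, Fintype.card_subtype_compl, Fintype.card_subtype_eq,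
          ← Nat.card_eq_fintype_card, hE4]
      rw [h3]; rfl
    have hdiv : (U : Subgroup H).index ∣ 6 := by
      refine (Subgroup.index_dvd_of_le hker).trans ?_
      rw [Subgroup.index_ker, ← h6]
      exact Subgroup.card_subgroup_dvd_card _
    have hi : (U : Subgroup H).index = 1 ∨ (U : Subgroup H).index = 3 := by
      have h1 := U.not_dvd_index
      have := Nat.le_of_dvd (by norm_num) hdiv
      interval_cases (U : Subgroup H).index <;> omega
    have hGc : Nat.card G = 8 * (U : Subgroup H).index := by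
      rw [← H.card_mul_index, hH, ← (U : Subgroup H).card_mul_index, hUc]; ring
    rcases hi with hi | hi
    · left
      have htopC : Subgroup.centralizer ({t} : Set G) = ⊤ := Subgroup.eq_top_of_card_eq _ (by
        rw [card_centralizer e, hGc, hi])
      rw [htopC, top_sup_eq]
    · rcases order_twentyfour e ht (by rw [hGc, hi]) with h | h
      · exact Or.inl h
      · exact Or.inr (Or.inl h)

end CfsgLib.Invol.D8IndexTwo
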