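import Cfsg.Agent.Lib.Invol.SectionAverage
import Cfsg.Agent.Lib.Case.TwoNilpotent
import Mathlib.GroupTheory.Complement

/-!
# Pairs of involutions with product in a coset of the core of an involution centraliser

`P = ⟨σ, τ⟩` is a dihedral (or four) Sylow 2-subgroup of order `4h`, `σ` has order `2h` and
`J = σ ^ h`.  The pairs of involutions with product in `σ ^ l O(C(J))` are counted by the
centralisers of `⟨J, τ⟩` and `⟨J, στ⟩`, and by the principal block.
-/

set_option autoImplicit false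

open scoped ComplexConjugate

namespace CfsgLib.Invol.DihPairs

universe u

variable {G : Type u} [Group G]

/-- A dihedral Sylow 2-subgroup with its generators. -/
structure DihData (P : Sylow 2 G) (σ τ : G) (h : ℕ) : Prop where
  hσ : σ ∈ (P : Subgroup G)
  hτ : τ ∈ (P : Subgroup G)
  ord : orderOf σ = 2 * h
  card : Nat.card (P : Subgroup G) = 4 * h
  inv : τ * σ * τ⁻¹ = σ⁻¹
  sq : τ * τ = 1
  not_mem : τ ∉ Subgroup.zpowers σ
  pos : 0 < h

/-- The odd core of the centraliser of `J`, as a subgroup of `G`. -/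
def core (J : G) : Subgroup G :=
  (Cfsg.pPrimeCore 2 (Subgroup.centralizer ({J} : Set G))).map
    (Subgroup.centralizer ({J} : Set G)).subtype

theorem core_le (J : G) : core J ≤ Subgroup.centralizer ({J} : Set G) := fun x hx => by
  obtain ⟨y, -, rfl⟩ := hx
  exact y.2

theorem core_conj_mem [Finite G] {J c o : G} (hc : c * J = J * c) (ho : o ∈ core J) :
    c * o * c⁻¹ ∈ core J := by
  obtain ⟨y, hy, rfl⟩ := ho
  exact ⟨⟨c, Subgroup.mem_centralizer_singleton_iff.2 hc⟩ * y *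
    ⟨c, Subgroup.mem_centralizer_singleton_iff.2 hc⟩⁻¹,
    (CfsgLib.Solvable.pPrimeCore_normal 2 _).conj_mem y hy _, rfl⟩

variable {P : Sylow 2 G} {σ τ : G} {h : ℕ}

/-- The reflection `σ ^ i τ`. -/
theorem refl_sq (d : DihData P σ τ h) (i : ℕ) : σ ^ i * τ * (σ ^ i * τ) = 1 := by
  have hc := conj_zpow_of_inverts d.inv (i : ℤ)
  rw [zpow_natCast, inv_eq_of_mul_eq_one_right d.sq, zpow_neg, zpow_natCast] at hc
  calc σ ^ i * τ * (σ ^ i * τ) = σ ^ i * (τ * σ ^ i * τ) := by group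
    _ = 1 := by rw [hc, mul_inv_cancel]

theorem refl_not_mem (d : DihData P σ τ h) (i : ℕ) : σ ^ i * τ ∉ Subgroup.zpowers σ := fun hm =>
  d.not_mem (by simpa using mul_mem (inv_mem (pow_mem (Subgroup.mem_zpowers σ) i)) hm)

theorem refl_conj (d : DihData P σ τ h) (a i : ℕ) :
    σ ^ a * (σ ^ i * τ) * (σ ^ a)⁻¹ = σ ^ (i + 2 * a) * τ := by
  have hc := conj_zpow_of_inverts d.inv (-(a : ℤ))
  rw [inv_eq_of_mul_eq_one_right d.sq, zpow_neg, zpow_natCast, neg_neg, zpow_natCast] at hc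
  calc σ ^ a * (σ ^ i * τ) * (σ ^ a)⁻¹ = σ ^ a * σ ^ i * (τ * (σ ^ a)⁻¹ * τ) * τ⁻¹ := by group
    _ = _ := by
      rw [hc, inv_eq_of_mul_eq_one_right d.sq, two_mul, mul_assoc (σ ^ a * σ ^ i), ← mul_assoc,
        ← pow_add, ← pow_add]
      congr 2; omega

theorem orderOf_J (d : DihData P σ τ h) : orderOf (σ ^ h) = 2 := by
  rw [orderOf_pow' σ d.pos.ne', d.ord, Nat.gcd_mul_left_left,
    Nat.mul_div_cancel _ d.pos]

theorem cases [Finite G] (d : DihData P σ τ h) {s : G} (hs : s ∈ (P : Subgroup G)) :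
    ∃ i, i < 2 * h ∧ (s = σ ^ i ∨ s = σ ^ i * τ) := by
  classical
  have hpow : ∀ y ∈ Subgroup.zpowers σ, ∃ i, i < 2 * h ∧ y = σ ^ i := fun y hy => by
    obtain ⟨j, hj⟩ := (isOfFinOrder_of_finite σ).mem_powers_iff_mem_zpowers.2 hy
    refine ⟨j % (2 * h), Nat.mod_lt _ (by have := d.pos; omega), ?_⟩
    rw [← hj, ← d.ord, pow_mod_orderOf]
  have hle : Subgroup.zpowers σ ≤ (P : Subgroup G) := Subgroup.zpowers_le.2 d.hσ
  have hidx : ((Subgroup.zpowers σ).subgroupOf (P : Subgroup G)).index = 2 := by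
    have h1 := ((Subgroup.zpowers σ).subgroupOf (P : Subgroup G)).card_mul_index
    rw [Nat.card_congr (Subgroup.subgroupOfEquivOfLe hle).toEquiv, Nat.card_zpowers, d.ord,
      d.card] at h1
    have := d.pos
    nlinarith
  by_cases hsσ : s ∈ Subgroup.zpowers σ
  · obtain ⟨i, hi, rfl⟩ := hpow s hsσ
    exact ⟨i, hi, Or.inl rfl⟩
  · have hm := (Subgroup.mul_mem_iff_of_index_two hidx (a := ⟨s, hs⟩) (b := ⟨τ, d.hτ⟩)).2
      (iff_of_false (fun h => hsσ (Subgroup.mem_subgroupOf.1 h))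
        (fun h => d.not_mem (Subgroup.mem_subgroupOf.1 h)))
    obtain ⟨i, hi, he⟩ := hpow (s * τ) (Subgroup.mem_subgroupOf.1 hm)
    exact ⟨i, hi, Or.inr (by rw [← he, mul_assoc, d.sq, mul_one])⟩

theorem comm_J [Finite G] (d : DihData P σ τ h) {s : G} (hs : s ∈ (P : Subgroup G)) :
    s * σ ^ h = σ ^ h * s := by
  have ht : Commute τ (σ ^ h) := by
    have hc := conj_zpow_of_inverts d.inv (h : ℤ)
    rw [zpow_natCast, zpow_neg, zpow_natCast, inv_eq_self (orderOf_J d),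
      mul_inv_eq_iff_eq_mul] at hc
    exact hc
  obtain ⟨i, -, rfl | rfl⟩ := cases d hs
  · exact (Commute.pow_pow_self σ i h).eq
  · exact ((Commute.pow_pow_self σ i h).mul_left ht).eq

theorem le_centralizer [Finite G] (d : DihData P σ τ h) :
    (P : Subgroup G) ≤ Subgroup.centralizer ({σ ^ h} : Set G) := fun _ hs =>
  Subgroup.mem_centralizer_singleton_iff.2 (comm_J d hs)

theorem index_core [Finite G] (d : DihData P σ τ h) :
    (Cfsg.pPrimeCore 2 (Subgroup.centralizer ({σ ^ h} : Set G))).index = 4 * h ∧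
      ¬ 2 ∣ Nat.card (Cfsg.pPrimeCore 2 (Subgroup.centralizer ({σ ^ h} : Set G))) := by
  have : Fact (Nat.Prime 2) := ⟨Nat.prime_two⟩
  set C := Subgroup.centralizer ({σ ^ h} : Set G)
  set T : Sylow 2 C := P.subtype (le_centralizer d) with hT
  have hTc : Nat.card (T : Subgroup C) = 4 * h := by
    rw [← d.card]
    exact Nat.card_congr (Subgroup.subgroupOfEquivOfLe (le_centralizer d)).toEquiv
  have hσC : σ ∈ C := le_centralizer d d.hσ
  set K : Subgroup C := Subgroup.zpowers ⟨σ, hσC⟩ with hK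
  have hKT : K ≤ T := Subgroup.zpowers_le.2 d.hσ
  have hKc : Nat.card K = 2 * h := by rw [hK, Nat.card_zpowers, Subgroup.orderOf_mk, d.ord]
  obtain ⟨l, hl⟩ := CfsgLib.Case.index_oddCore_of_central_involution _ C rfl T K
    (⟨σ, hσC⟩ ^ h) T.2 (Nat.odd_iff.2 (by have := T.not_dvd_index; omega)) hKT (by
      have h1 := (K.subgroupOf (T : Subgroup C)).card_mul_index
      rw [Nat.card_congr (Subgroup.subgroupOfEquivOfLe hKT).toEquiv, hKc, hTc] at h1
      change (K.subgroupOf (T : Subgroup C)).index = 2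
      have := d.pos
      nlinarith)
    (hK ▸ inferInstance) (pow_mem (Subgroup.mem_zpowers _) h)
    (by rw [← Subgroup.orderOf_coe, Subgroup.coe_pow, orderOf_J d])
    (fun c => Subtype.ext (Subgroup.mem_centralizer_singleton_iff.1 c.2))
    (fun x hx hxK => by
      obtain ⟨i, -, hi | hi⟩ := cases d (show (x : G) ∈ (P : Subgroup G) from hx)
      · exact absurd (Subgroup.mem_zpowers_iff.2 ⟨(i : ℤ), Subtype.ext (by simp [hi])⟩) hxK
      · exact Subtype.ext (by rw [Subgroup.coe_mul, hi, refl_sq d, Subgroup.coe_one]))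
  have hodd : ¬ 2 ∣ Nat.card (Cfsg.pPrimeCore 2 C) :=
    Nat.prime_two.coprime_iff_not_dvd.1 (CfsgLib.Solvable.pPrimeCore_card_coprime 2 C).symm
  refine ⟨?_, hodd⟩
  obtain ⟨m, hm⟩ := T.2.exists_card_eq
  have h1 := (Cfsg.pPrimeCore 2 C).card_mul_index
  rw [hl, ← (T : Subgroup C).card_mul_index, hm] at h1
  have hcop : ∀ n e, ¬ 2 ∣ n → Nat.Coprime (2 ^ e) n := fun n e hn =>
    (Nat.prime_two.coprime_iff_not_dvd.2 hn).pow_left e
  have e1 : 2 ^ l ∣ 2 ^ m := (hcop _ l T.not_dvd_index).dvd_of_dvd_mul_right ⟨_, by rw [← h1, mul_comm]⟩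
  have e2 : 2 ^ m ∣ 2 ^ l := (hcop _ m hodd).dvd_of_dvd_mul_left ⟨_, h1⟩
  rw [hl, ← hTc, hm, Nat.dvd_antisymm e1 e2]

theorem core_odd [Finite G] (d : DihData P σ τ h) {o : G} (ho : o ∈ core (σ ^ h)) :
    ¬ 2 ∣ orderOf o := by
  obtain ⟨y, hy, rfl⟩ := ho
  intro h2
  rw [Subgroup.coe_subtype, Subgroup.orderOf_coe, ← Subgroup.orderOf_mk y hy] at h2
  exact (index_core d).2 (h2.trans (orderOf_dvd_natCard _))

theorem eq_one_of_core_of_sylow [Finite G] (d : DihData P σ τ h) {o : G}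
    (ho : o ∈ core (σ ^ h)) (hs : o ∈ (P : Subgroup G)) : o = 1 := by
  have : Fact (Nat.Prime 2) := ⟨Nat.prime_two⟩
  obtain ⟨k, hk⟩ := IsPGroup.iff_orderOf.1 P.2 ⟨o, hs⟩
  rw [Subgroup.orderOf_mk] at hk
  rcases Nat.eq_zero_or_pos k with rfl | hk0
  · exact orderOf_eq_one_iff.1 (by rw [hk, pow_zero])
  · exact absurd (hk ▸ dvd_pow_self 2 (by omega)) (core_odd d ho)

theorem exists_decomp [Finite G] (d : DihData P σ τ h) {c : G}
    (hc : c * σ ^ h = σ ^ h * c) :
    ∃ o ∈ core (σ ^ h), ∃ s ∈ (P : Subgroup G), c = o * s := by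
  set C := Subgroup.centralizer ({σ ^ h} : Set G)
  have hcomp : Subgroup.IsComplement' (Cfsg.pPrimeCore 2 C)
      ((P : Subgroup G).subgroupOf C) := by
    refine Subgroup.isComplement'_of_coprime ?_ ?_
    · rw [Nat.card_congr (Subgroup.subgroupOfEquivOfLe (le_centralizer d)).toEquiv, d.card,
        ← (index_core d).1, Subgroup.card_mul_index]
    · rw [Nat.card_congr (Subgroup.subgroupOfEquivOfLe (le_centralizer d)).toEquiv]
      obtain ⟨m, hm⟩ := P.2.exists_card_eq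
      rw [hm]
      exact ((Nat.prime_two.coprime_iff_not_dvd.2 (index_core d).2).pow_left m).symm
  obtain ⟨⟨o, s⟩, hos⟩ := hcomp.2 (⟨c, Subgroup.mem_centralizer_singleton_iff.2 hc⟩ : C)
  exact ⟨_, ⟨o, o.2, rfl⟩, ((s : C) : G), s.2, (congrArg Subtype.val hos).symm⟩

theorem decomp_unique [Finite G] (d : DihData P σ τ h) {o o' s s' : G}
    (ho : o ∈ core (σ ^ h)) (ho' : o' ∈ core (σ ^ h)) (hs : s ∈ (P : Subgroup G))
    (hs' : s' ∈ (P : Subgroup G)) (he : o * s = o' * s') : o = o' ∧ s = s' := by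
  have e : o'⁻¹ * o = s' * s⁻¹ := by
    rw [eq_mul_inv_iff_mul_eq, mul_assoc, he, inv_mul_cancel_left]
  have h1 := eq_one_of_core_of_sylow d (mul_mem (inv_mem ho') ho) (e ▸ mul_mem hs' (inv_mem hs))
  have : o = o' := by rw [inv_mul_eq_one] at h1; exact h1.symm
  exact ⟨this, mul_left_cancel (this ▸ he)⟩

end CfsgLib.Invol.DihPairs
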