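import Cfsg.Agent.Lib.Invol.QuaternionSylow
import Cfsg.Agent.Lib.Blocks.QuaternionEight
import Cfsg.Agent.Lib.Char.Basic
import Cfsg.Prelude.Def_Blocks
import Mathlib.GroupTheory.SpecificGroups.KleinFour
import Mathlib.GroupTheory.QuotientGroup.Basic

/-!
# Group-theoretic facts for quaternion Sylow 2-subgroups of order eight
-/

set_option autoImplicit false

open scoped ComplexConjugate

namespace CfsgLib.Invol.Q8Facts

theorem quat_pow_four : ∀ q : QuaternionGroup 2, q * q * q * q = 1 := by decide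

theorem quat_sq : ∀ q : QuaternionGroup 2, q * q = 1 ∨ q * q = QuaternionGroup.a 2 := by decide

theorem quat_inverter : ∀ q : QuaternionGroup 2, ∃ t, t * q * t⁻¹ = q⁻¹ := by decide

theorem quat_exists_four : ∃ q : QuaternionGroup 2, q * q ≠ 1 := by decide

theorem quat_four : ∀ q w : QuaternionGroup 2, q * q ≠ 1 → w * w ≠ 1 →
    (w = q ∨ w = q * q ∨ w = q * q * q ∨ w = 1) → w = q ∨ w = q⁻¹ := by decide

universe u

variable {G : Type u} [Group G] [Finite G] (S : Sylow 2 G)
  (e : (S : Subgroup G) ≃* QuaternionGroup 2) {z : G} (hz : z ∈ S) (hz2 : orderOf z = 2)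

include e hz hz2 in
/-- Elements of order four of `S` square to `z`, and `S` centralises `z`. -/
theorem sylow_facts : (∀ s : G, s ∈ S → s * s = 1 ∨ s * s = z) ∧
    (∀ s : G, s ∈ S → s * z = z * s) ∧ (∀ s : G, s ∈ S → s * s * s * s = 1) ∧
    (∀ s : G, s ∈ S → ∃ t : G, t ∈ S ∧ t * s * t⁻¹ = s⁻¹) ∧
    ∃ u : G, u ∈ S ∧ orderOf u = 4 ∧ u * u = z := by
  obtain ⟨-, huniq⟩ := QuatSylow.exists_unique_of_quaternion S e
  have h4 : ∀ s : G, s ∈ S → s * s * s * s = 1 := fun s hs => by
    have h := e.injective (a₁ := (⟨s, hs⟩ : (S : Subgroup G)) * ⟨s, hs⟩ * ⟨s, hs⟩ * ⟨s, hs⟩)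
      (a₂ := 1) (by simp only [map_mul, map_one]; exact quat_pow_four _)
    exact congrArg Subtype.val h
  have hsq : ∀ s : G, s ∈ S → s * s = 1 ∨ s * s = z := fun s hs => by
    by_cases h : s * s = 1
    · exact Or.inl h
    · refine Or.inr (huniq _ _ (Subgroup.mul_mem _ hs hs) hz (orderOf_eq_two h ?_) hz2)
      rw [← mul_assoc]; exact h4 s hs
  refine ⟨hsq, fun s hs => ?_, h4, fun s hs => ?_, ?_⟩
  · have hc := huniq (s * z * s⁻¹) z (Subgroup.mul_mem _ (Subgroup.mul_mem _ hs hz)
      (Subgroup.inv_mem _ hs)) hz (by rw [orderOf_conj, hz2]) hz2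
    exact mul_inv_eq_iff_eq_mul.1 hc
  · obtain ⟨t, ht⟩ := quat_inverter (e ⟨s, hs⟩)
    refine ⟨(e.symm t : (S : Subgroup G)), SetLike.coe_mem _, ?_⟩
    have h : e.symm t * ⟨s, hs⟩ * (e.symm t)⁻¹ = (⟨s, hs⟩ : (S : Subgroup G))⁻¹ :=
      e.injective (by simpa using ht)
    exact congrArg Subtype.val h
  · obtain ⟨q, hq⟩ := quat_exists_four
    set u : G := ((e.symm q : (S : Subgroup G)) : G) with hu
    have huS : u ∈ S := SetLike.coe_mem _
    have hne : u * u ≠ 1 := fun h => hq (by
      have h' : (e.symm q : (S : Subgroup G)) * e.symm q = 1 := Subtype.ext h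
      rw [← map_mul, ← map_one e.symm] at h'
      exact e.symm.injective h')
    refine ⟨u, huS, ?_, (hsq u huS).resolve_left hne⟩
    have := orderOf_eq_prime_pow (p := 2) (n := 1) (x := u) (by simpa [sq] using hne)
      (by rw [show (2 : ℕ) ^ (1 + 1) = 4 from rfl]; simpa [pow_succ] using h4 u huS)
    simpa using this

include e hz hz2 in
/-- A 2-element has order dividing four, and a Sylow 2-subgroup containing `S` is `S`. -/
theorem exists_conj_mem {H : Subgroup G} (hSH : (S : Subgroup G) ≤ H) {w : G} (hw : w ∈ H)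
    (hw2 : ∃ k : ℕ, orderOf w = 2 ^ k) : ∃ c ∈ H, c * w * c⁻¹ ∈ S := by
  have : Fact (Nat.Prime 2) := ⟨Nat.prime_two⟩
  obtain ⟨k, hk⟩ := hw2
  obtain ⟨T, hT⟩ := (IsPGroup.of_card (G := Subgroup.zpowers (⟨w, hw⟩ : H)) (p := 2) (n := k)
    (by rw [Nat.card_zpowers, Subgroup.orderOf_mk, hk])).exists_le_sylow
  obtain ⟨c, hc⟩ := MulAction.exists_smul_eq H T (S.subtype hSH)
  refine ⟨c, c.2, ?_⟩
  have h : c * ⟨w, hw⟩ * c⁻¹ ∈ (S.subtype hSH : Subgroup H) := by
    rw [← hc]
    exact (Subgroup.smul_mem_pointwise_smul_iff (a := MulAut.conj c) (x := (⟨w, hw⟩ : H))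
      (S := (T : Subgroup H))).2 (hT (Subgroup.mem_zpowers _))
  exact h

include e hz hz2 in
/-- Without a normal complement, the elements of order four of `C(z)` are conjugate in it. -/
theorem isConj_order_four
    (hnc : ∀ N : Subgroup G, N.Normal → ¬ Subgroup.IsComplement' N (S : Subgroup G))
    {u w : G} (hu : u ∈ S) (hu4 : orderOf u = 4) (hw : w ∈ Subgroup.centralizer ({z} : Set G))
    (hw4 : orderOf w = 4) : ∃ c ∈ Subgroup.centralizer ({z} : Set G), c * u * c⁻¹ = w := by
  classical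
  obtain ⟨hsq, hcz, -, hinvert, -⟩ := sylow_facts S e hz hz2
  obtain ⟨-, huniq⟩ := QuatSylow.exists_unique_of_quaternion S e
  have hSC : (S : Subgroup G) ≤ Subgroup.centralizer ({z} : Set G) := fun s hs =>
    Subgroup.mem_centralizer_singleton_iff.2 (hcz s hs)
  obtain ⟨c, hcC, hc⟩ := exists_conj_mem S e hz hz2 hSC hw ⟨2, hw4⟩
  obtain ⟨n, hn, hnu⟩ := CfsgLib.Blocks.QuaternionEight.conj_subgroups_of_order_four S e hnc
    (Subgroup.zpowers u) (Subgroup.zpowers (c * w * c⁻¹))
    (Subgroup.zpowers_le.2 hu) (Subgroup.zpowers_le.2 hc) (by rw [Nat.card_zpowers, hu4])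
    (by rw [Nat.card_zpowers, orderOf_conj, hw4])
  have hnC : n ∈ Subgroup.centralizer ({z} : Set G) := by
    rw [Subgroup.mem_centralizer_singleton_iff]
    exact mul_inv_eq_iff_eq_mul.1 (huniq _ z ((Subgroup.mem_normalizer_iff.1 hn z).1 hz) hz
      (by rw [orderOf_conj, hz2]) hz2)
  set v := n * u * n⁻¹ with hv
  set s := c * w * c⁻¹ with hs
  have hvs : v ∈ Subgroup.zpowers s := by
    rw [hnu]; exact ⟨u, Subgroup.mem_zpowers u, rfl⟩
  have hv4 : orderOf v = 4 := by rw [hv, orderOf_conj, hu4]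
  have hs4 : orderOf s = 4 := by rw [hs, orderOf_conj, hw4]
  have hcase : v = s ∨ v = s⁻¹ := by
    obtain ⟨i, hi, hie⟩ := Finset.mem_image.1 ((mem_zpowers_iff_mem_range_orderOf (x := s)).1 hvs)
    rw [Finset.mem_range, hs4] at hi
    interval_cases i
    · simp only [pow_zero] at hie
      rw [← hie, orderOf_one] at hv4
      omega
    · exact Or.inl (by simpa using hie.symm)
    · exfalso
      rw [← hie, orderOf_pow, hs4] at hv4
      norm_num at hv4
    · refine Or.inr ?_
      rw [← hie]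
      apply eq_inv_of_mul_eq_one_left
      rw [← pow_succ, show (3 : ℕ) + 1 = orderOf s by omega, pow_orderOf_eq_one]
  rcases hcase with h | h
  · refine ⟨c⁻¹ * n, Subgroup.mul_mem _ (Subgroup.inv_mem _ hcC) hnC, ?_⟩
    calc c⁻¹ * n * u * (c⁻¹ * n)⁻¹ = c⁻¹ * v * c := by rw [hv]; group
      _ = w := by rw [h, hs]; group
  · obtain ⟨t, ht, hts⟩ := hinvert s hc
    refine ⟨c⁻¹ * t⁻¹ * n, Subgroup.mul_mem _ (Subgroup.mul_mem _ (Subgroup.inv_mem _ hcC)
      (Subgroup.inv_mem _ (hSC ht))) hnC, ?_⟩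
    calc c⁻¹ * t⁻¹ * n * u * (c⁻¹ * t⁻¹ * n)⁻¹ = c⁻¹ * (t⁻¹ * v * t) * c := by rw [hv]; group
      _ = c⁻¹ * s * c := by rw [h, ← hts]; group
      _ = w := by rw [hs]; group

include e hz hz2 in
/-- The centraliser of an element of order four has a normal 2-complement of index four. -/
theorem exists_complement_four {u : G} (hu : u ∈ S) (hu4 : orderOf u = 4) :
    ∃ N : Subgroup (Subgroup.centralizer ({u} : Set G)),
      N.Normal ∧ ¬ 2 ∣ Nat.card N ∧ N.index = 2 ^ 2 := by
  classical
  have : Fact (Nat.Prime 2) := ⟨Nat.prime_two⟩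
  have huC : u ∈ Subgroup.centralizer ({u} : Set G) := Subgroup.mem_centralizer_singleton_iff.2 rfl
  set g : Subgroup.centralizer ({u} : Set G) := ⟨u, huC⟩ with hg
  have hgo : orderOf g = 4 := by rw [Subgroup.orderOf_mk, hu4]
  have hgc : ∀ x : Subgroup.centralizer ({u} : Set G), x * g = g * x := fun x =>
    Subtype.ext (Subgroup.mem_centralizer_singleton_iff.1 x.2)
  obtain ⟨T, hT⟩ := (IsPGroup.of_card (G := Subgroup.zpowers g) (p := 2) (n := 2)
    (by rw [Nat.card_zpowers, hgo]; rfl)).exists_le_sylow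
  obtain ⟨Q, hQ⟩ := (T.2.map (Subgroup.centralizer ({u} : Set G)).subtype).exists_le_sylow
  obtain ⟨c, hc⟩ := MulAction.exists_smul_eq G Q S
  have hcardS : Nat.card (S : Subgroup G) = 2 ^ 3 := by
    rw [Nat.card_congr e.toEquiv, Nat.card_eq_fintype_card, QuaternionGroup.card]
    rfl
  have hT4 : 4 ∣ Nat.card (T : Subgroup (Subgroup.centralizer ({u} : Set G))) := by
    rw [← hgo, ← Nat.card_zpowers]
    exact Subgroup.card_dvd_of_le hT
  have hTle : Nat.card (T : Subgroup (Subgroup.centralizer ({u} : Set G))) ∣ 2 ^ 3 := by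
    rw [← hcardS, ← Nat.card_congr (Sylow.equiv Q S).toEquiv,
      ← Subgroup.card_map_of_injective (Subgroup.centralizer ({u} : Set G)).subtype_injective]
    exact Subgroup.card_dvd_of_le hQ
  have hTne : Nat.card (T : Subgroup (Subgroup.centralizer ({u} : Set G))) ≠ 2 ^ 3 := by
    intro h8
    have hTQ : (T : Subgroup (Subgroup.centralizer ({u} : Set G))).map (Subgroup.centralizer ({u} : Set G)).subtype = (Q : Subgroup G) := by
      refine Subgroup.eq_of_le_of_card_ge hQ ?_
      rw [Subgroup.card_map_of_injective (Subgroup.subtype_injective _), h8, ← hcardS,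
        Nat.card_congr (Sylow.equiv Q S).toEquiv]
    have huQ : u ∈ (Q : Subgroup G) := hTQ ▸ ⟨g, hT (Subgroup.mem_zpowers g), rfl⟩
    have hwS : c * u * c⁻¹ ∈ S := by
      rw [← hc]
      exact (Subgroup.smul_mem_pointwise_smul_iff (a := MulAut.conj c) (x := u)
        (S := (Q : Subgroup G))).2 huQ
    have hcomm : ∀ s : (S : Subgroup G), Commute (⟨_, hwS⟩ : (S : Subgroup G)) s := by
      intro s
      have hs : (s : G) ∈ c • Q := by rw [hc]; exact s.2
      obtain ⟨q, hq, hqs⟩ := hs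
      have hqu : q * u = u * q := by
        have hq' : q ∈ (Q : Subgroup G) := hq
        rw [← hTQ] at hq'
        obtain ⟨t, -, rfl⟩ := hq'
        exact Subgroup.mem_centralizer_singleton_iff.1 t.2
      have hqs' : c * q * c⁻¹ = s := hqs
      apply Subtype.ext
      show c * u * c⁻¹ * s = s * (c * u * c⁻¹)
      rw [← hqs', show c * u * c⁻¹ * (c * q * c⁻¹) = c * (u * q) * c⁻¹ by group, ← hqu]
      group
    have h5 := QuatSylow.mul_self_of_commute (le_refl 2) (e ⟨_, hwS⟩)
      (by simpa using (hcomm (e.symm (QuaternionGroup.a 1))).map e.toMonoidHom)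
      (by simpa using (hcomm (e.symm (QuaternionGroup.xa 0))).map e.toMonoidHom)
    rw [← map_mul, map_eq_one_iff _ e.injective] at h5
    have h6 : orderOf (c * u * c⁻¹) ∣ 2 := orderOf_dvd_of_pow_eq_one (by
      rw [sq]; exact congrArg Subtype.val h5)
    rw [orderOf_conj, hu4] at h6
    norm_num at h6
  have hTcard : Nat.card (T : Subgroup (Subgroup.centralizer ({u} : Set G))) = 4 := by
    obtain ⟨j, hj, hje⟩ := (Nat.dvd_prime_pow Nat.prime_two).1 hTle
    rw [hje] at hT4 hTne ⊢
    interval_cases j <;> simp_all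
  have hTg : Subgroup.zpowers g = (T : Subgroup (Subgroup.centralizer ({u} : Set G))) :=
    Subgroup.eq_of_le_of_card_ge hT (by rw [hTcard, Nat.card_zpowers, hgo])
  have hN : Subgroup.normalizer ((T : Subgroup (Subgroup.centralizer ({u} : Set G))) : Set (Subgroup.centralizer ({u} : Set G))) ≤
      Subgroup.centralizer ((T : Subgroup (Subgroup.centralizer ({u} : Set G))) : Set (Subgroup.centralizer ({u} : Set G))) := by
    intro x _
    rw [Subgroup.mem_centralizer_iff]
    intro t ht
    have ht' : t ∈ Subgroup.zpowers g := by rw [hTg]; exact ht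
    obtain ⟨i, rfl⟩ := Subgroup.mem_zpowers_iff.1 ht'
    exact (Commute.zpow_right (hgc x) i).eq.symm
  refine ⟨(MonoidHom.transferSylow T hN).ker, inferInstance,
    MonoidHom.not_dvd_card_ker_transferSylow T hN, ?_⟩
  rw [(MonoidHom.ker_transferSylow_isComplement' T hN).symm.index_eq_card, hTcard]
  rfl

include e hz hz2 in
/-- The quotient of `C(z)` by `z` has Klein four Sylow 2-subgroups and one class of
involutions. -/
theorem quotient_facts
    (hnc : ∀ N : Subgroup G, N.Normal → ¬ Subgroup.IsComplement' N (S : Subgroup G))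
    (zc : Subgroup.centralizer ({z} : Set G)) (hzc : (zc : G) = z)
    [(Subgroup.zpowers zc).Normal] :
    ∃ P : Sylow 2 (Subgroup.centralizer ({z} : Set G) ⧸ Subgroup.zpowers zc),
      IsKleinFour (P : Subgroup (Subgroup.centralizer ({z} : Set G) ⧸ Subgroup.zpowers zc)) ∧
      ∀ s t : Subgroup.centralizer ({z} : Set G) ⧸ Subgroup.zpowers zc,
        orderOf s = 2 → orderOf t = 2 → IsConj s t := by
  classical
  have : Fact (Nat.Prime 2) := ⟨Nat.prime_two⟩
  obtain ⟨hsq, hcz, -, -, u, huS, hu4, huu⟩ := sylow_facts S e hz hz2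
  obtain ⟨-, huniq⟩ := QuatSylow.exists_unique_of_quaternion S e
  have hSC : (S : Subgroup G) ≤ Subgroup.centralizer ({z} : Set G) := fun s hs =>
    Subgroup.mem_centralizer_singleton_iff.2 (hcz s hs)
  have hzo : orderOf zc = 2 := by rw [← Subgroup.orderOf_coe, hzc, hz2]
  let R : Sylow 2 (Subgroup.centralizer ({z} : Set G)) := S.subtype hSC
  let P := R.mapSurjective (f := QuotientGroup.mk' (Subgroup.zpowers zc))
    (QuotientGroup.mk'_surjective _)
  have hexp : ∀ p : (P : Subgroup (Subgroup.centralizer ({z} : Set G) ⧸ Subgroup.zpowers zc)),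
      p * p = 1 := by
    rintro ⟨_, r, hr, rfl⟩
    apply Subtype.ext
    show QuotientGroup.mk' (Subgroup.zpowers zc) r * QuotientGroup.mk' (Subgroup.zpowers zc) r = 1
    rw [← map_mul, QuotientGroup.mk'_apply, QuotientGroup.eq_one_iff]
    rcases hsq (r : G) hr with h | h
    · rw [show r * r = 1 from Subtype.ext h]; exact one_mem _
    · rw [show r * r = zc from Subtype.ext (h.trans hzc.symm)]; exact Subgroup.mem_zpowers _
  have hcardR : Nat.card (R : Subgroup (Subgroup.centralizer ({z} : Set G))) = 2 ^ 3 := by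
    show Nat.card ((S : Subgroup G).subgroupOf _) = _
    rw [Nat.card_congr (Subgroup.subgroupOfEquivOfLe hSC).toEquiv, Nat.card_congr e.toEquiv,
      Nat.card_eq_fintype_card, QuaternionGroup.card]
    rfl
  have hcardP : Nat.card (P : Subgroup (Subgroup.centralizer ({z} : Set G) ⧸ Subgroup.zpowers zc))
      = 4 := by
    have h1 := Subgroup.card_eq_card_quotient_mul_card_subgroup (Subgroup.zpowers zc)
    rw [Nat.card_zpowers, hzo] at h1
    have h2 := R.card_eq_multiplicity
    rw [hcardR, h1, Nat.factorization_mul Nat.card_pos.ne' two_ne_zero, Finsupp.add_apply,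
      Nat.prime_two.factorization_self] at h2
    have h3 := Nat.pow_right_injective le_rfl h2
    rw [P.card_eq_multiplicity]
    rw [show (Nat.card (Subgroup.centralizer ({z} : Set G) ⧸ Subgroup.zpowers zc)).factorization 2
      = 2 by omega]
    rfl
  refine ⟨P, ⟨hcardP, ?_⟩, ?_⟩
  · have hd : Monoid.exponent (P : Subgroup (Subgroup.centralizer ({z} : Set G) ⧸ Subgroup.zpowers zc)) ∣ 2 :=
      Monoid.exponent_dvd_of_forall_pow_eq_one fun p => by rw [sq]; exact hexp p
    rcases (Nat.dvd_prime Nat.prime_two).1 hd with h | h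
    · exfalso
      have hss : Subsingleton (P : Subgroup (Subgroup.centralizer ({z} : Set G) ⧸ Subgroup.zpowers zc)) :=
        Monoid.exp_eq_one_iff.1 h
      rw [Nat.card_of_subsingleton (1 : (P : Subgroup (Subgroup.centralizer ({z} : Set G) ⧸
        Subgroup.zpowers zc)))] at hcardP
      omega
    · exact h
  -- one class of involutions
  have key : ∀ s : Subgroup.centralizer ({z} : Set G) ⧸ Subgroup.zpowers zc, orderOf s = 2 →
      IsConj (QuotientGroup.mk (⟨u, hSC huS⟩ : Subgroup.centralizer ({z} : Set G))) s := by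
    intro s hs
    obtain ⟨c, rfl⟩ := QuotientGroup.mk_surjective s
    have hc2 : c * c ∈ Subgroup.zpowers zc := by
      rw [← QuotientGroup.eq_one_iff, QuotientGroup.mk_mul]
      exact mul_self_eq_one hs
    have hc1 : c ∉ Subgroup.zpowers zc := fun h => by
      rw [(QuotientGroup.eq_one_iff c).2 h, orderOf_one] at hs
      omega
    obtain ⟨i, hi, hie⟩ := Finset.mem_image.1 ((mem_zpowers_iff_mem_range_orderOf (x := zc)).1 hc2)
    rw [Finset.mem_range, hzo] at hi
    have hc4 : orderOf (c : G) = 4 := by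
      interval_cases i
      · exfalso
        simp only [pow_zero] at hie
        have hco : orderOf (c : G) = 2 :=
          orderOf_eq_two (fun h => hc1 (by rw [show c = 1 from Subtype.ext h]; exact one_mem _))
            (congrArg Subtype.val hie.symm)
        have := QuatSylow.eq_of_commute S huniq hco hz2
          (Subgroup.mem_centralizer_singleton_iff.1 c.2)
        exact hc1 (by rw [show c = zc from Subtype.ext (this.trans hzc.symm)]; exact Subgroup.mem_zpowers _)
      · simp only [pow_one] at hie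
        have hcc : (c : G) * c = z := (congrArg Subtype.val hie.symm).trans hzc
        have := orderOf_eq_prime_pow (p := 2) (n := 1) (x := (c : G))
          (by rw [pow_one, sq, hcc]; exact ne_one_of_invol hz2)
          (by rw [pow_succ, pow_one, pow_mul, sq, sq, hcc, mul_self_eq_one hz2])
        simpa using this
    obtain ⟨d, hd, hdc⟩ := isConj_order_four S e hz hz2 hnc huS hu4 c.2 hc4
    refine isConj_iff.2 ⟨QuotientGroup.mk (⟨d, hd⟩ : Subgroup.centralizer ({z} : Set G)), ?_⟩
    rw [← QuotientGroup.mk_inv, ← QuotientGroup.mk_mul, ← QuotientGroup.mk_mul]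
    exact congrArg QuotientGroup.mk (Subtype.ext hdc)
  exact fun s t hs ht => (key s hs).symm.trans (key t ht)

/-- A real character value at an element killed by four is an integer congruent to the degree. -/
theorem exists_int_four (χ : Cfsg.IrrCharacter G) {u : G} (hu : orderOf u ∣ 4)
    (hreal : IsConj u u⁻¹) :
    ∃ n : ℤ, (χ : G → ℂ) u = (n : ℂ) ∧
      (2 : ℤ) ∣ (Cfsg.charDegree (χ : G → ℂ) : ℤ) - n := by
  obtain ⟨n, ρ, hρ, he⟩ := χ.2
  obtain ⟨μ, hμ, -, -, hpow⟩ := CfsgLib.Char.exists_eigenvalues ρ u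
  have h1 := hpow 1
  simp only [pow_one] at h1
  have hdeg : Cfsg.charDegree (χ : G → ℂ) = Module.finrank ℂ (Fin n → ℂ) := by
    rw [← he]; simp [Cfsg.charDegree]
  have hz : ∀ i, ∃ p q : ℤ, μ i = (p : ℂ) + (q : ℂ) * Complex.I ∧ (2 : ℤ) ∣ 1 - p - q := by
    intro i
    obtain ⟨c, hc⟩ := hu
    have h4 : μ i ^ 4 = 1 := by rw [hc, pow_mul, hμ, one_pow]
    have hfac : (μ i ^ 2 - 1) * (μ i ^ 2 - Complex.I ^ 2) = 0 := by
      rw [Complex.I_sq]; linear_combination h4
    rcases mul_eq_zero.1 hfac with h | h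
    · rcases sq_eq_one_iff.1 (sub_eq_zero.1 h) with h | h
      · exact ⟨1, 0, by simp [h], by norm_num⟩
      · exact ⟨-1, 0, by simp [h], by norm_num⟩
    · rcases sq_eq_sq_iff_eq_or_eq_neg.1 (sub_eq_zero.1 h) with h | h
      · exact ⟨0, 1, by simp [h], by norm_num⟩
      · exact ⟨0, -1, by simp [h], by norm_num⟩
  choose p q hpq hpar using hz
  have hv : (χ : G → ℂ) u = ((∑ i, p i : ℤ) : ℂ) + ((∑ i, q i : ℤ) : ℂ) * Complex.I := by
    rw [← he, h1]
    push_cast
    rw [Finset.sum_mul, ← Finset.sum_add_distrib]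
    exact Finset.sum_congr rfl fun i _ => hpq i
  have hr : conj ((χ : G → ℂ) u) = (χ : G → ℂ) u := by
    rw [← CfsgLib.Char.IsIrrCharacter.apply_inv χ.2]
    exact (CfsgLib.Char.IsClassFunction.eq_of_isConj
      (CfsgLib.Char.IsIrrCharacter.isClassFunction χ.2) hreal).symm
  rw [hv, map_add, map_mul, map_intCast, map_intCast, Complex.conj_I] at hr
  have hq0 : (∑ i, q i : ℤ) = 0 := by
    have h2 : (((∑ i, q i : ℤ) : ℂ)) * (2 * Complex.I) = 0 := by linear_combination -hr
    rcases mul_eq_zero.1 h2 with h | h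
    · exact_mod_cast h
    · simp at h
  refine ⟨∑ i, p i, by rw [hv, hq0]; simp, ?_⟩
  have h3 : (Cfsg.charDegree (χ : G → ℂ) : ℤ) - ∑ i, p i = ∑ i, (1 - p i - q i) := by
    rw [hdeg, Finset.sum_sub_distrib, Finset.sum_sub_distrib, hq0]; simp
  rw [h3]
  exact Finset.dvd_sum fun i _ => hpar i

end CfsgLib.Invol.Q8Facts
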