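import Cfsg.Agent.Lib.Invol.Isolated
import Mathlib.GroupTheory.SpecificGroups.Quaternion
import Mathlib.Tactic.LinearCombination
import Mathlib.Tactic.Ring

/-!
# Groups whose Sylow 2-subgroups have a single involution
-/

set_option autoImplicit false

namespace CfsgLib.Invol.QuatSylow

open QuaternionGroup

/-- The only involution of a quaternion group is `a n`. -/
theorem eq_of_mul_self {n : ℕ} [NeZero n] (x : QuaternionGroup n) (h : x * x = 1) (h1 : x ≠ 1) :
    x = a (n : ZMod (2 * n)) := by
  cases x with
  | a i =>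
    rw [a_mul_a, one_def] at h
    have h2 := a.inj h
    rw [← ZMod.natCast_zmod_val i, ← Nat.cast_add, ZMod.natCast_eq_zero_iff] at h2
    obtain ⟨c, hc⟩ := h2
    have hlt := ZMod.val_lt i
    have hc1 : c < 2 := by
      by_contra hle
      push Not at hle
      have := Nat.mul_le_mul_left (2 * n) hle
      omega
    interval_cases c
    · exfalso
      apply h1
      have h0 : i.val = 0 := by omega
      rw [(ZMod.val_eq_zero i).1 h0, a_zero]
    · have h0 : i.val = n := by omega
      rw [← ZMod.natCast_zmod_val i, h0]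
  | xa i =>
    exfalso
    have h2 := orderOf_dvd_of_pow_eq_one (show (xa i : QuaternionGroup n) ^ 2 = 1 by rw [sq, h])
    rw [orderOf_xa] at h2
    norm_num at h2

/-- An element commuting with both standard generators squares to one. -/
theorem mul_self_of_commute {n : ℕ} (hn : 2 ≤ n) (x : QuaternionGroup n)
    (ha : Commute x (a 1)) (hb : Commute x (xa 0)) : x * x = 1 := by
  cases x with
  | a i =>
    have h : a i * xa 0 = xa 0 * a i := hb
    rw [a_mul_xa, xa_mul_a] at h
    have h2 := xa.inj h
    rw [a_mul_a, one_def]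
    congr 1
    linear_combination -h2
  | xa i =>
    exfalso
    have h : xa i * a 1 = a 1 * xa i := ha
    rw [a_mul_xa, xa_mul_a] at h
    have h2 := xa.inj h
    have h3 : ((2 : ℕ) : ZMod (2 * n)) = 0 := by
      push_cast
      linear_combination h2
    rw [ZMod.natCast_eq_zero_iff] at h3
    have := Nat.le_of_dvd two_pos h3
    omega

variable {G : Type*} [Group G] [Finite G]

/-- A quaternion Sylow 2-subgroup has exactly one involution. -/
theorem exists_unique_of_quaternion (S : Sylow 2 G) {n : ℕ} [NeZero n]
    (e : (S : Subgroup G) ≃* QuaternionGroup n) :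
    (∃ z : G, z ∈ S ∧ orderOf z = 2) ∧
      ∀ u v : G, u ∈ S → v ∈ S → orderOf u = 2 → orderOf v = 2 → u = v := by
  constructor
  · have ho : orderOf ((QuaternionGroup.a 1 : QuaternionGroup n) ^ n) = 2 := by
      rw [orderOf_pow' _ (NeZero.ne n), orderOf_a_one, Nat.gcd_eq_right (Dvd.intro_left 2 rfl),
        Nat.mul_div_cancel _ (NeZero.pos n)]
    refine ⟨(e.symm ((QuaternionGroup.a 1) ^ n) : (S : Subgroup G)), SetLike.coe_mem _, ?_⟩
    rw [Subgroup.orderOf_coe, MulEquiv.orderOf_eq]
    exact ho
  · intro u v hu hv hu2 hv2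
    have key : ∀ w (hw : w ∈ S), orderOf w = 2 →
        e ⟨w, hw⟩ = QuaternionGroup.a (n : ZMod (2 * n)) := by
      intro w hw hw2
      apply eq_of_mul_self
      · rw [← map_mul, ← map_one e]
        exact congrArg e (Subtype.ext (mul_self_eq_one hw2))
      · intro h
        rw [map_eq_one_iff _ e.injective] at h
        exact ne_one_of_invol hw2 (congrArg Subtype.val h)
    exact congrArg Subtype.val (e.injective ((key u hu hu2).trans (key v hv hv2).symm))

section Unique

variable (S : Sylow 2 G)
  (huniq : ∀ u v : G, u ∈ S → v ∈ S → orderOf u = 2 → orderOf v = 2 → u = v)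

include huniq

/-- With a single involution in a Sylow 2-subgroup, all involutions are conjugate. -/
theorem isConj_involutions {u v : G} (hu : orderOf u = 2) (hv : orderOf v = 2) : IsConj u v := by
  haveI : Fact (Nat.Prime 2) := ⟨Nat.prime_two⟩
  have key : ∀ w : G, orderOf w = 2 → ∃ g : G, g * w * g⁻¹ ∈ S := by
    intro w hw
    obtain ⟨Q, hQ, -⟩ := exists_sylow_mem_of_commute hw hw (Commute.refl w)
    obtain ⟨g, hg⟩ := MulAction.exists_smul_eq G Q S
    refine ⟨g, ?_⟩
    rw [← hg]
    exact (Subgroup.smul_mem_pointwise_smul_iff (a := MulAut.conj g) (x := w)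
      (S := (Q : Subgroup G))).2 hQ
  obtain ⟨g, hg⟩ := key u hu
  obtain ⟨h, hh⟩ := key v hv
  have he := huniq _ _ hg hh (by rw [orderOf_conj, hu]) (by rw [orderOf_conj, hv])
  exact (isConj_iff.2 ⟨g, he⟩).trans (isConj_iff.2 ⟨h, rfl⟩).symm

/-- With a single involution in a Sylow 2-subgroup, commuting involutions are equal. -/
theorem eq_of_commute {u v : G} (hu : orderOf u = 2) (hv : orderOf v = 2) (h : Commute u v) :
    u = v := by
  haveI : Fact (Nat.Prime 2) := ⟨Nat.prime_two⟩
  obtain ⟨Q, hQu, hQv⟩ := exists_sylow_mem_of_commute hu hv h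
  obtain ⟨g, hg⟩ := MulAction.exists_smul_eq G Q S
  have hmem : ∀ x : G, x ∈ Q → g * x * g⁻¹ ∈ S := by
    intro x hx
    rw [← hg]
    exact (Subgroup.smul_mem_pointwise_smul_iff (a := MulAut.conj g) (x := x)
      (S := (Q : Subgroup G))).2 hx
  have he := huniq _ _ (hmem u hQu) (hmem v hQv) (by rw [orderOf_conj, hu])
    (by rw [orderOf_conj, hv])
  exact mul_left_cancel (mul_right_cancel he)

/-- With a single involution in a Sylow 2-subgroup, products of two involutions have odd order. -/
theorem odd_orderOf_mul {u v : G} (hu : orderOf u = 2) (hv : orderOf v = 2) :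
    Odd (orderOf (u * v)) := by
  by_contra h
  rw [Nat.not_odd_iff_even] at h
  by_cases huv : u = v
  · rw [huv, mul_self_eq_one hv, orderOf_one] at h
    exact absurd h (by decide)
  obtain ⟨hc, -⟩ := middle_commute (mul_self_eq_one hu) (mul_self_eq_one hv) h
  have he := eq_of_commute S huniq (middle_orderOf h (orderOf_pos _)) hu hc
  apply left_notMem_zpowers hu hv huv
  have hm := Subgroup.npow_mem_zpowers (u * v) (orderOf (u * v) / 2)
  rwa [he] at hm

end Unique

end CfsgLib.Invol.QuatSylow
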