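import Cfsg.Agent.Lib.Invol.NormalFour
import Cfsg.Agent.Lib.Fusion.ThompsonTransfer
import Mathlib.GroupTheory.Sylow

/-!
# Involution centralisers in groups of 2-rank at least three
-/

set_option autoImplicit false

namespace CfsgLib.Invol

variable {G : Type*} [Group G] [Finite G]

/-- An elementary abelian group extended by a commuting involution outside it. -/
theorem exists_elementary_extend {A : Subgroup G} (hA : ∀ a ∈ A, a * a = 1) {y : G}
    (hy : y * y = 1) (hc : ∀ a ∈ A, a * y = y * a) (hyA : y ∉ A) {X : Subgroup G} (hAX : A ≤ X)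
    (hyX : y ∈ X) :
    ∃ B : Subgroup G, B ≤ X ∧ Nat.card B = 2 * Nat.card A ∧ ∀ b ∈ B, b * b = 1 := by
  have hyy : ∀ g : G, y * (y * g) = g := fun g => by rw [← mul_assoc, hy, one_mul]
  let B : Subgroup G :=
    { carrier := {g | g ∈ A ∨ y * g ∈ A}
      one_mem' := Or.inl A.one_mem
      mul_mem' := by
        rintro a b (ha | ha) (hb | hb)
        · exact Or.inl (A.mul_mem ha hb)
        · refine Or.inr ?_
          rw [← mul_assoc, ← hc a ha, mul_assoc]
          exact A.mul_mem ha hb
        · refine Or.inr ?_
          rw [← mul_assoc]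
          exact A.mul_mem ha hb
        · refine Or.inl ?_
          have e : a * b = y * a * (y * b) := by
            have h := hc _ ha
            rw [hyy a] at h
            rw [← mul_assoc (y * a) y b, h]
          rw [e]
          exact A.mul_mem ha hb
      inv_mem' := by
        rintro a (ha | ha)
        · exact Or.inl (A.inv_mem ha)
        · refine Or.inr ?_
          have h2 := hA _ ha
          have e : y * a⁻¹ = (y * a)⁻¹ := by
            have h := hc _ ha
            rw [hyy a, mul_assoc] at h
            have h' : a * y = y * a := by rw [← hyy (a * y), h]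
            rw [mul_inv_rev, inv_eq_of_mul_eq_one_right hy]
            calc y * a⁻¹ = a⁻¹ * (a * y) * a⁻¹ := by group
              _ = a⁻¹ * (y * a) * a⁻¹ := by rw [h']
              _ = a⁻¹ * y := by group
          rw [e]
          exact A.inv_mem ha }
  refine ⟨B, ?_, ?_, ?_⟩
  · rintro g (hg | hg)
    · exact hAX hg
    · rw [← hyy g]
      exact X.mul_mem hyX (hAX hg)
  · have hset : (B : Set G) = (A : Set G) ∪ (fun g => y * g) '' (A : Set G) := by
      ext g
      constructor
      · rintro (hg | hg)
        · exact Or.inl hg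
        · exact Or.inr ⟨y * g, hg, hyy g⟩
      · rintro (hg | ⟨a, ha, rfl⟩)
        · exact Or.inl hg
        · refine Or.inr ?_
          show y * (y * a) ∈ A
          rw [hyy]; exact ha
    have hdisj : Disjoint (A : Set G) ((fun g => y * g) '' (A : Set G)) := by
      rw [Set.disjoint_left]
      rintro _ hg ⟨a, ha, rfl⟩
      apply hyA
      have := A.mul_mem hg (A.inv_mem ha)
      rwa [mul_inv_cancel_right] at this
    rw [← SetLike.coe_sort_coe, Nat.card_coe_set_eq, hset,
      Set.ncard_union_eq hdisj (Set.toFinite _) (Set.toFinite _),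
      Set.ncard_image_of_injective _ (mul_right_injective y), ← SetLike.coe_sort_coe,
      Nat.card_coe_set_eq, two_mul]
  · rintro g (hg | hg)
    · exact hA g hg
    · have h2 := hA _ hg
      have h := hc _ hg
      rw [hyy g] at h
      have e : g = y * g * y := h.symm
      calc g * g = y * g * y * (y * g * y) := by rw [← e]
        _ = y * g * (y * y) * (g * y) := by group
        _ = y * (g * g) * y := by rw [hy]; group
        _ = 1 := by
          have : g * g = 1 := by
            calc g * g = g * (y * g * y) := by rw [← e]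
              _ = y * (y * g) * (y * g) * y := by rw [hyy]; group
              _ = 1 := by rw [mul_assoc y (y * g), h2, mul_one, hy]
          rw [this, mul_one, hy]

/-- Every involution centraliser has 2-rank at least three when the group does and has no subgroup
of index two. -/
theorem exists_elementary_eight_in_centralizer (hno : ∀ H : Subgroup G, H.index ≠ 2)
    {E : Subgroup G} (hE : Nat.card E = 8) (hEsq : ∀ e ∈ E, e * e = 1) {x : G}
    (hx : orderOf x = 2) :
    ∃ B : Subgroup G, B ≤ Subgroup.centralizer ({x} : Set G) ∧ Nat.card B = 8 ∧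
      ∀ b ∈ B, b * b = 1 := by
  classical
  haveI : Fact (Nat.Prime 2) := ⟨Nat.prime_two⟩
  -- it suffices to treat one conjugate
  suffices h : ∀ y : G, IsConj x y → (∃ B : Subgroup G, B ≤ Subgroup.centralizer ({y} : Set G) ∧
      Nat.card B = 8 ∧ ∀ b ∈ B, b * b = 1) → ∃ B : Subgroup G,
      B ≤ Subgroup.centralizer ({x} : Set G) ∧ Nat.card B = 8 ∧ ∀ b ∈ B, b * b = 1 by
    obtain ⟨P, hEP⟩ := (IsPGroup.of_card (G := E) (p := 2) (n := 3)
      (by rw [hE]; norm_num)).exists_le_sylow
    set S : Subgroup G := (P : Subgroup G) with hS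
    obtain ⟨z, w, hzc, hz, hw, hwz, hwconj⟩ := exists_normal_four_pair (S := S) P.isPGroup'
      (E := E.subgroupOf S) (by rw [Nat.card_congr (Subgroup.subgroupOfEquivOfLe hEP).toEquiv, hE])
      (fun e he => Subtype.ext (hEsq _ he))
    set z' : G := (z : G) with hz'
    set w' : G := (w : G) with hw'
    have hz2 : z' * z' = 1 := congrArg Subtype.val (mul_self_eq_one hz)
    have hw2 : w' * w' = 1 := congrArg Subtype.val (mul_self_eq_one hw)
    have hzw : z' * w' = w' * z' := congrArg Subtype.val (Subgroup.mem_center_iff.1 hzc w).symm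
    have hzS : ∀ s ∈ S, s * z' = z' * s := fun s hs =>
      congrArg Subtype.val (Subgroup.mem_center_iff.1 hzc ⟨s, hs⟩)
    -- the normal four-group
    obtain ⟨U, hUS, hUcard, hUsq⟩ := exists_elementary_extend (A := Subgroup.zpowers z')
      (fun a ha => by
        obtain ⟨i, rfl⟩ := Subgroup.mem_zpowers_iff.1 ha
        rw [← zpow_add, ← two_mul, zpow_mul, zpow_two, hz2, one_zpow])
      hw2 (fun a ha => by
        obtain ⟨i, rfl⟩ := Subgroup.mem_zpowers_iff.1 ha
        exact ((Commute.zpow_left (hzw : Commute z' w') i)).eq)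
      (fun hmem => by
        obtain ⟨i, hi, hie⟩ :=
          Finset.mem_image.1 ((mem_zpowers_iff_mem_range_orderOf (x := z')).1 hmem)
        rw [Finset.mem_range, hz', Subgroup.orderOf_coe, hz] at hi
        interval_cases i
        · exact ne_one_of_invol hw (Subtype.ext (by simpa [hw'] using hie.symm))
        · exact hwz (Subtype.ext (by simpa [hw', hz'] using hie.symm)))
      (X := Subgroup.closure {z', w'})
      (Subgroup.zpowers_le.2 (Subgroup.subset_closure (by simp)))
      (Subgroup.subset_closure (by simp))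
    rw [Nat.card_zpowers, hz', Subgroup.orderOf_coe, hz] at hUcard
    have hclS : Subgroup.closure {z', w'} ≤ S := by
      rw [Subgroup.closure_le]
      rintro g (rfl | rfl)
      exacts [z.2, w.2]
    have hcen : ∀ u ∈ U, ∀ g : G, Commute g z' → Commute g w' → Commute g u := by
      intro u hu g h1 h2
      have hle : Subgroup.closure {z', w'} ≤ Subgroup.centralizer ({g} : Set G) := by
        rw [Subgroup.closure_le]
        rintro v (rfl | rfl)
        exacts [Subgroup.mem_centralizer_singleton_iff.2 h1.eq.symm,
          Subgroup.mem_centralizer_singleton_iff.2 h2.eq.symm]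
      exact (Subgroup.mem_centralizer_singleton_iff.1 (hle (hUS hu))).symm
    set M : Subgroup G := S ⊓ Subgroup.centralizer ({w'} : Set G) with hM
    have hUM : U ≤ M := fun u hu => ⟨hclS (hUS hu), Subgroup.mem_centralizer_singleton_iff.2
      (hcen u hu w' hzw.symm (Commute.refl w')).eq.symm⟩
    have hMU : ∀ g ∈ M, ∀ u ∈ U, u * g = g * u := fun g hg u hu =>
      (hcen u hu g (hzS g hg.1) (Subgroup.mem_centralizer_singleton_iff.1 hg.2)).eq.symm
    have hswap : ∀ s : G, s ∈ S → s ∉ M → s * w' * s⁻¹ = z' * w' := by
      intro s hs hsM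
      rcases hwconj ⟨s, hs⟩ with h | h
      · exfalso
        apply hsM
        refine ⟨hs, Subgroup.mem_centralizer_singleton_iff.2 ?_⟩
        have h' : s * w' * s⁻¹ = w' := congrArg Subtype.val h
        exact mul_inv_eq_iff_eq_mul.1 h'
      · exact congrArg Subtype.val h
    have hprodM : ∀ s t : G, s ∈ S → s ∉ M → t ∈ S → t ∉ M → s * t ∈ M := by
      intro s t hs hsM ht htM
      refine ⟨S.mul_mem hs ht, Subgroup.mem_centralizer_singleton_iff.2 ?_⟩
      rw [← mul_inv_eq_iff_eq_mul]
      calc s * t * w' * (s * t)⁻¹ = s * (t * w' * t⁻¹) * s⁻¹ := by group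
        _ = s * z' * s⁻¹ * (s * w' * s⁻¹) := by rw [hswap t ht htM]; group
        _ = w' := by rw [hswap s hs hsM, hzS s hs, mul_inv_cancel_right, ← mul_assoc, hz2, one_mul]
    -- involutions of `M` are fine
    have hgood : ∀ y ∈ M, orderOf y = 2 → ∃ B : Subgroup G,
        B ≤ Subgroup.centralizer ({y} : Set G) ∧ Nat.card B = 8 ∧ ∀ b ∈ B, b * b = 1 := by
      intro y hy hy2
      by_cases hyU : y ∈ U
      · by_cases hFU : ∀ f ∈ E, f ∈ M → f ∈ U
        · -- then `U ≤ E`
          refine ⟨E, ?_, hE, hEsq⟩
          have hcard : Nat.card ↥(E ⊓ U : Subgroup G) = Nat.card U := by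
            refine le_antisymm (Subgroup.card_le_of_le inf_le_right) ?_
            have hidx : (M.subgroupOf E).index ≤ 2 := by
              by_cases htop : M.subgroupOf E = ⊤
              · rw [htop, Subgroup.index_top]; norm_num
              · obtain ⟨e, he⟩ : ∃ e : E, e ∉ M.subgroupOf E := by
                  by_contra hcon
                  push Not at hcon
                  exact htop (top_le_iff.1 fun a _ => hcon a)
                refine le_of_eq (Subgroup.index_eq_two_iff.2 ⟨e, fun b => ?_⟩)
                by_cases hb : b ∈ M.subgroupOf E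
                · refine Or.inr ⟨hb, fun h => he ?_⟩
                  exact (Subgroup.mul_mem_cancel_left _ hb).1 h
                · refine Or.inl ⟨?_, hb⟩
                  exact hprodM _ _ (hEP b.2) hb (hEP e.2) he
            have h8 := Subgroup.card_mul_index (M.subgroupOf E)
            rw [hE] at h8
            have hle : Nat.card (M.subgroupOf E) ≤ Nat.card ↥(E ⊓ U : Subgroup G) :=
              Nat.card_le_card_of_injective
                (fun a : M.subgroupOf E => (⟨(a : E), (a : E).2, hFU _ (a : E).2 a.2⟩ :
                  ↥(E ⊓ U : Subgroup G)))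
                (fun a b h => Subtype.ext (Subtype.ext
                  (congrArg (fun c : ↥(E ⊓ U : Subgroup G) => (c : G)) h)))
            rw [hUcard]
            have := Nat.mul_le_mul_left (Nat.card (M.subgroupOf E)) hidx
            omega
          have heq : E ⊓ U = U := Subgroup.eq_of_le_of_card_ge inf_le_right hcard.ge
          have hyE : y ∈ E := (heq.ge hyU).1
          intro e he
          rw [Subgroup.mem_centralizer_singleton_iff]
          have h := hEsq _ (E.mul_mem he hyE)
          calc e * y = e * (e * y * (e * y)) * y := by rw [h, mul_one]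
            _ = (e * e) * (y * e) * (y * y) := by group
            _ = y * e := by rw [hEsq e he, hEsq y hyE, one_mul, mul_one]
        · push Not at hFU
          obtain ⟨f, hfE, hfM, hfU⟩ := hFU
          obtain ⟨B, hBX, hBc, hBsq⟩ := exists_elementary_extend hUsq (hEsq f hfE) (hMU f hfM) hfU
            (X := Subgroup.centralizer ({y} : Set G))
            (fun u hu => Subgroup.mem_centralizer_singleton_iff.2 (hMU y hy u hu))
            (Subgroup.mem_centralizer_singleton_iff.2 (hMU f hfM y hyU).symm)
          exact ⟨B, hBX, by rw [hBc, hUcard], hBsq⟩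
      · obtain ⟨B, hBX, hBc, hBsq⟩ := exists_elementary_extend hUsq (mul_self_eq_one hy2)
            (hMU y hy) hyU (X := Subgroup.centralizer ({y} : Set G))
            (fun u hu => Subgroup.mem_centralizer_singleton_iff.2 (hMU y hy u hu))
            (Subgroup.mem_centralizer_singleton_iff.2 rfl)
        exact ⟨B, hBX, by rw [hBc, hUcard], hBsq⟩
    -- conjugate `x` into `M`
    obtain ⟨Q, hQ⟩ := (IsPGroup.of_card (G := Subgroup.zpowers x) (p := 2) (n := 1)
      (by rw [Nat.card_zpowers, hx, pow_one])).exists_le_sylow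
    obtain ⟨g, hg⟩ := MulAction.exists_smul_eq G Q P
    set y := g * x * g⁻¹ with hy
    have hyS : y ∈ S := by
      rw [hS, ← hg]
      exact (Subgroup.smul_mem_pointwise_smul_iff (a := MulAut.conj g) (x := x)
        (S := (Q : Subgroup G))).2 (hQ (Subgroup.mem_zpowers _))
    have hy2 : orderOf y = 2 := by rw [hy, orderOf_conj, hx]
    by_cases hyM : y ∈ M
    · exact h y (isConj_iff.2 ⟨g, rfl⟩) (hgood y hyM hy2)
    by_cases hex : ∃ k : G, k * y * k⁻¹ ∈ M
    · obtain ⟨k, hk⟩ := hex
      exact h _ ((isConj_iff.2 ⟨g, rfl⟩ : IsConj x y).trans (isConj_iff.2 ⟨k, rfl⟩))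
        (hgood _ hk (by rw [orderOf_conj, hy2]))
    push Not at hex
    exfalso
    have hidx : M.relIndex S = 2 := by
      rw [Subgroup.relIndex, Subgroup.index_eq_two_iff]
      refine ⟨⟨y, hyS⟩, fun b => ?_⟩
      by_cases hb : (b : G) ∈ M
      · exact Or.inr ⟨hb, fun h' => hyM ((M.mul_mem_cancel_left hb).1 h')⟩
      · exact Or.inl ⟨hprodM _ _ b.2 hb hyS hyM, hb⟩
    have hodd : Odd S.index := by
      rw [← Nat.not_even_iff_odd, even_iff_two_dvd]
      exact P.not_dvd_index
    obtain ⟨N, -, hN, -⟩ := CfsgLib.ThompsonTransfer.exists_normal_index_two S M hodd hidx y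
      (by rw [pow_two]; exact mul_self_eq_one hy2) hex
    exact hno N hN
  rintro y hxy ⟨B, hB, hBc, hBsq⟩
  obtain ⟨g, hg⟩ := isConj_iff.1 hxy
  refine ⟨B.map (MulAut.conj g⁻¹).toMonoidHom, ?_, ?_, ?_⟩
  · rintro _ ⟨b, hb, rfl⟩
    have h := Subgroup.mem_centralizer_singleton_iff.1 (hB hb)
    rw [Subgroup.mem_centralizer_singleton_iff]
    show g⁻¹ * b * g⁻¹⁻¹ * x = x * (g⁻¹ * b * g⁻¹⁻¹)
    calc g⁻¹ * b * g⁻¹⁻¹ * x = g⁻¹ * (b * (g * x * g⁻¹)) * g := by group
      _ = g⁻¹ * ((g * x * g⁻¹) * b) * g := by rw [hg, h]
      _ = _ := by group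
  · exact (Subgroup.card_map_of_injective (MulAut.conj g⁻¹).injective).trans hBc
  · rintro _ ⟨b, hb, rfl⟩
    rw [← map_mul, hBsq b hb, map_one]

end CfsgLib.Invol
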