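import Cfsg.Agent.Lib.Invol.GlaubermanZStar

/-!
A noncyclic finite simple group contains a four-group, relative to the hypothesis `hFT` that
groups of odd order are solvable.
-/

set_option autoImplicit false

universe u

namespace CfsgLib.Invol

theorem exists_klein_of_simple_noncyclic
    (hFT : ∀ (X : Type u) [Group X] [Finite X], Odd (Nat.card X) → Group.IsSolvable X)
    {G : Type u} [Group G] [Finite G] [IsSimpleGroup G] (hG : ¬ IsCyclic G) :
    ∃ E : Subgroup G, IsKleinFour E := by
  by_contra hcon
  push Not at hcon
  have hcomm : ¬ ∀ a b : G, a * b = b * a := fun h => hG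
    (let _ : CommGroup G := { (inferInstance : Group G) with mul_comm := h }
     inferInstance)
  rcases Nat.even_or_odd (Nat.card G) with he | ho
  · obtain ⟨z, hz, N, hN, hNo, hNc⟩ := exists_central_mod_core_of
      principalBlockCoreConstant brauerSuzukiCenter he hcon
    have hNbot : N = ⊥ := (hN.eq_bot_or_eq_top).resolve_right fun h => by
      rw [h, Subgroup.card_top] at hNo
      exact Nat.not_even_iff_odd.2 hNo he
    have hzc : z ∈ Subgroup.center G := Subgroup.mem_center_iff.2 fun g => by
      have h := Subgroup.mem_bot.1 (hNbot ▸ hNc g)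
      rw [mul_inv_eq_one, mul_inv_eq_iff_eq_mul] at h
      exact h.symm
    have htop : Subgroup.center G = ⊤ := (Subgroup.Normal.eq_bot_or_eq_top
      (inferInstance : (Subgroup.center G).Normal)).resolve_left fun h => by
        rw [h, Subgroup.mem_bot] at hzc
        rw [hzc, orderOf_one] at hz
        exact absurd hz (by norm_num)
    exact hcomm fun a b => (Subgroup.mem_center_iff.1 (htop ▸ Subgroup.mem_top b) a)
  · have := hFT G ho
    exact hcomm (IsSimpleGroup.comm_iff_isSolvable.2 this)

end CfsgLib.Invol
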