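import Cfsg.Agent.Lib.Invol.NormalFour

/-!
# Two-groups with an involution whose centralizer has three involutions

Either there is a normal four-group, or an abelian maximal subgroup with a single involution missing
the given involution.
-/

set_option autoImplicit false

namespace CfsgLib.Invol.SmallCent

variable {S : Type*} [Group S] [Finite S]

theorem eq_of_sq_eq {A : Subgroup S} [IsCyclic A] {a b : A} (ha : orderOf a = 4)
    (hb : orderOf b = 4) : b = a ∨ b = a⁻¹ := by
  classical
  cases nonempty_fintype A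
  have hm : b ∈ Subgroup.zpowers a := by
    have hle := IsCyclic.card_pow_eq_one_le (α := A) (n := 4) (by norm_num)
    have hsub : (Finset.univ.filter fun y : A => y ∈ Subgroup.zpowers a) ⊆
        Finset.univ.filter fun y : A => y ^ 4 = 1 := fun y hy => by
      obtain ⟨i, rfl⟩ := Subgroup.mem_zpowers_iff.1 (Finset.mem_filter.1 hy).2
      have h1 : a ^ 4 = 1 := ha ▸ pow_orderOf_eq_one a
      exact Finset.mem_filter.2 ⟨Finset.mem_univ _, by
        rw [← zpow_natCast, ← zpow_mul, mul_comm, zpow_mul, zpow_natCast, h1, one_zpow]⟩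
    have heq := Finset.eq_of_subset_of_card_le hsub (hle.trans (by
      rw [← Fintype.card_subtype, ← Nat.card_eq_fintype_card, Nat.card_zpowers, ha]))
    have hbm : b ∈ Finset.univ.filter fun y : A => y ^ 4 = 1 :=
      Finset.mem_filter.2 ⟨Finset.mem_univ _, hb ▸ pow_orderOf_eq_one b⟩
    rw [← heq] at hbm
    exact (Finset.mem_filter.1 hbm).2
  obtain ⟨i, hi, rfl⟩ :=
    Finset.mem_image.1 ((mem_zpowers_iff_mem_range_orderOf (x := a)).1 hm)
  rw [Finset.mem_range, ha] at hi
  interval_cases i
  · simp at hb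
  · exact Or.inl (pow_one a)
  · exfalso
    rw [orderOf_pow' a two_ne_zero, ha] at hb
    norm_num at hb
  · exact Or.inr (eq_inv_of_mul_eq_one_left (by rw [← pow_succ]; exact (congrArg (a ^ ·) ha).symm.trans (pow_orderOf_eq_one a)))

theorem exists_four_power (hS : IsPGroup 2 S) {c : S} (hc : c * c ≠ 1) :
    ∃ k : ℕ, orderOf (c ^ k) = 4 := by
  obtain ⟨n, hn⟩ := IsPGroup.iff_orderOf.1 hS c
  have hn2 : 2 ≤ n := by
    by_contra h
    refine hc ?_
    have : orderOf c ∣ 2 := hn ▸ (pow_dvd_pow 2 (show n ≤ 1 by omega) : 2 ^ n ∣ 2 ^ 1)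
    rw [← sq]; exact orderOf_dvd_iff_pow_eq_one.1 this
  refine ⟨2 ^ (n - 2), ?_⟩
  rw [orderOf_pow' c (by positivity), hn, Nat.gcd_eq_right (pow_dvd_pow 2 (Nat.sub_le n 2)),
    Nat.pow_div (Nat.sub_le n 2) two_pos, show n - (n - 2) = 2 by omega]
  norm_num

/-- A normal four-group, or a maximal subgroup with one involution avoiding `x`. -/
theorem pair_or_maximal (hS : IsPGroup 2 S) {x z : S} (hz : z ∈ Subgroup.center S)
    (hz2 : orderOf z = 2) (hx : orderOf x = 2) (hxc : x ∉ Subgroup.center S)
    (hcx : ∀ v : S, orderOf v = 2 → Commute v x → v = x ∨ v = z ∨ v = x * z) :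
    (∃ w : S, orderOf w = 2 ∧ w ≠ z ∧ ∀ g : S, g * w * g⁻¹ = w ∨ g * w * g⁻¹ = z * w) ∨
      ∃ M : Subgroup S, M.index = 2 ∧ x ∉ M ∧ ∀ m ∈ M, orderOf m = 2 → m = z := by
  classical
  have : Fact (Nat.Prime 2) := ⟨Nat.prime_two⟩
  have hzg : ∀ g : S, g * z = z * g := Subgroup.mem_center_iff.1 hz
  have hzz : z * z = 1 := mul_self_eq_one hz2
  obtain ⟨A, hAn, hAc, hCA⟩ := exists_selfCentralizing_normal_abelian hS
  haveI := hAn
  have hcomm : ∀ a ∈ A, ∀ b ∈ A, a * b = b * a := fun a ha b hb =>
    congrArg Subtype.val (hAc.is_comm.comm (⟨a, ha⟩ : A) ⟨b, hb⟩)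
  have hcz : ∀ c : S, c ∈ Subgroup.center S → orderOf c = 2 → c = z := by
    intro c hc hc2
    have hxz : x * z ∉ Subgroup.center S := fun h => hxc (by simpa using mul_mem h (inv_mem hz))
    rcases hcx c hc2 (Subgroup.mem_center_iff.1 hc x).symm with h | h | h
    · exact absurd (h ▸ hc) hxc
    · exact h
    · exact absurd (h ▸ hc) hxz
  have hzA : z ∈ A := hCA (Subgroup.mem_centralizer_iff.2 fun a _ => hzg a)
  by_cases hone : ∀ v ∈ A, orderOf v = 2 → v = z
  swap
  · push Not at hone
    obtain ⟨v, hvA, hv, hvz⟩ := hone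
    let V : Subgroup S :=
      { carrier := {a | a ∈ A ∧ a * a = 1}
        one_mem' := ⟨one_mem A, one_mul 1⟩
        mul_mem' := fun {a b} ha hb => ⟨mul_mem ha.1 hb.1, by
          rw [Commute.mul_mul_mul_comm (hcomm b hb.1 a ha.1), ha.2, hb.2, one_mul]⟩
        inv_mem' := fun {a} ha => ⟨inv_mem ha.1, by rw [← mul_inv_rev, ha.2, inv_one]⟩ }
    haveI : V.Normal := ⟨fun a ha g => ⟨hAn.conj_mem a ha.1 g, by
      rw [show g * a * g⁻¹ * (g * a * g⁻¹) = g * (a * a) * g⁻¹ by group,
        show a * a = 1 from ha.2, mul_one, mul_inv_cancel]⟩⟩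
    obtain ⟨z', w, hz'c, hz', hw, hwz, hg⟩ := exists_central_pair_of_elementary (N := V) hS
      (fun a ha => ha.2) (by
        show 2 < Nat.card (V : Set S)
        rw [Nat.card_coe_set_eq]
        refine (Set.two_lt_ncard (Set.toFinite _)).2 ⟨1, one_mem V, z, ⟨hzA, hzz⟩, v,
          ⟨hvA, mul_self_eq_one hv⟩, ?_, ?_, hvz.symm⟩
        · exact (ne_one_of_invol hz2).symm
        · exact (ne_one_of_invol hv).symm)
    obtain rfl := hcz z' hz'c hz'
    exact Or.inl ⟨w, hw, hwz, hg⟩
  -- the cyclic case
  have hcyc : IsCyclic A := by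
    let _ : CommGroup A := { mul_comm := fun a b => Subtype.ext (hcomm a a.2 b b.2) }
    cases nonempty_fintype A
    obtain ⟨k, hk⟩ := (hS.to_subgroup A).exists_card_eq
    refine isCyclic_of_card_pow_eq_one_le fun n hn => ?_
    by_contra hlt
    push Not at hlt
    let f : A →* A := powMonoidHom n
    have hker : n < Nat.card f.ker := by
      rw [Nat.card_eq_fintype_card, Fintype.card_subtype]
      simpa [f, MonoidHom.mem_ker] using hlt
    -- the kernel is cyclic as it has one involution
    obtain ⟨a, -, hamax⟩ := Finset.exists_max_image (Finset.univ : Finset f.ker) orderOf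
      ⟨1, Finset.mem_univ _⟩
    have htop : Subgroup.zpowers a = ⊤ := by
      by_contra hne
      obtain ⟨q, hq⟩ := exists_prime_orderOf_dvd_card' 2 (G := f.ker ⧸ Subgroup.zpowers a) (by
        obtain ⟨j, hj⟩ := (((hS.to_subgroup A).to_subgroup f.ker).to_quotient
          (Subgroup.zpowers a)).exists_card_eq
        rcases Nat.eq_zero_or_pos j with rfl | hj'
        · exact absurd (Subgroup.index_eq_one.1 (hj.trans (pow_zero 2))) hne
        · rw [hj]; exact dvd_pow_self 2 hj'.ne')
      induction q using QuotientGroup.induction_on with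
      | H c =>
        have hcnot : c ∉ Subgroup.zpowers a := fun h =>
          ne_one_of_invol hq ((QuotientGroup.eq_one_iff c).2 h)
        have hc2 : c * c ∈ Subgroup.zpowers a := by
          rw [← QuotientGroup.eq_one_iff, QuotientGroup.mk_mul]
          exact mul_self_eq_one hq
        obtain ⟨i, hi⟩ := Subgroup.mem_zpowers_iff.1 hc2
        rcases Int.even_or_odd' i with ⟨l, hl | hl⟩
        · -- an involution outside
          set d := c * (a ^ l)⁻¹ with hd
          have hdd : d * d = 1 := by
            rw [hd, mul_mul_mul_comm, ← hi, hl, ← mul_inv_rev, ← zpow_add, ← two_mul,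
              mul_inv_cancel]
          have hd1 : d ≠ 1 := fun h => hcnot (mul_inv_eq_one.1 h ▸ zpow_mem (Subgroup.mem_zpowers a) l)
          have hd2 : ((d : A) : S) = z := hone _ (d : A).2 (by
            rw [Subgroup.orderOf_coe, Subgroup.orderOf_coe, orderOf_eq_prime (p := 2) (by rw [sq, hdd]) hd1])
          obtain ⟨m, hm⟩ := IsPGroup.iff_orderOf.1 ((hS.to_subgroup A).to_subgroup f.ker) a
          rcases Nat.eq_zero_or_pos m with rfl | hm'
          · have := hamax c (Finset.mem_univ _)
            rw [hm, pow_zero] at this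
            exact hcnot ((orderOf_eq_one_iff.1 (le_antisymm this (orderOf_pos c))).symm ▸ one_mem _)
          · set e := a ^ 2 ^ (m - 1) with he
            have he2 : orderOf e = 2 := by
              rw [he, orderOf_pow' a (by positivity), hm,
                Nat.gcd_eq_right (pow_dvd_pow 2 (Nat.sub_le m 1)),
                Nat.pow_div (Nat.sub_le m 1) two_pos, show m - (m - 1) = 1 by omega, pow_one]
            have hez : ((e : A) : S) = z := hone _ (e : A).2 (by
              rw [Subgroup.orderOf_coe, Subgroup.orderOf_coe, he2])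
            have hde : d = e := Subtype.ext (Subtype.ext (hd2.trans hez.symm))
            refine hcnot ?_
            rw [show c = d * a ^ l by rw [hd, inv_mul_cancel_right], hde, he]
            exact mul_mem (pow_mem (Subgroup.mem_zpowers a) _) (zpow_mem (Subgroup.mem_zpowers a) _)
        · -- an element of larger order
          obtain ⟨m, hm⟩ := IsPGroup.iff_orderOf.1 ((hS.to_subgroup A).to_subgroup f.ker) a
          obtain ⟨r, hr⟩ := IsPGroup.iff_orderOf.1 ((hS.to_subgroup A).to_subgroup f.ker) c
          have h1 : orderOf (c * c) = 2 ^ m := by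
            rw [← hi, ← hm]
            refine orderOf_eq_orderOf_iff.2 fun j => ?_
            rw [← zpow_natCast, ← zpow_natCast, ← zpow_mul, ← orderOf_dvd_iff_zpow_eq_one,
              ← orderOf_dvd_iff_zpow_eq_one, hm]
            have hcop : IsCoprime ((2 ^ m : ℕ) : ℤ) i := by
              push_cast
              exact IsCoprime.pow_left ⟨-l, 1, by rw [hl]; ring⟩
            exact ⟨fun h => hcop.dvd_of_dvd_mul_left h, fun h => h.mul_left i⟩
          rcases Nat.eq_zero_or_pos r with rfl | hr'
          · rw [pow_zero, orderOf_eq_one_iff] at hr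
            exact hcnot (hr ▸ one_mem _)
          rw [← sq, orderOf_pow, hr, Nat.gcd_eq_right (dvd_pow_self 2 hr'.ne'),
            show (2 : ℕ) ^ r = 2 ^ (r - 1) * 2 by rw [← pow_succ, Nat.sub_add_cancel hr'],
            Nat.mul_div_cancel _ two_pos] at h1
          have h2 := hamax c (Finset.mem_univ _)
          rw [hr, hm, Nat.pow_le_pow_iff_right (le_refl 2)] at h2
          have := Nat.pow_right_injective (le_refl 2) h1
          omega
    have : Nat.card f.ker ≤ n := by
      rw [← Subgroup.card_top, ← htop, Nat.card_zpowers]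
      refine Nat.le_of_dvd hn (orderOf_dvd_of_pow_eq_one (Subtype.ext ?_))
      exact (a.2 : f a = 1)
    omega
  obtain ⟨a, ha⟩ := IsCyclic.exists_generator (α := A)
  have hpow : ∀ b ∈ A, ∃ k : ℤ, (a : S) ^ k = b := fun b hb => by
    obtain ⟨k, hk⟩ := Subgroup.mem_zpowers_iff.1 (ha ⟨b, hb⟩)
    exact ⟨k, by rw [← SubgroupClass.coe_zpow, hk]⟩
  have hfix : ∀ g : S, g * (a : S) * g⁻¹ = a → g ∈ A := fun g hg => hCA <| by
    refine Subgroup.mem_centralizer_iff.2 fun b hb => ?_
    obtain ⟨k, rfl⟩ := hpow b hb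
    have : g * (a : S) ^ k * g⁻¹ = (a : S) ^ k := by rw [← conj_zpow, hg]
    rw [mul_inv_eq_iff_eq_mul] at this
    exact this.symm
  have hxA : x ∉ A := fun h => hxc (hone x h hx ▸ hz)
  have haA : (a : S) ∈ A := a.2
  -- the action of an element squaring into `A`
  have hclass : ∀ g : S, g * g ∈ A →
      g * (a : S) * g⁻¹ = (a : S)⁻¹ ∨ g * (a : S) * g⁻¹ = (a : S)⁻¹ * z ∨
      g * (a : S) * g⁻¹ = a ∨ g * (a : S) * g⁻¹ = a * z ∧ ∃ i ∈ A, orderOf i = 4 ∧ g * i * g⁻¹ = i := by
    intro g hg
    set b := g * (a : S) * g⁻¹ with hb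
    have hbA : b ∈ A := hAn.conj_mem _ haA g
    have hgb : g * b * g⁻¹ = a := by
      have h := hcomm _ hg _ haA
      calc g * b * g⁻¹ = g * g * a * (g * g)⁻¹ := by rw [hb]; group
        _ = a := by rw [h]; group
    set c := b * (a : S) with hc
    have hgc : g * c * g⁻¹ = c := by
      calc g * c * g⁻¹ = (g * b * g⁻¹) * (g * a * g⁻¹) := by rw [hc]; group
        _ = c := by rw [hgb, ← hb, hc, hcomm _ haA _ hbA]
    have hcA : c ∈ A := mul_mem hbA haA
    by_cases hcc : c * c = 1
    · by_cases hc1 : c = 1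
      · exact Or.inl (eq_inv_of_mul_eq_one_left hc1)
      · refine Or.inr (Or.inl ?_)
        have := hone c hcA (orderOf_eq_two hc1 hcc)
        rw [← this, hc]
        rw [← mul_assoc, hcomm _ (inv_mem haA) _ hbA, mul_assoc, inv_mul_cancel, mul_one]
    · refine Or.inr (Or.inr ?_)
      obtain ⟨k, hk⟩ := exists_four_power hS hcc
      have hgi : g * c ^ k * g⁻¹ = c ^ k := by rw [← conj_pow, hgc]
      set d := b * (a : S)⁻¹ with hd
      have hdA : d ∈ A := mul_mem hbA (inv_mem haA)
      have hgd : g * d * g⁻¹ = d⁻¹ := by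
        calc g * d * g⁻¹ = (g * b * g⁻¹) * (g * a * g⁻¹)⁻¹ := by rw [hd]; group
          _ = (a : S) * b⁻¹ := by rw [hgb]
          _ = d⁻¹ := ((mul_inv_rev b (a : S)⁻¹).trans (congrArg (· * b⁻¹) (inv_inv (a : S)))).symm
      have hdd : d * d = 1 := by
        by_contra hdd
        obtain ⟨j, hj⟩ := exists_four_power hS hdd
        have h1 : (⟨d ^ j, pow_mem hdA j⟩ : A) = ⟨c ^ k, pow_mem hcA k⟩ ∨
            (⟨d ^ j, pow_mem hdA j⟩ : A) = ⟨c ^ k, pow_mem hcA k⟩⁻¹ :=
          eq_of_sq_eq (by rw [Subgroup.orderOf_mk, hk]) (by rw [Subgroup.orderOf_mk, hj])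
        have h2 : g * d ^ j * g⁻¹ = (d ^ j)⁻¹ := by rw [← conj_pow, hgd, inv_pow]
        have h3 : g * d ^ j * g⁻¹ = d ^ j := by
          rcases h1 with h | h <;> rw [Subtype.ext_iff] at h
          · exact (show d ^ j = c ^ k from h) ▸ hgi
          · rw [show d ^ j = (c ^ k)⁻¹ from h]
            calc g * (c ^ k)⁻¹ * g⁻¹ = (g * c ^ k * g⁻¹)⁻¹ := by group
              _ = _ := by rw [hgi]
        have h4 : (d ^ j) ^ 2 = 1 := by rw [sq]; exact mul_eq_one_iff_eq_inv.2 (h3.symm.trans h2)
        have := orderOf_dvd_of_pow_eq_one h4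
        rw [hj] at this
        norm_num at this
      by_cases hd1 : d = 1
      · exact Or.inl (mul_inv_eq_one.1 hd1)
      · refine Or.inr ⟨?_, c ^ k, pow_mem hcA k, hk, hgi⟩
        have := hone d hdA (orderOf_eq_two hd1 hdd)
        rw [hcomm _ haA _ hzA, ← this, hd, inv_mul_cancel_right]
  -- an involution acting as `a ↦ az` gives a normal four-group
  have hsigma : ∀ t : S, t * (a : S) * t⁻¹ = a * z → (∃ i ∈ A, orderOf i = 4 ∧ t * i * t⁻¹ = i) →
      ∃ w : S, orderOf w = 2 ∧ w ≠ z ∧ ∀ g : S, g * w * g⁻¹ = w ∨ g * w * g⁻¹ = z * w := by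
    intro t ht ⟨i, hiA, hi, hti⟩
    have hti2 : i * i = z := by
      refine hone _ (mul_mem hiA hiA) ?_
      rw [← sq, orderOf_pow' i two_ne_zero, hi]; norm_num
    have hzk : ∀ k : ℤ, (Even k → z ^ k = 1) ∧ (Odd k → z ^ k = z) := fun k =>
      ⟨fun ⟨l, hl⟩ => by rw [hl, zpow_add, ← (Commute.refl z).mul_zpow, hzz, one_zpow],
        fun ⟨l, hl⟩ => by rw [hl, zpow_add, zpow_mul, zpow_one, zpow_two, hzz, one_zpow, one_mul]⟩
    have hact : ∀ k : ℤ, t * (a : S) ^ k * t⁻¹ = (a : S) ^ k * z ^ k := fun k => by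
      rw [← conj_zpow, ht, Commute.mul_zpow (hzg (a : S))]
    have htA : t ∉ A := fun h => by
      have := hcomm _ h _ haA
      rw [this, mul_inv_cancel_right] at ht
      exact ne_one_of_invol hz2 (left_eq_mul.1 ht)
    have htt : t * t ∈ A := hfix _ (by
      calc t * t * (a : S) * (t * t)⁻¹ = t * (t * a * t⁻¹) * t⁻¹ := by group
        _ = t * (a * z) * t⁻¹ := by rw [ht]
        _ = (t * a * t⁻¹) * (t * z * t⁻¹) := by group
        _ = a := by rw [ht, hzg t, mul_inv_cancel_right, mul_assoc, hzz, mul_one])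
    obtain ⟨k, hk⟩ := hpow _ (inv_mem htt)
    have hkeven : Even k := by
      rcases Int.even_or_odd k with h | h
      · exact h
      · exfalso
        have h1 := hact k
        rw [(hzk k).2 h, hk] at h1
        rw [show t * (t * t)⁻¹ * t⁻¹ = (t * t)⁻¹ by group] at h1
        exact ne_one_of_invol hz2 (left_eq_mul.1 h1)
    obtain ⟨j, hj⟩ := hkeven
    -- a correction making an involution
    obtain ⟨b, hbA, hb⟩ : ∃ b ∈ A, t * b * (t * b) = 1 := by
      rcases Int.even_or_odd j with h | h
      · refine ⟨(a : S) ^ j, zpow_mem haA _, ?_⟩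
        have hc := hcomm _ (zpow_mem haA j) _ htt
        calc t * (a : S) ^ j * (t * (a : S) ^ j)
            = (t * (a : S) ^ j * t⁻¹) * (t * t) * (a : S) ^ j := by group
          _ = (a : S) ^ j * ((t * t) * (a : S) ^ j) := by
            rw [hact, (hzk j).1 h, mul_one, mul_assoc]
          _ = (a : S) ^ j * (a : S) ^ j * (t * t) := by rw [← hc, mul_assoc]
          _ = 1 := by rw [← zpow_add, ← hj, hk, inv_mul_cancel]
      · refine ⟨(a : S) ^ j * i, mul_mem (zpow_mem haA _) hiA, ?_⟩
        have hconj : t * ((a : S) ^ j * i) * t⁻¹ = (a : S) ^ j * z * i := by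
          rw [show t * ((a : S) ^ j * i) * t⁻¹ = (t * (a : S) ^ j * t⁻¹) * (t * i * t⁻¹) by group,
            hact, (hzk j).2 h, hti]
        have hc := hcomm _ (mul_mem (zpow_mem haA j) hiA) _ htt
        calc t * ((a : S) ^ j * i) * (t * ((a : S) ^ j * i))
            = (t * ((a : S) ^ j * i) * t⁻¹) * ((t * t) * ((a : S) ^ j * i)) := by group
          _ = (a : S) ^ j * z * i * ((a : S) ^ j * i * (t * t)) := by rw [hconj, ← hc]
          _ = (a : S) ^ j * (z * (i * (a : S) ^ j)) * i * (t * t) := by group
          _ = (a : S) ^ j * (z * ((a : S) ^ j * i)) * i * (t * t) := by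
            rw [hcomm _ hiA _ (zpow_mem haA j)]
          _ = (a : S) ^ j * ((a : S) ^ j * z) * (i * i) * (t * t) := by rw [hzg]; group
          _ = (a : S) ^ j * (a : S) ^ j * (z * (i * i)) * (t * t) := by group
          _ = 1 := by rw [hti2, hzz, mul_one, ← zpow_add, ← hj, hk, inv_mul_cancel]
    set w := t * b with hw
    have hwA : w ∉ A := fun h => htA (by simpa [hw] using mul_mem h (inv_mem hbA))
    have hwa : w * (a : S) * w⁻¹ = a * z := by
      rw [hw, show t * b * (a : S) * (t * b)⁻¹ = t * (b * a * b⁻¹) * t⁻¹ by group,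
        hcomm _ hbA _ haA, mul_inv_cancel_right, ht]
    have hwact : ∀ k : ℤ, w * (a : S) ^ k * w⁻¹ = (a : S) ^ k * z ^ k := fun k => by
      rw [← conj_zpow, hwa, Commute.mul_zpow (hzg (a : S))]
    refine ⟨w, orderOf_eq_two (fun h => hwA (h ▸ one_mem A)) hb, fun h => hwA (h ▸ hzA), fun g => ?_⟩
    -- the conjugate of `w` also maps `a` to `az`
    obtain ⟨k, hk'⟩ := hpow _ (hAn.conj_mem _ haA g⁻¹)
    rw [inv_inv] at hk'
    have hkodd : Odd k := by
      rcases Int.even_or_odd k with ⟨l, hl⟩ | h
      · exfalso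
        set e := g * (a : S) ^ l * g⁻¹ with he
        have hee : e * e = a := by
          rw [he, show g * (a : S) ^ l * g⁻¹ * (g * (a : S) ^ l * g⁻¹) =
            g * ((a : S) ^ l * (a : S) ^ l) * g⁻¹ by group, ← zpow_add, ← hl, hk']
          group
        obtain ⟨m, hm⟩ := hpow e (hAn.conj_mem _ (zpow_mem haA l) g)
        have h1 := hwact (m + m)
        rw [(hzk _).1 ⟨m, rfl⟩, zpow_add, hm, hee, mul_one, hwa] at h1
        exact ne_one_of_invol hz2 (mul_eq_left.1 h1)
      · exact h
    set w' := g * w * g⁻¹ with hw'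
    have hw'a : w' * (a : S) * w'⁻¹ = a * z := by
      calc w' * (a : S) * w'⁻¹ = g * (w * (g⁻¹ * a * g) * w⁻¹) * g⁻¹ := by rw [hw']; group
        _ = g * ((g⁻¹ * a * g) * z) * g⁻¹ := by rw [← hk', hwact, (hzk k).2 hkodd]
        _ = a * (g * z * g⁻¹) := by group
        _ = a * z := by rw [hzg, mul_inv_cancel_right]
    set e := w' * w with he
    have heA : e ∈ A := hfix _ (by
      calc e * (a : S) * e⁻¹ = w' * (w * a * w⁻¹) * w'⁻¹ := by rw [he]; group
        _ = (w' * a * w'⁻¹) * (w' * z * w'⁻¹) := by rw [hwa]; group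
        _ = a := by rw [hw'a, hzg w', mul_inv_cancel_right, mul_assoc, hzz, mul_one])
    have hw'2 : w' * w' = 1 := by
      rw [hw', show g * w * g⁻¹ * (g * w * g⁻¹) = g * (w * w) * g⁻¹ by group, hw, hb]; group
    have hwe : w * e * w⁻¹ = e⁻¹ := by
      have hwi : w⁻¹ = w := inv_eq_of_mul_eq_one_right hb
      have hwi' : e⁻¹ = w⁻¹ * w'⁻¹ := mul_inv_rev w' w
      rw [hwi', hwi, inv_eq_of_mul_eq_one_right hw'2, he, mul_assoc w, mul_assoc w', hb, mul_one]
    obtain ⟨l, hl⟩ := hpow e heA
    have h1 := hwact l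
    rw [hl, hwe] at h1
    have hee : e = 1 ∨ e = z := by
      rcases Int.even_or_odd l with h | h
      · rw [(hzk l).1 h, mul_one] at h1
        by_cases he1 : e = 1
        · exact Or.inl he1
        · exact Or.inr (hone e heA (orderOf_eq_two he1 (mul_eq_one_iff_eq_inv.2 h1.symm)))
      · exfalso
        rw [(hzk l).2 h] at h1
        have he4 : e ^ 4 = 1 := by
          have : e * e = z⁻¹ := by
            exact eq_inv_of_mul_eq_one_left (by rw [mul_assoc, ← h1, mul_inv_cancel])
          rw [show (4 : ℕ) = 2 * 2 from rfl, pow_mul, sq, sq, this, inv_eq_of_mul_eq_one_right hzz, hzz]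
        -- so `a` has order four and `az` inverts it
        have ha4 : (a : S) ^ (4 * l) = 1 := by
          rw [mul_comm, zpow_mul, hl]; exact_mod_cast he4
        have hdvd : (orderOf (a : S) : ℤ) ∣ 4 := by
          have h := orderOf_dvd_iff_zpow_eq_one.2 ha4
          obtain ⟨q, hq⟩ := IsPGroup.iff_orderOf.1 hS (a : S)
          obtain ⟨r, hr⟩ := h
          rw [hq] at hr ⊢
          push_cast at hr ⊢
          refine IsCoprime.dvd_of_dvd_mul_right ?_ ⟨r, hr⟩
          obtain ⟨l', rfl⟩ := h
          exact IsCoprime.pow_left ⟨-l', 1, by ring⟩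
        have ha4' : orderOf (a : S) ∣ 4 := by exact_mod_cast hdvd
        have hai : orderOf (a : S) = 4 := Nat.dvd_antisymm ha4' (by
          rw [← hi, Subgroup.orderOf_coe, orderOf_eq_card_of_forall_mem_zpowers ha]
          exact (Subgroup.orderOf_mk i hiA) ▸ orderOf_dvd_natCard _)
        rcases eq_of_sq_eq (a := (⟨i, hiA⟩ : A)) (b := a) (by rw [Subgroup.orderOf_mk, hi])
          (by rw [← Subgroup.orderOf_coe, hai]) with h | h <;> rw [Subtype.ext_iff] at h
        · rw [show (a : S) = i from h, hti] at ht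
          exact ne_one_of_invol hz2 (left_eq_mul.1 ht)
        · rw [show (a : S) = i⁻¹ from h] at ht
          rw [show t * i⁻¹ * t⁻¹ = (t * i * t⁻¹)⁻¹ by group, hti] at ht
          exact ne_one_of_invol hz2 (left_eq_mul.1 ht)
    have hfin : w' = e * w⁻¹ := by rw [he, mul_inv_cancel_right]
    rcases hee with h | h
    · exact Or.inl (by rw [hfin, h, one_mul, inv_eq_of_mul_eq_one_right hb])
    · exact Or.inr (by rw [hfin, h, inv_eq_of_mul_eq_one_right hb])
  rcases hclass x (by rw [mul_self_eq_one hx]; exact one_mem A) with hxinv | hxinv | hxinv | ⟨hxa, hxi⟩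
  rotate_left 2
  · exact absurd (hfix x hxinv) hxA
  · exact Or.inl (hsigma x hxa hxi)
  all_goals
    by_cases hall : ∀ g : S, g ∈ A ∨ g * x ∈ A
    · refine Or.inr ⟨A, Subgroup.index_eq_two_iff.2 ⟨x, fun b => ?_⟩, hxA, hone⟩
      rcases hall b with h | h
      · exact Or.inr ⟨h, fun h' => hxA (by simpa using mul_mem (inv_mem h) h')⟩
      · exact Or.inl ⟨h, fun h' => hxA (by simpa using mul_mem (inv_mem h') h)⟩
    · -- find a further element squaring into `A`
      push Not at hall
      obtain ⟨g₀, hg₀, hg₀x⟩ := hall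
      obtain ⟨n, hn⟩ := IsPGroup.iff_orderOf.1 hS g₀
      have hP : ∃ k, g₀ ^ 2 ^ k ∈ A ∨ g₀ ^ 2 ^ k * x ∈ A :=
        ⟨n, Or.inl (by rw [← hn, pow_orderOf_eq_one]; exact one_mem A)⟩
      have hk := Nat.find_spec hP
      have hk0 : Nat.find hP ≠ 0 := fun h => by
        rw [h, pow_zero, pow_one] at hk
        exact hk.elim hg₀ hg₀x
      have hmin := Nat.find_min hP (show Nat.find hP - 1 < Nat.find hP by omega)
      set g := g₀ ^ 2 ^ (Nat.find hP - 1) with hg
      push Not at hmin
      have hgg : g₀ ^ 2 ^ Nat.find hP = g * g := by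
        rw [hg, ← pow_add, ← two_mul, ← pow_succ', Nat.sub_add_cancel (Nat.pos_of_ne_zero hk0)]
      rw [hgg] at hk
      have hAA : ∀ b ∈ A, ∀ u : S, u * b * u⁻¹ ∈ A := fun b hb u => hAn.conj_mem b hb u
      -- `x` inverts elements of order four
      have hxi : ∀ i ∈ A, orderOf i = 4 → x * i * x⁻¹ = i⁻¹ := by
        intro i hiA hi
        rcases eq_of_sq_eq (a := (⟨i, hiA⟩ : A)) (b := ⟨x * i * x⁻¹, hAA i hiA x⟩)
          (by rw [Subgroup.orderOf_mk, hi]) (by rw [Subgroup.orderOf_mk, orderOf_conj, hi]) with h | h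
        · exfalso
          have hxi : x * i * x⁻¹ = i := congrArg Subtype.val h
          obtain ⟨k, hk⟩ := hpow i hiA
          have hconj : x * i * x⁻¹ = (x * (a : S) * x⁻¹) ^ k := by rw [conj_zpow, hk]
          rw [hxinv] at hconj
          first
            | rw [inv_zpow, hk, hxi] at hconj
              have : i ^ 2 = 1 := by rw [sq]; exact mul_eq_one_iff_eq_inv.2 hconj
              exact absurd (orderOf_dvd_of_pow_eq_one this) (by rw [hi]; norm_num)
            | rw [Commute.mul_zpow (hzg (a : S)⁻¹), inv_zpow, hk, hxi] at hconj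
              rcases Int.even_or_odd k with ⟨l, hl⟩ | ⟨l, hl⟩
              · rw [show z ^ k = 1 by
                  rw [hl, zpow_add, ← (Commute.refl z).mul_zpow, hzz, one_zpow], mul_one] at hconj
                have : i ^ 2 = 1 := by rw [sq]; exact mul_eq_one_iff_eq_inv.2 hconj
                exact absurd (orderOf_dvd_of_pow_eq_one this) (by rw [hi]; norm_num)
              · -- an odd power generates, so the group has order four
                have hgen : orderOf (a : S) ∣ 4 := by
                  have h4 : (a : S) ^ (4 * k) = 1 := by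
                    rw [mul_comm, zpow_mul, hk]
                    exact_mod_cast (hi ▸ pow_orderOf_eq_one i : i ^ 4 = 1)
                  have h := orderOf_dvd_iff_zpow_eq_one.2 h4
                  obtain ⟨q, hq⟩ := IsPGroup.iff_orderOf.1 hS (a : S)
                  rw [hq] at h ⊢
                  have h' : ((2 ^ q : ℕ) : ℤ) ∣ 4 := by
                    refine IsCoprime.dvd_of_dvd_mul_right ?_ h
                    push_cast
                    exact IsCoprime.pow_left ⟨-l, 1, by rw [hl]; ring⟩
                  exact_mod_cast h'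
                have hai : orderOf a = 4 := Nat.dvd_antisymm (by rwa [← Subgroup.orderOf_coe])
                  (by rw [orderOf_eq_card_of_forall_mem_zpowers ha, ← hi]
                      exact (Subgroup.orderOf_mk i hiA) ▸ orderOf_dvd_natCard _)
                have haz : (a : S) * a = z := hone _ (mul_mem haA haA) (by
                  rw [← sq, orderOf_pow' _ two_ne_zero, Subgroup.orderOf_coe, hai]; norm_num)
                refine hxA (hfix x ?_)
                rw [hxinv, ← haz, inv_mul_cancel_left]
        · exact congrArg Subtype.val h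
      have hgA : g * g ∈ A := by
        rcases hk with h | h
        · exact h
        · exfalso
          -- then `g²` inverts an element of order four
          by_cases haa : (a : S) * a = 1
          · refine hxA (hfix x ?_)
            have h1 : x * (a : S) * x⁻¹ ∈ A := hAA _ haA x
            by_cases ha1 : (a : S) = 1
            · rw [ha1]; group
            · rw [hone _ h1 (by rw [orderOf_conj, orderOf_eq_two ha1 haa]),
                hone _ haA (orderOf_eq_two ha1 haa)]
          obtain ⟨k, hi⟩ := exists_four_power hS haa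
          set i := (a : S) ^ k
          have hiA : i ∈ A := pow_mem haA k
          have hfix2 : g * g * i * (g * g)⁻¹ = i := by
            rcases eq_of_sq_eq (a := (⟨i, hiA⟩ : A)) (b := ⟨g * i * g⁻¹, hAA i hiA g⟩)
              (by rw [Subgroup.orderOf_mk, hi]) (by rw [Subgroup.orderOf_mk, orderOf_conj, hi]) with
              h' | h' <;>
              rw [Subtype.ext_iff] at h' <;>
              rw [show g * g * i * (g * g)⁻¹ = g * (g * i * g⁻¹) * g⁻¹ by group]
            · rw [show g * i * g⁻¹ = i from h', show g * i * g⁻¹ = i from h']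
            · rw [show g * i * g⁻¹ = i⁻¹ from h', show g * i⁻¹ * g⁻¹ = (g * i * g⁻¹)⁻¹ by group,
                show g * i * g⁻¹ = i⁻¹ from h', inv_inv]
          have hh := hcomm _ h _ hiA
          have h' : x * i * x⁻¹ = i := by
            calc x * i * x⁻¹ = (g * g)⁻¹ * ((g * g * x) * i) * x⁻¹ := by group
              _ = (g * g)⁻¹ * (i * (g * g * x)) * x⁻¹ := by rw [hh]
              _ = (g * g)⁻¹ * (g * g * i * (g * g)⁻¹) * (g * g) := by rw [hfix2]; group
              _ = i := by group
          rw [hxi i hiA hi] at h'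
          have : i ^ 2 = 1 := by rw [sq]; exact mul_eq_one_iff_eq_inv.2 h'.symm
          exact absurd (orderOf_dvd_of_pow_eq_one this) (by rw [hi]; norm_num)
      rcases hclass g hgA with h | h | h | ⟨hga, hgi⟩
      rotate_left 2
      · exact absurd (hfix g h) hmin.1
      · exact Or.inl (hsigma g hga hgi)
      all_goals
        -- the product with `x`
        set t := g * x with ht
        have hta : t * (a : S) * t⁻¹ = a ∨ t * (a : S) * t⁻¹ = a * z := by
          have hzi : z⁻¹ = z := inv_eq_of_mul_eq_one_right hzz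
          rw [ht, show g * x * (a : S) * (g * x)⁻¹ = g * (x * a * x⁻¹) * g⁻¹ by group, hxinv]
          first
            | left
              rw [show g * (a : S)⁻¹ * g⁻¹ = (g * a * g⁻¹)⁻¹ by group, h, inv_inv]
              done
            | left
              rw [show g * ((a : S)⁻¹ * z) * g⁻¹ = (g * a * g⁻¹)⁻¹ * (g * z * g⁻¹) by group, h,
                mul_inv_rev, inv_inv, hzi, hzg g, mul_inv_cancel_right, ← hzg (a : S), mul_assoc,
                hzz, mul_one]
              done
            | right
              rw [show g * ((a : S)⁻¹ * z) * g⁻¹ = (g * a * g⁻¹)⁻¹ * (g * z * g⁻¹) by group, h,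
                inv_inv, hzg g, mul_inv_cancel_right]
              done
            | right
              rw [show g * (a : S)⁻¹ * g⁻¹ = (g * a * g⁻¹)⁻¹ by group, h, mul_inv_rev, inv_inv, hzi,
                hzg]
              done
        rcases hta with h' | h'
        · exact absurd (hfix t h') hmin.2
        · refine Or.inl (hsigma t h' ?_)
          by_cases haa : (a : S) * a = 1
          · exfalso
            refine hxA (hfix x ?_)
            by_cases ha1 : (a : S) = 1
            · rw [ha1]; group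
            · rw [hone _ (hAA _ haA x) (by rw [orderOf_conj, orderOf_eq_two ha1 haa]),
                hone _ haA (orderOf_eq_two ha1 haa)]
          obtain ⟨k, hi⟩ := exists_four_power hS haa
          refine ⟨(a : S) ^ k, pow_mem haA k, hi, ?_⟩
          rcases eq_of_sq_eq (a := (⟨_, pow_mem haA k⟩ : A))
            (b := ⟨g * (a : S) ^ k * g⁻¹, hAA _ (pow_mem haA k) g⟩)
            (by rw [Subgroup.orderOf_mk, hi]) (by rw [Subgroup.orderOf_mk, orderOf_conj, hi]) with
            h'' | h'' <;> rw [Subtype.ext_iff] at h''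
          · exfalso
            -- `g` fixes an element of order four, so it cannot invert
            obtain h'' : g * (a : S) ^ k * g⁻¹ = (a : S) ^ k := h''
            have h3 : t * (a : S) ^ k * t⁻¹ = ((a : S) ^ k)⁻¹ := by
              rw [ht, show g * x * (a : S) ^ k * (g * x)⁻¹ = g * (x * (a : S) ^ k * x⁻¹) * g⁻¹ by group,
                hxi _ (pow_mem haA k) hi,
                show g * ((a : S) ^ k)⁻¹ * g⁻¹ = (g * (a : S) ^ k * g⁻¹)⁻¹ by group, h'']
            have h4 : t * (a : S) ^ k * t⁻¹ = (a : S) ^ k * z ^ k := by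
              rw [← conj_pow, h', Commute.mul_pow (hzg (a : S))]
            rcases Nat.even_or_odd k with ⟨l, hl⟩ | hko
            · rw [h3, hl, pow_add z, ← (Commute.refl z).mul_pow, hzz, one_pow, mul_one, ← hl] at h4
              have : ((a : S) ^ k) ^ 2 = 1 := by rw [sq]; exact mul_eq_one_iff_eq_inv.2 h4.symm
              exact absurd (orderOf_dvd_of_pow_eq_one this) (by rw [hi]; norm_num)
            · -- `a` itself has order four
              have hai : orderOf (a : S) = 4 := by
                obtain ⟨q, hq⟩ := IsPGroup.iff_orderOf.1 hS (a : S)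
                rw [orderOf_pow' _ (by obtain ⟨l, rfl⟩ := hko; omega), hq] at hi
                rwa [show Nat.gcd (2 ^ q) k = 1 from
                  ((Nat.coprime_two_left.2 hko).pow_left q), Nat.div_one, ← hq] at hi
              have haz : (a : S) * a = z := hone _ (mul_mem haA haA) (by
                rw [← sq, orderOf_pow' _ two_ne_zero, hai]; norm_num)
              obtain ⟨l, hl⟩ := hpow ((a : S) ^ k) (pow_mem haA k)
              have h5 : g * (a : S) * g⁻¹ = a := by
                rcases eq_of_sq_eq (a := (⟨_, pow_mem haA k⟩ : A)) (b := a)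
                  (by rw [Subgroup.orderOf_mk, hi]) (by rw [← Subgroup.orderOf_coe, hai]) with e | e <;>
                  rw [Subtype.ext_iff] at e
                · rw [show (a : S) = (a : S) ^ k from e]; exact h''
                · rw [show (a : S) = ((a : S) ^ k)⁻¹ from e]
                  calc g * ((a : S) ^ k)⁻¹ * g⁻¹ = (g * (a : S) ^ k * g⁻¹)⁻¹ := by group
                    _ = _ := by rw [h'']
              exact hmin.1 (hfix g h5)
          · obtain h'' : g * (a : S) ^ k * g⁻¹ = ((a : S) ^ k)⁻¹ := h''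
            rw [ht, show g * x * (a : S) ^ k * (g * x)⁻¹ = g * (x * (a : S) ^ k * x⁻¹) * g⁻¹ by group,
              hxi _ (pow_mem haA k) hi,
              show g * ((a : S) ^ k)⁻¹ * g⁻¹ = (g * (a : S) ^ k * g⁻¹)⁻¹ by group, h'', inv_inv]

end CfsgLib.Invol.SmallCent
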