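import Mathlib.Algebra.BigOperators.Ring.Finset
import Mathlib.Algebra.Order.BigOperators.Group.Finset
import Mathlib.Data.Fintype.Card
import Mathlib.Tactic.Linarith
import Mathlib.Tactic.IntervalCases
import Mathlib.Tactic.Ring

/-!
# Families of integral vectors of norm three with mutual products two

At least five such vectors have two common entries and one private entry each.
-/

set_option autoImplicit false

namespace CfsgLib.Invol.Sunflower

variable {ι κ : Type*} [Fintype ι] [Fintype κ] [DecidableEq κ]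

theorem entries {u : κ → ℤ} (h : ∑ k, u k * u k = 3) :
    (∀ k, u k ≠ 0 → u k * u k = 1) ∧ (Finset.univ.filter fun k => u k ≠ 0).card = 3 := by
  have hsq : ∀ k, u k ≠ 0 → u k * u k = 1 := by
    intro k hk
    have hle : u k * u k ≤ 3 := h ▸ Finset.single_le_sum
      (f := fun j => u j * u j) (fun j _ => mul_self_nonneg (u j)) (Finset.mem_univ k)
    have h1 : u k < 2 := by nlinarith
    have h2 : -2 < u k := by nlinarith
    interval_cases (u k) <;> simp_all
  refine ⟨hsq, ?_⟩
  rw [← Finset.sum_filter_of_ne (p := fun k => u k ≠ 0) (fun k _ hk => left_ne_zero_of_mul hk)] at h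
  rw [Finset.sum_congr rfl fun k hk => hsq k (Finset.mem_filter.1 hk).2, Finset.sum_const] at h
  rw [nsmul_eq_mul, mul_one] at h
  exact_mod_cast h

theorem inter {u v : κ → ℤ} (hu : ∑ k, u k * u k = 3) (hv : ∑ k, v k * v k = 3)
    (h : ∑ k, u k * v k = 2) :
    ((Finset.univ.filter fun k => u k ≠ 0) ∩ Finset.univ.filter fun k => v k ≠ 0).card = 2 ∧
      ∀ k, u k ≠ 0 → v k ≠ 0 → u k = v k := by
  obtain ⟨hu1, huc⟩ := entries hu
  obtain ⟨hv1, hvc⟩ := entries hv
  set T := (Finset.univ.filter fun k => u k ≠ 0) ∩ Finset.univ.filter fun k => v k ≠ 0 with hT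
  have hmem : ∀ k, k ∈ T ↔ u k ≠ 0 ∧ v k ≠ 0 := fun k => by simp [hT]
  have hsum : ∑ k ∈ T, u k * v k = 2 := by
    rw [← h]
    refine Finset.sum_subset (Finset.subset_univ T) fun k _ hk => ?_
    rw [hmem, not_and_or, not_not, not_not] at hk
    rcases hk with hk | hk <;> rw [hk] <;> ring
  have hle : ∀ k ∈ T, u k * v k = 1 ∨ u k * v k = -1 := fun k hk => by
    obtain ⟨a, b⟩ := (hmem k).1 hk
    rcases mul_self_eq_one_iff.1 (hu1 k a) with e | e <;>
      rcases mul_self_eq_one_iff.1 (hv1 k b) with e' | e' <;> rw [e, e'] <;> norm_num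
  have hT3 : T.card ≤ 3 := huc ▸ Finset.card_le_card (Finset.inter_subset_left)
  set A := T.filter fun k => u k * v k = 1 with hA
  set D := T.filter fun k => ¬ u k * v k = 1 with hD
  have hcard : A.card + D.card = T.card := Finset.card_filter_add_card_filter_not _
  have hs : (A.card : ℤ) - D.card = 2 := by
    rw [← hsum, ← Finset.sum_filter_add_sum_filter_not T (fun k => u k * v k = 1), hA, hD,
      Finset.sum_congr rfl fun k hk => (Finset.mem_filter.1 hk).2,
      Finset.sum_congr (rfl : T.filter (fun k => ¬ u k * v k = 1) = _) fun k hk =>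
        (hle k (Finset.mem_filter.1 hk).1).resolve_left (Finset.mem_filter.1 hk).2]
    simp [sub_eq_add_neg]
  refine ⟨by omega, fun k a b => ?_⟩
  have hk : u k * v k = 1 := by
    rcases hle k ((hmem k).2 ⟨a, b⟩) with e | e
    · exact e
    · exfalso
      have : 0 < D.card := Finset.card_pos.2 ⟨k, Finset.mem_filter.2 ⟨(hmem k).2 ⟨a, b⟩,
        by rw [e]; norm_num⟩⟩
      omega
  have h2 := hv1 k b
  calc u k = u k * (v k * v k) := by rw [h2, mul_one]
    _ = v k := by rw [← mul_assoc, hk, one_mul]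

/-- Five norm-three vectors with mutual products two form a sunflower. -/
theorem exists_core (v : ι → κ → ℤ) (hnorm : ∀ i, ∑ k, v i k * v i k = 3)
    (hip : ∀ i j, v i ≠ v j → ∑ k, v i k * v j k = 2) (h5 : 5 ≤ (Finset.univ.image v).card) :
    ∃ c₁ c₂ : κ, c₁ ≠ c₂ ∧ ∃ ε₁ ε₂ : ℤ, ε₁ * ε₁ = 1 ∧ ε₂ * ε₂ = 1 ∧
      ∀ i, ∃ p δ, p ≠ c₁ ∧ p ≠ c₂ ∧ δ * δ = 1 ∧
        v i = fun k => if k = c₁ then ε₁ else if k = c₂ then ε₂ else if k = p then δ else 0 := by
  classical
  set F := Finset.univ.image v with hF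
  let s : (κ → ℤ) → Finset κ := fun u => Finset.univ.filter fun k => u k ≠ 0
  have hn : ∀ u ∈ F, ∑ k, u k * u k = 3 := fun u hu => by
    obtain ⟨i, -, rfl⟩ := Finset.mem_image.1 hu
    exact hnorm i
  have hp : ∀ u ∈ F, ∀ w ∈ F, u ≠ w → ∑ k, u k * w k = 2 := fun u hu w hw hne => by
    obtain ⟨i, -, rfl⟩ := Finset.mem_image.1 hu
    obtain ⟨j, -, rfl⟩ := Finset.mem_image.1 hw
    exact hip i j hne
  have h3 : ∀ u ∈ F, (s u).card = 3 := fun u hu => (entries (hn u hu)).2
  have h2 : ∀ u ∈ F, ∀ w ∈ F, u ≠ w → (s u ∩ s w).card = 2 := fun u hu w hw hne =>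
    (inter (hn u hu) (hn w hw) (hp u hu w hw hne)).1
  have hsinj : ∀ u ∈ F, ∀ w ∈ F, s u = s w → u = w := fun u hu w hw he => by
    by_contra hne
    have := h2 u hu w hw hne
    rw [he, Finset.inter_self, h3 w hw] at this
    norm_num at this
  obtain ⟨a, ha, b, hb, hab⟩ := Finset.one_lt_card.1 (show 1 < F.card by omega)
  obtain ⟨c₁, c₂, hc, hC⟩ := Finset.card_eq_two.1 (h2 a ha b hb hab)
  have hcore : ∀ u ∈ F, c₁ ∈ s u ∧ c₂ ∈ s u := by
    by_contra hbad
    push Not at hbad
    obtain ⟨j, hj, hjbad⟩ := hbad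
    have hja : j ≠ a := by
      rintro rfl
      have h1 : c₁ ∈ s j ∩ s b := hC ▸ Finset.mem_insert_self _ _
      have h2' : c₂ ∈ s j ∩ s b := hC ▸ Finset.mem_insert_of_mem (Finset.mem_singleton_self _)
      exact hjbad (Finset.mem_inter.1 h1).1 (Finset.mem_inter.1 h2').1
    have hjb : j ≠ b := by
      rintro rfl
      have h1 : c₁ ∈ s a ∩ s j := hC ▸ Finset.mem_insert_self _ _
      have h2' : c₂ ∈ s a ∩ s j := hC ▸ Finset.mem_insert_of_mem (Finset.mem_singleton_self _)
      exact hjbad (Finset.mem_inter.1 h1).2 (Finset.mem_inter.1 h2').2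
    set U := s a ∪ s b with hU
    have hUc : U.card = 4 := by
      have := Finset.card_union_add_card_inter (s a) (s b)
      rw [h2 a ha b hb hab, h3 a ha, h3 b hb, ← hU] at this
      omega
    have hthree : (s a ∩ s b ∩ s j).card ≤ 1 := by
      by_contra h
      push Not at h
      have he : s a ∩ s b ∩ s j = s a ∩ s b := Finset.eq_of_subset_of_card_le
        Finset.inter_subset_left (by rw [h2 a ha b hb hab]; omega)
      exact hjbad (Finset.mem_inter.1 (show c₁ ∈ s a ∩ s b ∩ s j by rw [he, hC]; simp)).2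
        (Finset.mem_inter.1 (show c₂ ∈ s a ∩ s b ∩ s j by rw [he, hC]; simp)).2
    have hcount : ∀ X : Finset κ, (X ∩ s a).card + (X ∩ s b).card =
        (X ∩ U).card + (X ∩ (s a ∩ s b)).card := fun X => by
      rw [hU, Finset.inter_union_distrib_left, Finset.inter_inter_distrib_left,
        Finset.card_union_add_card_inter]
    have hjU : s j ⊆ U := by
      have h1 := hcount (s j)
      rw [h2 j hj a ha hja, h2 j hj b hb hjb, Finset.inter_comm (s j) (s a ∩ s b)] at h1
      have h2' : (s j ∩ U).card ≤ (s j).card := Finset.card_le_card Finset.inter_subset_left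
      rw [h3 j hj] at h2'
      exact Finset.inter_eq_left.1 (Finset.eq_of_subset_of_card_le Finset.inter_subset_left
        (by rw [h3 j hj]; omega))
    have hall : ∀ u ∈ F, s u ⊆ U := by
      intro u hu
      by_cases hua : u = a
      · rw [hua]; exact Finset.subset_union_left
      by_cases hub : u = b
      · rw [hub]; exact Finset.subset_union_right
      by_cases huj : u = j
      · rw [huj]; exact hjU
      by_contra hnU
      have hlt : (s u ∩ U).card < 3 := by
        by_contra h
        push Not at h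
        exact hnU (Finset.inter_eq_left.1 (Finset.eq_of_subset_of_card_le Finset.inter_subset_left
          (by rw [h3 u hu]; exact h)))
      have key : ∀ w ∈ F, u ≠ w → s w ⊆ U → s u ∩ U ⊆ s w := by
        intro w hw hne hwU
        have he : s u ∩ s w = s u ∩ U := Finset.eq_of_subset_of_card_le
          (Finset.inter_subset_inter_left hwU) (by rw [h2 u hu w hw hne]; omega)
        exact he ▸ Finset.inter_subset_right
      have hsub : s u ∩ U ⊆ s a ∩ s b ∩ s j :=
        Finset.subset_inter (Finset.subset_inter (key a ha hua Finset.subset_union_left)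
          (key b hb hub Finset.subset_union_right)) (key j hj huj hjU)
      have hge : 2 ≤ (s u ∩ U).card := h2 u hu a ha hua ▸ Finset.card_le_card
        (Finset.inter_subset_inter_left Finset.subset_union_left)
      have := Finset.card_le_card hsub
      omega
    have hle : F.card ≤ (U.powersetCard 3).card :=
      Finset.card_le_card_of_injOn s (fun u hu => Finset.mem_powersetCard.2 ⟨hall u hu, h3 u hu⟩)
        (fun u hu w hw he => hsinj u hu w hw he)
    rw [Finset.card_powersetCard, hUc] at hle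
    have : Nat.choose 4 3 = 4 := rfl
    omega
  have hne : ∀ u ∈ F, u c₁ ≠ 0 ∧ u c₂ ≠ 0 := fun u hu =>
    ⟨(Finset.mem_filter.1 (hcore u hu).1).2, (Finset.mem_filter.1 (hcore u hu).2).2⟩
  have hval : ∀ u ∈ F, u c₁ = a c₁ ∧ u c₂ = a c₂ := fun u hu => by
    by_cases hua : u = a
    · rw [hua]; exact ⟨rfl, rfl⟩
    · have h := (inter (hn u hu) (hn a ha) (hp u hu a ha hua)).2
      exact ⟨h c₁ (hne u hu).1 (hne a ha).1, h c₂ (hne u hu).2 (hne a ha).2⟩
  refine ⟨c₁, c₂, hc, a c₁, a c₂, (entries (hn a ha)).1 _ (hne a ha).1,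
    (entries (hn a ha)).1 _ (hne a ha).2, fun i => ?_⟩
  have hi : v i ∈ F := Finset.mem_image_of_mem v (Finset.mem_univ i)
  obtain ⟨p, hp'⟩ : ∃ p, ((s (v i)).erase c₁).erase c₂ = {p} := Finset.card_eq_one.1 (by
    rw [Finset.card_erase_of_mem (Finset.mem_erase.2 ⟨hc.symm, (hcore _ hi).2⟩),
      Finset.card_erase_of_mem (hcore _ hi).1, h3 _ hi])
  have hpm : p ∈ ((s (v i)).erase c₁).erase c₂ := hp' ▸ Finset.mem_singleton_self p
  simp only [Finset.mem_erase] at hpm
  refine ⟨p, v i p, hpm.2.1, hpm.1, (entries (hn _ hi)).1 p (Finset.mem_filter.1 hpm.2.2).2, ?_⟩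
  funext k
  split_ifs with h1 h2 h3
  · rw [h1, (hval _ hi).1]
  · rw [h2, (hval _ hi).2]
  · rw [h3]
  · by_contra h
    have : k ∈ ((s (v i)).erase c₁).erase c₂ := by
      simp only [Finset.mem_erase, s, Finset.mem_filter, Finset.mem_univ, true_and]
      exact ⟨h2, h1, h⟩
    rw [hp', Finset.mem_singleton] at this
    exact h3 this

end CfsgLib.Invol.Sunflower
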