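import Cfsg.Agent.Lib.Components.SylowCentralizer
import Mathlib.GroupTheory.SemidirectProduct
import Mathlib.GroupTheory.Solvable
import Cfsg.Prelude.Def_KGroupFacts

/-!
Automorphisms of a group with trivial core centralizing a Sylow 2-subgroup.
-/

set_option autoImplicit false
set_option linter.style.haveILetI false

open Subgroup

namespace CfsgLib.SylowCentAut

universe u

variable {G : Type u} [Group G] [Finite G]

/-- A 2-element commutator of two automorphisms centralizing a Sylow 2-subgroup is trivial,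
when `O_{2'}(G) = 1`. -/
theorem comm_eq_one (hO : ∀ N : Subgroup G, N.Normal → Odd (Nat.card N) → N = ⊥) (S : Sylow 2 G)
    {C : Subgroup (MulAut G)} (hC : ∀ φ : MulAut G, φ ∈ C → ∀ s : G, s ∈ S → φ s = s)
    (x q : C) {j : ℕ} (hj : (q * x * q⁻¹ * x⁻¹) ^ 2 ^ j = 1) : q * x * q⁻¹ * x⁻¹ = 1 := by
  classical
  haveI : Fact (Nat.Prime 2) := ⟨Nat.prime_two⟩
  let φ : ↥C →* MulAut G := C.subtype
  haveI : Finite (G ⋊[φ] ↥C) := Finite.of_equiv _ SemidirectProduct.equivProd.symm
  let i : G →* G ⋊[φ] ↥C := SemidirectProduct.inl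
  have hi : Function.Injective i := SemidirectProduct.inl_injective
  haveI : i.range.Normal := by
    show (SemidirectProduct.inl : G →* G ⋊[φ] ↥C).range.Normal
    rw [SemidirectProduct.range_inl_eq_ker_rightHom]
    infer_instance
  have hEO : Cfsg.pPrimeCore 2 ↥i.range = ⊥ := by
    let e : G ≃* ↥i.range := MonoidHom.ofInjective hi
    haveI hn : (Cfsg.pPrimeCore 2 ↥i.range).Normal := inferInstance
    have h := hO ((Cfsg.pPrimeCore 2 ↥i.range).comap e.toMonoidHom) (hn.comap _) (by
      rw [← Subgroup.card_map_of_injective (f := e.toMonoidHom) e.injective,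
        Subgroup.map_comap_eq_self_of_surjective (f := e.toMonoidHom) e.surjective]
      exact Nat.coprime_two_right.mp (CfsgLib.Components.coprime_card_pPrimeCore 2))
    rw [← Subgroup.map_comap_eq_self_of_surjective (f := e.toMonoidHom) e.surjective
      (Cfsg.pPrimeCore 2 ↥i.range), h, Subgroup.map_bot]
  have hcent : ∀ c : C, (SemidirectProduct.inr c : G ⋊[φ] ↥C) ∈
      centralizer (((S : Subgroup G).map i : Subgroup (G ⋊[φ] ↥C)) : Set (G ⋊[φ] ↥C)) := by
    rintro c _ ⟨s, hs, rfl⟩
    have h : (SemidirectProduct.inl ((φ c) s) : G ⋊[φ] ↥C) =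
        SemidirectProduct.inr c * SemidirectProduct.inl s * SemidirectProduct.inr c⁻¹ :=
      SemidirectProduct.inl_aut c s
    have hfix : (φ c) s = s := hC c c.2 s hs
    rw [hfix, map_inv] at h
    show SemidirectProduct.inl s * SemidirectProduct.inr c = SemidirectProduct.inr c * SemidirectProduct.inl s
    conv_lhs => rw [h]
    group
  have hidx : ¬ 2 ∣ ((S : Subgroup G).map i).relIndex i.range := by
    rw [MonoidHom.range_eq_map, Subgroup.relIndex_map_map_of_injective _ _ hi,
      Subgroup.relIndex_top_right]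
    exact S.not_dvd_index
  have hpow : ((SemidirectProduct.inr q : G ⋊[φ] ↥C) * SemidirectProduct.inr x *
      (SemidirectProduct.inr q)⁻¹ * (SemidirectProduct.inr x)⁻¹) ^ 2 ^ j = 1 := by
    simp only [← map_inv, ← map_mul, ← map_pow, hj, map_one]
  have hy := CfsgLib.Components.commutator_mem_centralizer i.range hEO
    (S := (S : Subgroup G).map i) (Subgroup.map_le_range _ _) (S.isPGroup'.map _) hidx
    (hcent x) (hcent q) hpow
  simp only [← map_inv, ← map_mul] at hy
  set y : C := q * x * q⁻¹ * x⁻¹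
  refine Subtype.ext (MulEquiv.ext fun g => ?_)
  have h1 := hy (i g) ⟨g, rfl⟩
  have h2 : (SemidirectProduct.inl ((φ y) g) : G ⋊[φ] ↥C) =
      SemidirectProduct.inr y * SemidirectProduct.inl g * SemidirectProduct.inr y⁻¹ :=
    SemidirectProduct.inl_aut y g
  rw [map_inv] at h2
  have h3 : (SemidirectProduct.inl ((φ y) g) : G ⋊[φ] ↥C) = SemidirectProduct.inl g := by
    rw [h2, mul_inv_eq_iff_eq_mul]
    exact h1.symm
  exact SemidirectProduct.inl_injective h3

/-- Glauberman: the group of automorphisms centralizing a Sylow 2-subgroup of a group with trivial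
core has abelian Sylow 2-subgroups and a normal 2-complement. -/
theorem abelian_sylow_and_complement
    (hO : ∀ N : Subgroup G, N.Normal → Odd (Nat.card N) → N = ⊥) (S : Sylow 2 G)
    {C : Subgroup (MulAut G)} (hC : ∀ φ : MulAut G, φ ∈ C → ∀ s : G, s ∈ S → φ s = s)
    (T : Sylow 2 ↥C) : (∀ a b : ↥T, a * b = b * a) ∧
      ∃ N : Subgroup ↥C, N.Normal ∧ Subgroup.IsComplement' N (T : Subgroup ↥C) := by
  haveI : Fact (Nat.Prime 2) := ⟨Nat.prime_two⟩
  have hcomm : ∀ n : C, n ∈ normalizer ((T : Subgroup C) : Set C) → ∀ t ∈ (T : Subgroup C),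
      n * t = t * n := by
    intro n hn t ht
    obtain ⟨j, hj⟩ := CfsgLib.Components.twoElement_of_mem T.isPGroup'
      (mul_mem ((mem_normalizer_iff.mp hn t).mp ht) (inv_mem ht))
    have h := comm_eq_one hO S hC t n hj
    rwa [mul_inv_eq_one, mul_inv_eq_iff_eq_mul] at h
  refine ⟨fun a b => Subtype.ext (hcomm _ (le_normalizer a.2) _ b.2), ?_⟩
  have hcen : normalizer ((T : Subgroup C) : Set C) ≤ centralizer ((T : Subgroup C) : Set C) :=
    fun n hn t ht => (hcomm n hn t ht).symm
  exact ⟨(MonoidHom.transferSylow T hcen).ker, inferInstance,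
    MonoidHom.ker_transferSylow_isComplement' T hcen⟩

/-- Given the odd order theorem, that group is solvable. -/
theorem isSolvable
    (hFT : ∀ (X : Type u) [Group X] [Finite X], Odd (Nat.card X) → Group.IsSolvable X)
    (hO : ∀ N : Subgroup G, N.Normal → Odd (Nat.card N) → N = ⊥) (S : Sylow 2 G)
    {C : Subgroup (MulAut G)} (hC : ∀ φ : MulAut G, φ ∈ C → ∀ s : G, s ∈ S → φ s = s) :
    Group.IsSolvable ↥C := by
  haveI : Fact (Nat.Prime 2) := ⟨Nat.prime_two⟩
  obtain ⟨T⟩ : Nonempty (Sylow 2 ↥C) := inferInstance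
  obtain ⟨hab, N, hNn, hcompl⟩ := abelian_sylow_and_complement hO S hC T
  haveI := hNn
  have hodd : Odd (Nat.card N) := by
    rw [← hcompl.index_eq_card, ← Nat.not_even_iff_odd, even_iff_two_dvd]
    exact T.not_dvd_index
  haveI : Group.IsSolvable ↥N := hFT ↥N hodd
  haveI : Group.IsSolvable ↥(T : Subgroup ↥C) := Group.isSolvable_of_comm hab
  haveI : Group.IsSolvable (↥C ⧸ N) :=
    Group.isSolvable_of_surjective (f := hcompl.symm.QuotientMulEquiv.symm.toMonoidHom)
      hcompl.symm.QuotientMulEquiv.symm.surjective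
  exact Group.isSolvable_of_ker_le_range N.subtype (QuotientGroup.mk' N)
    (by rw [QuotientGroup.ker_mk', Subgroup.range_subtype])

/-- Given the odd order theorem: for a nonabelian simple group with solvable `Aut S`, `S` a Sylow
2-subgroup, the outer automorphism group is solvable. -/
theorem out_isSolvable
    (hFT : ∀ (X : Type u) [Group X] [Finite X], Odd (Nat.card X) → Group.IsSolvable X)
    [IsSimpleGroup G] (S : Sylow 2 G) (hS1 : (S : Subgroup G) ≠ ⊥)
    (hS : Group.IsSolvable (MulAut ↥S)) : Group.IsSolvable (Cfsg.Out G) := by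
  haveI : Fact (Nat.Prime 2) := ⟨Nat.prime_two⟩
  haveI : Finite (MulAut G) := inferInstance
  have hO : ∀ N : Subgroup G, N.Normal → Odd (Nat.card N) → N = ⊥ := by
    intro N hN hodd
    refine hN.eq_bot_or_eq_top.resolve_right fun h => ?_
    obtain ⟨n, hn⟩ := IsPGroup.iff_card.mp S.isPGroup'
    have h2 : 2 ∣ Nat.card G := by
      refine dvd_trans ?_ (Subgroup.card_subgroup_dvd_card (S : Subgroup G))
      rw [hn]
      refine dvd_pow_self 2 fun h0 => hS1 (Subgroup.card_eq_one.mp ?_)
      rw [hn, h0, pow_zero]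
    rw [h, Subgroup.card_top] at hodd
    exact Nat.not_even_iff_odd.mpr hodd (even_iff_two_dvd.mpr h2)
  let NA : Subgroup (MulAut G) :=
    { carrier := {φ | (S : Subgroup G).map φ.toMonoidHom = S}
      one_mem' := Subgroup.map_id _
      mul_mem' := fun {a b} ha hb => by
        show (S : Subgroup G).map (a.toMonoidHom.comp b.toMonoidHom) = S
        rw [← Subgroup.map_map, show (S : Subgroup G).map b.toMonoidHom = S from hb]
        exact ha
      inv_mem' := fun {a} ha => by
        show (S : Subgroup G).map a.symm.toMonoidHom = S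
        conv_lhs => rw [← show (S : Subgroup G).map a.toMonoidHom = S from ha]
        rw [Subgroup.map_map]
        convert Subgroup.map_id _
        ext x
        simp }
  have hmem : ∀ φ : NA, ∀ s ∈ (S : Subgroup G), (φ : MulAut G) s ∈ (S : Subgroup G) := by
    intro φ s hs
    have h : (φ : MulAut G) s ∈ (S : Subgroup G).map (φ : MulAut G).toMonoidHom := ⟨s, hs, rfl⟩
    rwa [show (S : Subgroup G).map (φ : MulAut G).toMonoidHom = S from φ.2] at h
  let res : NA →* MulAut ↥(S : Subgroup G) :=
    { toFun := fun φ =>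
        { toFun := fun s => ⟨(φ : MulAut G) s, hmem φ s s.2⟩
          invFun := fun s => ⟨((φ⁻¹ : NA) : MulAut G) s, hmem φ⁻¹ s s.2⟩
          left_inv := fun s => Subtype.ext ((φ : MulAut G).symm_apply_apply _)
          right_inv := fun s => Subtype.ext ((φ : MulAut G).apply_symm_apply _)
          map_mul' := fun a b => Subtype.ext (map_mul (φ : MulAut G) (a : G) (b : G)) }
      map_one' := rfl
      map_mul' := fun _ _ => rfl }
  let C : Subgroup (MulAut G) := res.ker.map NA.subtype
  have hC : ∀ φ : MulAut G, φ ∈ C → ∀ s : G, s ∈ S → φ s = s := by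
    rintro _ ⟨φ, hφ, rfl⟩ s hs
    have h : res φ = 1 := hφ
    exact congrArg Subtype.val (DFunLike.congr_fun h ⟨s, hs⟩)
  haveI : Group.IsSolvable ↥C := isSolvable hFT hO S hC
  haveI : Group.IsSolvable ↥res.ker :=
    Group.isSolvable_of_isSolvable_injective
      (f := (res.ker.equivMapOfInjective NA.subtype NA.subtype_injective).toMonoidHom)
      (res.ker.equivMapOfInjective NA.subtype NA.subtype_injective).injective
  haveI := hS
  haveI : Group.IsSolvable ↥NA :=
    Group.isSolvable_of_ker_le_range res.ker.subtype res (Subgroup.range_subtype _).ge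
  refine Group.isSolvable_of_surjective (f := (QuotientGroup.mk' (Cfsg.Inn G)).comp NA.subtype) ?_
  intro q
  obtain ⟨φ, rfl⟩ := QuotientGroup.mk'_surjective (Cfsg.Inn G) q
  let S' : Sylow 2 G := S.mapSurjective (f := φ.toMonoidHom) φ.surjective
  obtain ⟨g, hg⟩ := MulAction.exists_smul_eq G S' S
  have hψ : MulAut.conj g * φ ∈ NA := by
    show (S : Subgroup G).map ((MulAut.conj g).toMonoidHom.comp φ.toMonoidHom) = S
    rw [← Subgroup.map_map]
    have h := congrArg (fun P : Sylow 2 G => (P : Subgroup G)) hg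
    simp only [Sylow.coe_subgroup_smul] at h
    rw [← Sylow.coe_mapSurjective (f := φ.toMonoidHom) φ.surjective S]
    exact h
  refine ⟨⟨_, hψ⟩, ?_⟩
  show QuotientGroup.mk' (Cfsg.Inn G) (MulAut.conj g * φ) = QuotientGroup.mk' (Cfsg.Inn G) φ
  rw [map_mul, show QuotientGroup.mk' (Cfsg.Inn G) (MulAut.conj g) = 1 from
    (QuotientGroup.eq_one_iff _).mpr ⟨g, rfl⟩, one_mul]

end CfsgLib.SylowCentAut
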